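import Cfsg.Agent.InvChar68.CharTools
import Cfsg.Agent.Lib.CharClifford.Galois
import Cfsg.Agent.BC87.Basic
import Cfsg.Agent.S0840

/-!
# Integral columns of the character table
-/

set_option autoImplicit false

namespace Cfsg.Agent.BC87.Sym6

universe u

open Subgroup
open scoped ComplexConjugate

variable {G : Type u} [Group G]

/-- Every irreducible character takes an integral value at `g`. -/
def IsInt (g : G) : Prop := ∀ χ : Cfsg.IrrCharacter G, ∃ k : ℤ, (χ : G → ℂ) g = k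

/-- The value of a character, as an integer (meaningful when it is one). -/
noncomputable def val (χ : Cfsg.IrrCharacter G) (g : G) : ℤ := ⌊((χ : G → ℂ) g).re⌋

theorem IsInt.coe_val {g : G} (h : IsInt g) (χ : Cfsg.IrrCharacter G) :
    (val χ g : ℂ) = (χ : G → ℂ) g := by
  obtain ⟨k, hk⟩ := h χ
  simp [val, hk]

theorem isInt_one : IsInt (1 : G) := fun χ =>
  ⟨Cfsg.charDegree (χ : G → ℂ), by rw [BC87.apply_one_eq χ]; simp⟩

theorem val_one_eq (χ : Cfsg.IrrCharacter G) : val χ 1 = Cfsg.charDegree (χ : G → ℂ) := by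
  simp [val, BC87.apply_one_eq χ]

theorem val_one_pos (χ : Cfsg.IrrCharacter G) : 0 < val χ 1 := by
  rw [val_one_eq]; exact_mod_cast BC87.charDegree_pos χ

theorem val_triv (g : G) : val (BC87.triv G) g = 1 := by simp [val]

variable [Finite G]

theorem val_eq_of_isConj (χ : Cfsg.IrrCharacter G) {g h : G} (hgh : IsConj g h) :
    val χ g = val χ h := by
  obtain ⟨c, rfl⟩ := isConj_iff.mp hgh
  simp only [val, CharCore.irr_isClassFunction χ g c]

theorem IsInt.of_isConj {g h : G} (hg : IsInt g) (hgh : IsConj g h) : IsInt h := fun χ => by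
  obtain ⟨c, rfl⟩ := isConj_iff.mp hgh
  rw [CharCore.irr_isClassFunction χ g c]; exact hg χ

theorem isInt_of_order_two {g : G} (hg : orderOf g = 2) : IsInt g := fun χ => by
  obtain ⟨a, ha, -⟩ := InvChar68.exists_int_value_involution hg χ (BC87.apply_one_eq χ)
  exact ⟨a, ha⟩

theorem isInt_of_real {g : G} (h6 : orderOf g ∣ 6) (hinv : IsConj g g⁻¹) : IsInt g := by
  intro χ
  refine CharClifford.exists_int_of_fixed
    (CharCore.IsCharacter.isIntegral (CharCore.irr_isCharacter χ) g) fun σ => ?_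
  obtain ⟨m, hm, hσ⟩ :=
    CharClifford.exists_coprime_map_isCharacter (CharCore.irr_isCharacter χ) σ
  have hcop : m.Coprime (orderOf g) := Nat.Coprime.of_dvd_right (_root_.orderOf_dvd_natCard g) hm
  rw [hσ g, ← pow_mod_orderOf]
  have hpos : 0 < orderOf g := orderOf_pos g
  have hcop' : (m % orderOf g).Coprime (orderOf g) := by
    rw [Nat.Coprime, ← Nat.gcd_rec, Nat.gcd_comm]; exact hcop
  have hlt : m % orderOf g < orderOf g := Nat.mod_lt _ hpos
  have hle : orderOf g ≤ 6 := Nat.le_of_dvd (by norm_num) h6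
  have hcases : m % orderOf g = orderOf g - 1 ∨ m % orderOf g = 1 := by
    revert hcop' hlt
    generalize m % orderOf g = r
    revert hle h6 hpos
    generalize orderOf g = n
    intro hn1 hn3 hn2 hcop' hlt
    interval_cases n <;> interval_cases r <;> simp_all (config := { decide := true })
  rcases hcases with h | h <;> rw [h]
  · have hinv' : g ^ (orderOf g - 1) = g⁻¹ := by
      rw [eq_inv_iff_mul_eq_one, ← pow_succ, Nat.sub_add_cancel hpos, pow_orderOf_eq_one]
    obtain ⟨c, hc⟩ := isConj_iff.mp hinv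
    rw [hinv', ← hc, CharCore.irr_isClassFunction χ g c]
  · rw [pow_one]

theorem sum_val_mul_eq_zero [Fintype (Cfsg.IrrCharacter G)] {g h : G} (hg : IsInt g) (hh : IsInt h)
    (hne : ¬ IsConj g h) : ∑ χ : Cfsg.IrrCharacter G, val χ g * val χ h = 0 := by
  have := Fintype.ofFinite G
  have h1 := InvChar68.sum_mul_conj_eq_zero hne
  have h2 : ∀ χ : Cfsg.IrrCharacter G, (χ : G → ℂ) g * conj ((χ : G → ℂ) h) =
      ((val χ g * val χ h : ℤ) : ℂ) := fun χ => by
    push_cast; rw [hg.coe_val, hh.coe_val, ← hh.coe_val χ, map_intCast]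
  rw [Finset.sum_congr rfl fun χ _ => h2 χ, ← Int.cast_sum] at h1
  convert Int.cast_eq_zero.mp h1

theorem sum_val_mul_self [Fintype (Cfsg.IrrCharacter G)] {g : G} (hg : IsInt g) :
    ∑ χ : Cfsg.IrrCharacter G, val χ g * val χ g = Nat.card (centralizer ({g} : Set G)) := by
  have := Fintype.ofFinite G
  have h1 := InvChar68.sum_mul_conj_self g
  have h2 : ∀ χ : Cfsg.IrrCharacter G, (χ : G → ℂ) g * conj ((χ : G → ℂ) g) =
      ((val χ g * val χ g : ℤ) : ℂ) := fun χ => by
    push_cast; rw [hg.coe_val, ← hg.coe_val χ, map_intCast]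
  rw [Finset.sum_congr rfl fun χ _ => h2 χ, ← Int.cast_sum, ← Int.cast_natCast] at h1
  convert Int.cast_inj.mp h1

/-- The multiplicity of the trivial character in a restriction. -/
theorem card_dvd_sum (χ : Cfsg.IrrCharacter G) (H : Subgroup G) [Fintype H]
    (hH : ∀ g ∈ H, IsInt g) : (Nat.card H : ℤ) ∣ ∑ h : H, val χ (h : G) := by
  obtain ⟨k, hk⟩ := CharCore.IsCharacter.exists_classInner_eq_natCast
    (CharCore.isCharacter_restrict (CharCore.irr_isCharacter χ) H)
    (CharCore.isCharacter_one (G := H))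
  simp only [CharCore.classInner_def, Pi.one_apply, map_one, mul_one] at hk
  have hne : (Nat.card H : ℂ) ≠ 0 := Nat.cast_ne_zero.mpr Nat.card_pos.ne'
  rw [inv_mul_eq_iff_eq_mul₀ hne,
    Finset.sum_congr rfl fun h _ => ((hH _ h.2).coe_val χ).symm] at hk
  exact ⟨k, by exact_mod_cast hk⟩

/-- For an element of order dividing `6` the values at it and its fourth power agree mod `2`. -/
theorem two_dvd_val_sub (χ : Cfsg.IrrCharacter G) {g : G} (h6 : g ^ 6 = 1) (hg : IsInt g)
    (hg4 : IsInt (g ^ 4)) : 2 ∣ val χ g - val χ (g ^ 4) := by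
  obtain ⟨n, ρ, -, hρ⟩ := χ.2
  obtain ⟨b, ω, hω, -, -, hk⟩ := CharCore.exists_eigenvalues ρ g
  have hcase : ∀ i, ∃ u : ℂ, IsIntegral ℤ u ∧ ω i - ω i ^ 4 = 2 * u := by
    intro i
    have h6' : ω i ^ 6 = 1 := by
      obtain ⟨c, hc⟩ := orderOf_dvd_of_pow_eq_one h6
      rw [hc, pow_mul, hω, one_pow]
    rcases sq_eq_one_iff.mp (show (ω i ^ 3) ^ 2 = 1 by rw [← pow_mul]; exact h6') with h | h
    · exact ⟨0, isIntegral_zero, by rw [pow_succ (ω i) 3, h]; ring⟩
    · exact ⟨ω i, IsIntegral.of_pow (n := 6) (by norm_num) (h6' ▸ isIntegral_one),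
        by rw [pow_succ (ω i) 3, h]; ring⟩
  choose u hu heq using hcase
  have hsum : ((val χ g - val χ (g ^ 4) : ℤ) : ℂ) = 2 * ∑ i, u i := by
    push_cast
    rw [hg.coe_val, hg4.coe_val, ← hρ, hk]
    conv_lhs => arg 1; rw [show g = g ^ 1 from (pow_one g).symm, hk]
    rw [← Finset.sum_sub_distrib, Finset.mul_sum]
    exact Finset.sum_congr rfl fun i _ => by rw [pow_one]; exact heq i
  obtain ⟨k, hk'⟩ := CharClifford.exists_int_of_fixed (z := ∑ i, u i)
    (IsIntegral.sum _ fun i _ => hu i) fun σ => by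
      have := congrArg σ hsum
      rw [map_mul, map_intCast, map_ofNat, hsum] at this
      exact (mul_left_cancel₀ two_ne_zero this).symm
  exact ⟨k, by rw [hk'] at hsum; exact_mod_cast hsum⟩

/-- Class multiplication coefficients from integral columns. -/
theorem card_pairs_eq [Fintype (Cfsg.IrrCharacter G)] {a b c : G} (ha : IsInt a) (hb : IsInt b)
    (hc : IsInt c) :
    (Nat.card {p : G × G // IsConj a p.1 ∧ IsConj b p.2 ∧ p.1 * p.2 = c} : ℚ) * Nat.card G =
      Nat.card {x : G // IsConj a x} * Nat.card {x : G // IsConj b x} *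
        ∑ χ : Cfsg.IrrCharacter G, ((val χ a * val χ b * val χ c : ℤ) : ℚ) / val χ 1 := by
  have h := Cfsg.Agent.S0840.result a b c
  rw [finsum_eq_sum_of_fintype] at h
  have hG : (Nat.card G : ℂ) ≠ 0 := Nat.cast_ne_zero.mpr Nat.card_pos.ne'
  apply Rat.cast_injective (α := ℂ)
  push_cast
  rw [h, div_mul_eq_mul_div, div_mul_cancel₀ _ hG]
  congr 1
  refine Finset.sum_congr rfl fun χ _ => ?_
  rw [ha.coe_val, hb.coe_val, hc.coe_val, isInt_one.coe_val, ← hc.coe_val χ, map_intCast]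

theorem card_class_pos (x : G) : 0 < Nat.card {y : G // IsConj x y} :=
  Nat.card_pos_iff.mpr ⟨⟨⟨x, IsConj.refl x⟩⟩, inferInstance⟩

theorem sum_eq_zero_of_no_pairs [Fintype (Cfsg.IrrCharacter G)] {a b c : G} (ha : IsInt a)
    (hb : IsInt b) (hc : IsInt c) (h : ∀ x y, IsConj a x → IsConj b y → x * y = c → False) :
    ∑ χ : Cfsg.IrrCharacter G, ((val χ a * val χ b * val χ c : ℤ) : ℚ) / val χ 1 = 0 := by
  have h1 := card_pairs_eq ha hb hc
  have : IsEmpty {p : G × G // IsConj a p.1 ∧ IsConj b p.2 ∧ p.1 * p.2 = c} :=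
    ⟨fun p => h _ _ p.2.1 p.2.2.1 p.2.2.2⟩
  rw [Nat.card_of_isEmpty, Nat.cast_zero, zero_mul, eq_comm, mul_eq_zero] at h1
  exact h1.resolve_left (mul_ne_zero (Nat.cast_ne_zero.mpr (card_class_pos a).ne')
    (Nat.cast_ne_zero.mpr (card_class_pos b).ne'))

theorem sum_ne_zero_of_pair [Fintype (Cfsg.IrrCharacter G)] {a b c : G} (ha : IsInt a)
    (hb : IsInt b) (hc : IsInt c) {x y : G} (hx : IsConj a x) (hy : IsConj b y) (hxy : x * y = c) :
    ∑ χ : Cfsg.IrrCharacter G, ((val χ a * val χ b * val χ c : ℤ) : ℚ) / val χ 1 ≠ 0 := by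
  intro h0
  have h1 := card_pairs_eq ha hb hc
  rw [h0, mul_zero, mul_eq_zero] at h1
  have : Nonempty {p : G × G // IsConj a p.1 ∧ IsConj b p.2 ∧ p.1 * p.2 = c} :=
    ⟨⟨(x, y), hx, hy, hxy⟩⟩
  rcases h1 with h1 | h1
  · exact (Nat.card_pos (α := {p : G × G // IsConj a p.1 ∧ IsConj b p.2 ∧ p.1 * p.2 = c})).ne'
      (by exact_mod_cast h1)
  · exact (Nat.card_pos (α := G)).ne' (by exact_mod_cast h1)

end Cfsg.Agent.BC87.Sym6
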