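import Cfsg.Agent.BC87.Sym6.Base
import Cfsg.Agent.BC87.Sym6.Chars

/-!
# Columns at the elements of the Sylow subgroup
-/

set_option autoImplicit false
set_option linter.unusedSectionVars false
set_option linter.style.haveILetI false

namespace Cfsg.Agent.BC87.Sym6

universe u

open Subgroup

variable {G : Type u} [Group G] [Finite G]

theorem three_dvd_val (χ : Cfsg.IrrCharacter G) {g : G} (h3 : orderOf g = 3)
    (hg : IsConj g g⁻¹) : 3 ∣ val χ 1 + 2 * val χ g := by
  classical
  have := Fintype.ofFinite (zpowers g)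
  have hI : IsInt g := isInt_of_real (by rw [h3]; norm_num) hg
  have hg2 : g ^ 2 = g⁻¹ := by
    rw [eq_inv_iff_mul_eq_one, ← pow_succ, show (2 + 1 : ℕ) = orderOf g by omega, pow_orderOf_eq_one]
  have hmem : ∀ k : Fin 3, IsInt (g ^ (k : ℕ)) := by
    intro k
    fin_cases k
    · simpa using isInt_one
    · simpa using hI
    · simpa [hg2] using hI.of_isConj hg
  have hint : ∀ x ∈ zpowers g, IsInt x := by
    intro x hx
    obtain ⟨n, rfl⟩ := mem_powers_iff_mem_zpowers.mpr hx
    simp only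
    rw [← pow_mod_orderOf, h3]
    exact hmem ⟨n % 3, Nat.mod_lt _ (by norm_num)⟩
  have h := card_dvd_sum χ (zpowers g) hint
  rw [Nat.card_zpowers, h3] at h
  have e : ∑ x : zpowers g, val χ (x : G) = ∑ k : Fin 3, val χ (g ^ (k : ℕ)) := by
    refine (Fintype.sum_equiv ((finCongr h3.symm).trans (finEquivZPowers (isOfFinOrder_of_finite g)))
      _ _ fun k => ?_).symm
    simp [finEquivZPowers_apply]
  rw [e, Fin.sum_univ_three] at h
  simpa [hg2, ← val_eq_of_isConj χ hg, two_mul, add_assoc] using h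

namespace Base

variable (B : Base G)

theorem isInt_a : IsInt B.a :=
  isInt_of_real (orderOf_dvd_of_pow_eq_one (by
    rw [show (6 : ℕ) = 3 * 2 from rfl, pow_mul, B.ha3, one_pow])) B.conj_a_inv

theorem isInt_ab : IsInt (B.a * B.b) :=
  isInt_of_real (orderOf_dvd_of_pow_eq_one (by
    rw [show (6 : ℕ) = 3 * 2 from rfl, pow_mul, B.pow_three (mul_mem B.ha B.hb), one_pow]))
    B.conj_ab_inv

theorem orderOf_a : orderOf B.a = 3 := by
  haveI : Fact (Nat.Prime 3) := ⟨Nat.prime_three⟩
  exact orderOf_eq_prime B.ha3 B.a_ne_one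

theorem orderOf_ab : orderOf (B.a * B.b) = 3 := by
  haveI : Fact (Nat.Prime 3) := ⟨Nat.prime_three⟩
  exact orderOf_eq_prime (B.pow_three (mul_mem B.ha B.hb)) B.ab_ne_one

theorem nine_dvd (χ : Cfsg.IrrCharacter G) :
    9 ∣ val χ 1 + 4 * val χ B.a + 4 * val χ (B.a * B.b) := by
  classical
  have := Fintype.ofFinite (B.P : Subgroup G)
  have hval : ∀ u : ZMod 3 × ZMod 3, val χ (B.φ u) =
      if u = 0 then val χ 1 else if (u.1 = 0) ≠ (u.2 = 0) then val χ B.a
        else val χ (B.a * B.b) := by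
    intro u
    split_ifs with h0 h1
    · rw [h0, B.φ_zero]
    · exact (val_eq_of_isConj χ (B.isConj_iff_axes.mpr h1)).symm
    · exact (val_eq_of_isConj χ (B.isConj_iff_diag.mpr (by revert h0 h1 u; decide))).symm
  have hint : ∀ x ∈ (B.P : Subgroup G), IsInt x := by
    intro x hx
    obtain ⟨u, rfl⟩ := B.exists_φ hx
    by_cases h0 : u = 0
    · rw [h0, B.φ_zero]; exact isInt_one
    by_cases h1 : (u.1 = 0) ≠ (u.2 = 0)
    · exact B.isInt_a.of_isConj (B.isConj_iff_axes.mpr h1)
    · exact B.isInt_ab.of_isConj (B.isConj_iff_diag.mpr (by revert h0 h1; clear hx; revert u; decide))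
  have h := card_dvd_sum χ (B.P : Subgroup G) hint
  rw [B.card] at h
  have e : ∑ x : (B.P : Subgroup G), val χ (x : G) = ∑ u : ZMod 3 × ZMod 3, val χ (B.φ u) := by
    refine (Fintype.sum_bijective (fun u => (⟨B.φ u, B.φ_mem u⟩ : (B.P : Subgroup G)))
      ⟨fun u v huv => B.φ_injective (congrArg Subtype.val huv), fun x => ?_⟩ _ _ fun u => rfl).symm
    obtain ⟨u, hu⟩ := B.exists_φ x.2
    exact ⟨u, Subtype.ext hu⟩
  have huniv : (Finset.univ : Finset (ZMod 3)) = {0, 1, 2} := by decide
  rw [e, Finset.sum_congr rfl (fun u _ => hval u), Fintype.sum_prod_type] at h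
  simp (decide := true) [huniv] at h
  omega

theorem three_dvd_sub (χ : Cfsg.IrrCharacter G) : 3 ∣ val χ B.a - val χ (B.a * B.b) := by
  have := three_dvd_val χ B.orderOf_a B.conj_a_inv
  have := three_dvd_val χ B.orderOf_ab B.conj_ab_inv
  omega

end Base


end Cfsg.Agent.BC87.Sym6
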