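import Mathlib.Data.Fintype.BigOperators
import Mathlib.Algebra.Order.BigOperators.Group.Finset
import Mathlib.Algebra.BigOperators.Fin
import Mathlib.Tactic.Linarith
import Mathlib.Tactic.FieldSimp
import Mathlib.Tactic.Ring
import Mathlib.Tactic.FinCases
import Mathlib.Tactic.LinearCombination
import Mathlib.Data.Rat.Lemmas

/-!
# Four classes of elements of order three: the character arithmetic
-/

set_option autoImplicit false
set_option linter.unusedSimpArgs false

namespace Cfsg.Agent.BC87.Sym6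

/-- Number of separated pairs. -/
def sepNum (v : Fin 4 → ℤ) : ℤ :=
  ((v 0 - v 1) / 3) ^ 2 + ((v 0 - v 2) / 3) ^ 2 + ((v 0 - v 3) / 3) ^ 2 +
    ((v 1 - v 2) / 3) ^ 2 + ((v 1 - v 3) / 3) ^ 2 + ((v 2 - v 3) / 3) ^ 2

/-- The defect of a vector. -/
def defNum (v : Fin 4 → ℤ) : ℤ :=
  3 * (v 0 * v 0 + v 1 * v 1 + v 2 * v 2 + v 3 * v 3) - 7 * sepNum v

/-- The shape of a special vector. -/
def special (k : Fin 4) (e : Bool) (j : Fin 4) : ℤ :=
  (if e then 1 else -1) * (if j = k then -2 else 1)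

theorem vec_cases_fin : ∀ a b c d : Fin 5,
    let v : Fin 4 → ℤ := ![(a.val : ℤ) - 2, (b.val : ℤ) - 2, (c.val : ℤ) - 2, (d.val : ℤ) - 2]
    (∀ i j : Fin 4, (v i - v j) % 3 = 0) →
    ((∀ i, v i = v 0) ∧ sepNum v = 0 ∧ defNum v = 12 * (v 0 * v 0)) ∨
    (sepNum v = 3 ∧ defNum v = 0 ∧ ∃ k : Fin 4, ∃ e : Bool, ∀ i, v i = special k e i) ∨
    ((∃ i, v i ≠ v 0) ∧ 0 < defNum v ∧ (2 * defNum v ≤ sepNum v ∨ 12 < defNum v)) := by
  decide +kernel

theorem vec_cases (v : Fin 4 → ℤ) (h : ∀ i, -2 ≤ v i ∧ v i ≤ 2) (h3 : ∀ i j, 3 ∣ v i - v j) :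
    ((∀ i, v i = v 0) ∧ sepNum v = 0 ∧ defNum v = 12 * (v 0 * v 0)) ∨
    (sepNum v = 3 ∧ defNum v = 0 ∧ ∃ k : Fin 4, ∃ e : Bool, ∀ i, v i = special k e i) ∨
    ((∃ i, v i ≠ v 0) ∧ 0 < defNum v ∧ (2 * defNum v ≤ sepNum v ∨ 12 < defNum v)) := by
  let F : Fin 4 → Fin 5 := fun i => ⟨(v i + 2).toNat, by have := h i; omega⟩
  have hv : v = ![((F 0).val : ℤ) - 2, ((F 1).val : ℤ) - 2, ((F 2).val : ℤ) - 2,
      ((F 3).val : ℤ) - 2] := by
    funext i
    have h0 := h 0; have h1 := h 1; have h2 := h 2; have h3' := h 3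
    fin_cases i <;> simp [F] <;> omega
  have hmain := vec_cases_fin (F 0) (F 1) (F 2) (F 3)
  simp only [← hv] at hmain
  exact hmain fun i j => Int.emod_eq_zero_of_dvd (h3 i j)

theorem bound_two' {u : ℤ} (h : u * u ≤ 8) : -2 ≤ u ∧ u ≤ 2 := by constructor <;> nlinarith

/-- Four classes of self-centralizing elements of order three, one class of involutions inverting
them: there is a nontrivial linear character or a nontrivial kernel. -/
theorem cyc2_false {ι : Type*} [Fintype ι] (one : ι) (f L : ι → ℤ) (x : ι → Fin 4 → ℤ)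
    (hf : ∀ i, 0 < f i) (h1 : f one = 1 ∧ L one = 1 ∧ ∀ k, x one k = 1)
    (h3 : ∀ i k, 3 ∣ f i + 2 * x i k)
    (hsq : ∀ k, ∑ i, x i k * x i k = 9) (horth : ∀ k l, k ≠ l → ∑ i, x i k * x i l = 0)
    (hfx : ∀ k, ∑ i, f i * x i k = 0) (hLx : ∀ k, ∑ i, L i * x i k = 0)
    (hpair : ∀ k l, k ≠ l → ∑ i, ((L i * x i k * x i l : ℤ) : ℚ) / f i = 0)
    (hlin : ∀ i, f i = 1 → i = one) (hker : ∀ i, L i = f i → i = one) : False := by
  classical
  set R := Finset.univ.erase one with hR
  have hsplit : ∀ g : ι → ℤ, ∑ i, g i = g one + ∑ i ∈ R, g i := fun g =>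
    (Finset.add_sum_erase _ _ (Finset.mem_univ one)).symm
  have hsq8 : ∀ k, ∑ i ∈ R, x i k * x i k = 8 := fun k => by
    have h := hsplit fun i => x i k * x i k
    rw [hsq k, h1.2.2 k] at h
    linarith
  have h3' : ∀ i k l, 3 ∣ x i k - x i l := fun i k l => by
    have := h3 i k; have := h3 i l; omega
  have hbd : ∀ i ∈ R, ∀ k, -2 ≤ x i k ∧ x i k ≤ 2 := fun i hi k =>
    bound_two' ((hsq8 k) ▸ Finset.single_le_sum (f := fun j => x j k * x j k)
      (fun j _ => mul_self_nonneg (x j k)) hi)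
  have hdiv : ∀ k l, k ≠ l → ∑ i ∈ R, ((x i k - x i l) / 3) ^ 2 = 2 := by
    intro k l hkl
    have e : ∀ i, (x i k - x i l) * (x i k - x i l) = 9 * ((x i k - x i l) / 3) ^ 2 := fun i => by
      obtain ⟨d, hd⟩ := h3' i k l
      rw [hd, Int.mul_ediv_cancel_left d (by norm_num : (3 : ℤ) ≠ 0)]
      ring
    have h18 : ∑ i, (x i k - x i l) * (x i k - x i l) = 18 := by
      rw [show (18 : ℤ) = (∑ i, x i k * x i k) - 2 * (∑ i, x i k * x i l) + ∑ i, x i l * x i l by
        rw [hsq, hsq, horth k l hkl]; rfl, Finset.mul_sum, ← Finset.sum_sub_distrib,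
        ← Finset.sum_add_distrib]
      exact Finset.sum_congr rfl fun i _ => by ring
    rw [Finset.sum_congr rfl (fun i _ => e i), ← Finset.mul_sum, hsplit, h1.2.2, h1.2.2] at h18
    norm_num at h18 ⊢
    linarith
  have hQ : ∑ i ∈ R, sepNum (x i) = 12 := by
    simp only [sepNum, Finset.sum_add_distrib]
    rw [hdiv 0 1 (by decide), hdiv 0 2 (by decide), hdiv 0 3 (by decide), hdiv 1 2 (by decide),
      hdiv 1 3 (by decide), hdiv 2 3 (by decide)]
    norm_num
  have hD : ∑ i ∈ R, defNum (x i) = 12 := by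
    simp only [defNum, Finset.sum_sub_distrib, ← Finset.mul_sum, Finset.sum_add_distrib, hsq8, hQ]
    norm_num
  have hcases := fun i (hi : i ∈ R) => vec_cases (x i) (hbd i hi) (h3' i)
  have hDnn : ∀ i ∈ R, 0 ≤ defNum (x i) := fun i hi => by
    rcases hcases i hi with ⟨-, -, h⟩ | ⟨-, h, -⟩ | ⟨-, h, -⟩
    · nlinarith
    · omega
    · omega
  -- the constant character
  obtain ⟨i₀, hi₀, hconst, hne0⟩ : ∃ i₀ ∈ R, (∀ k, x i₀ k = x i₀ 0) ∧ x i₀ 0 ≠ 0 := by
    by_contra hno
    push Not at hno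
    have key : ∀ i ∈ R, 2 * defNum (x i) ≤ sepNum (x i) := by
      intro i hi
      rcases hcases i hi with ⟨hc, hs, hd⟩ | ⟨hs, hd, -⟩ | ⟨-, -, hd | hd⟩
      · rw [hs, hd, hno i hi hc]; norm_num
      · omega
      · exact hd
      · have := Finset.single_le_sum hDnn hi
        omega
    have := Finset.sum_le_sum key
    rw [← Finset.mul_sum, hQ, hD] at this
    norm_num at this
  have hd0 : defNum (x i₀) = 12 * (x i₀ 0 * x i₀ 0) := by
    rcases hcases i₀ hi₀ with ⟨-, -, hd⟩ | ⟨-, -, k, e, hk⟩ | ⟨⟨i, hi⟩, -⟩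
    · exact hd
    · exfalso
      have key : ∀ k e, ¬ (special k e 1 = special k e 0 ∧ special k e 2 = special k e 0 ∧
          special k e 3 = special k e 0) := by
        decide
      exact key k e ⟨by rw [← hk, ← hk, hconst 1], by rw [← hk, ← hk, hconst 2],
        by rw [← hk, ← hk, hconst 3]⟩
    · exact absurd (hconst i) hi
  have hsingle := Finset.single_le_sum hDnn hi₀
  have hc1 : x i₀ 0 = 1 ∨ x i₀ 0 = -1 := by
    have h : x i₀ 0 * x i₀ 0 ≤ 1 := by omega
    have : -1 ≤ x i₀ 0 ∧ x i₀ 0 ≤ 1 := by constructor <;> nlinarith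
    omega
  have hcc : x i₀ 0 * x i₀ 0 = 1 := by rcases hc1 with h | h <;> rw [h] <;> rfl
  have hD0 : ∀ i ∈ R.erase i₀, defNum (x i) = 0 := by
    have hsum : ∑ i ∈ R.erase i₀, defNum (x i) = 0 := by
      have := Finset.add_sum_erase R (fun i => defNum (x i)) hi₀
      rw [hd0, hcc, hD] at this
      linarith
    exact (Finset.sum_eq_zero_iff_of_nonneg fun i hi => hDnn i (Finset.mem_of_mem_erase hi)).mp hsum
  set K := (R.erase i₀).filter fun i => ∃ k, x i k ≠ 0 with hK
  have hshape : ∀ i ∈ K, ∃ k : Fin 4, ∃ e : Bool, ∀ j, x i j = special k e j := by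
    intro i hi
    obtain ⟨hi', k, hk⟩ := Finset.mem_filter.mp hi
    rcases hcases i (Finset.mem_of_mem_erase hi') with ⟨hc, -, hd⟩ | ⟨-, -, h⟩ | ⟨-, hd, -⟩
    · exfalso
      rw [hD0 i hi'] at hd
      apply hk
      rw [hc k]
      exact mul_self_eq_zero.mp (by linarith)
    · exact h
    · exact absurd (hD0 i hi') hd.ne'
  choose! pos sgn hpos using hshape
  have hout : ∀ i, i ≠ one → i ≠ i₀ → i ∉ K → ∀ k, x i k = 0 := by
    intro i h1' h0' hiK k
    by_contra hk
    exact hiK (Finset.mem_filter.mpr ⟨Finset.mem_erase.mpr ⟨h0', Finset.mem_erase.mpr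
      ⟨h1', Finset.mem_univ _⟩⟩, k, hk⟩)
  have hKR : ∀ i ∈ K, i ∈ R := fun i hi => Finset.mem_of_mem_erase (Finset.mem_filter.mp hi).1
  -- exactly one special character for each class
  set n := fun k => ((K.filter fun i => pos i = k).card : ℤ) with hn
  have hnn : ∀ k l, k ≠ l → n k + n l = 2 := by
    intro k l hkl
    rw [← hdiv k l hkl]
    rw [← Finset.sum_subset (s₁ := K) hKR (fun i hi hiK => by
      by_cases h0' : i = i₀
      · rw [h0', hconst k, hconst l]; simp
      · rw [hout i (Finset.ne_of_mem_erase hi) h0' hiK k,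
          hout i (Finset.ne_of_mem_erase hi) h0' hiK l]; simp)]
    simp only [hn]
    rw [Finset.natCast_card_filter, Finset.natCast_card_filter, ← Finset.sum_add_distrib]
    refine Finset.sum_congr rfl fun i hi => ?_
    rw [hpos i hi k, hpos i hi l]
    generalize pos i = p
    generalize sgn i = e
    clear * - hkl
    revert hkl k l p e
    decide
  have hn1 : ∀ k, n k = 1 := by
    have := hnn 0 1 (by decide); have := hnn 0 2 (by decide); have := hnn 1 2 (by decide)
    have := hnn 0 3 (by decide)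
    intro k
    rcases (by decide : ∀ k : Fin 4, k = 0 ∨ k = 1 ∨ k = 2 ∨ k = 3) k with rfl | rfl | rfl | rfl <;>
      omega
  have hex : ∀ k, ∃ i, (K.filter fun i => pos i = k) = {i} := fun k =>
    Finset.card_eq_one.mp (by have := hn1 k; simp only [hn] at this; exact_mod_cast this)
  choose q hq using hex
  have hqK : ∀ k, q k ∈ K ∧ pos (q k) = k := fun k =>
    Finset.mem_filter.mp (by rw [hq k]; exact Finset.mem_singleton_self _)
  have hKimg : K = Finset.univ.image q := by
    refine Finset.Subset.antisymm (fun i hi => Finset.mem_image.mpr ⟨pos i, Finset.mem_univ _, ?_⟩)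
      (fun i hi => ?_)
    · have : i ∈ K.filter fun j => pos j = pos i := Finset.mem_filter.mpr ⟨hi, rfl⟩
      rw [hq, Finset.mem_singleton] at this
      exact this.symm
    · obtain ⟨k, -, rfl⟩ := Finset.mem_image.mp hi
      exact (hqK k).1
  have hqinj : Function.Injective q := fun k l h => by rw [← (hqK k).2, h, (hqK l).2]
  have hsum : ∀ g : ι → ℚ, (∀ i, (∀ k, x i k = 0) → g i = 0) →
      ∑ i, g i = g one + g i₀ + ∑ k, g (q k) := by
    intro g hg
    rw [← Finset.add_sum_erase _ g (Finset.mem_univ one), ← hR, ← Finset.add_sum_erase R g hi₀,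
      ← Finset.sum_subset (s₁ := K) (fun i hi => (Finset.mem_filter.mp hi).1) (fun i hi hiK =>
        hg i (hout i (Finset.ne_of_mem_erase (Finset.mem_of_mem_erase hi)) (Finset.ne_of_mem_erase hi)
          hiK)), hKimg, Finset.sum_image fun k _ l _ h => hqinj h]
    ring
  have hxq : ∀ k j, x (q k) j = special k (sgn (q k)) j := fun k j => by
    have := hpos (q k) (hqK k).1 j
    rwa [(hqK k).2] at this
  set ε : Fin 4 → ℚ := fun k => if sgn (q k) then 1 else -1 with hε
  have hxq' : ∀ k j, (x (q k) j : ℚ) = ε k * if j = k then -2 else 1 := fun k j => by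
    rw [hxq, special, hε]
    simp only
    split_ifs <;> norm_num
  have hlinear : ∀ M : ι → ℤ, M one = 1 → (∀ k, ∑ i, M i * x i k = 0) →
      (∀ k l, ε k * M (q k) = ε l * M (q l)) ∧
        1 + (M i₀ : ℚ) * x i₀ 0 + ε 0 * M (q 0) = 0 := by
    intro M hM1 hM
    have hk : ∀ k, 1 + (M i₀ : ℚ) * x i₀ 0 + ∑ j, ε j * M (q j) - 3 * (ε k * M (q k)) = 0 := by
      intro k
      have h := hsum (fun i => ((M i * x i k : ℤ) : ℚ)) (fun i hi => by simp [hi k])
      rw [show (∑ i, ((M i * x i k : ℤ) : ℚ)) = 0 by exact_mod_cast hM k] at h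
      push_cast at h
      rw [hM1, h1.2.2, hconst k] at h
      have e : ∑ j, (M (q j) : ℚ) * (x (q j) k) = ∑ j, ε j * M (q j) - 3 * (ε k * M (q k)) := by
        rw [eq_sub_iff_add_eq, show 3 * (ε k * M (q k) : ℚ) =
          ∑ j, if k = j then 3 * (ε j * M (q j) : ℚ) else 0 by simp, ← Finset.sum_add_distrib]
        refine Finset.sum_congr rfl fun j _ => ?_
        rw [hxq']
        split_ifs <;> ring
      rw [e] at h
      push_cast at h
      linarith
    have heq : ∀ k l, ε k * M (q k) = ε l * M (q l) := fun k l => by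
      have := hk k; have := hk l; linarith
    refine ⟨heq, ?_⟩
    have := hk 0
    rw [Finset.sum_congr rfl (fun j _ => heq j 0), Finset.sum_const, Finset.card_univ,
      Fintype.card_fin, nsmul_eq_mul] at this
    push_cast at this
    linarith
  obtain ⟨hef, hfsum⟩ := hlinear f h1.1 hfx
  obtain ⟨heL, hLsum⟩ := hlinear L h1.2.1 hLx
  have hfq : ∀ k, (0 : ℚ) < f (q k) := fun k => by exact_mod_cast hf (q k)
  have hεsq : ∀ k, ε k = 1 ∨ ε k = -1 := fun k => by
    simp only [hε]; split_ifs <;> simp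
  have hεeq : ∀ k, ε k = ε 0 ∧ (f (q k) : ℚ) = f (q 0) ∧ (L (q k) : ℚ) = L (q 0) := by
    intro k
    have h := hef k 0
    have h' := heL k 0
    have := hfq k
    have := hfq 0
    rcases hεsq k with hk | hk <;> rcases hεsq 0 with h0' | h0' <;>
      rw [hk, h0'] at h h' <;> rw [hk, h0'] <;>
      first
        | exact ⟨rfl, by linarith, by linarith⟩
        | (exfalso; linarith)
  -- the product relation
  have hp := hsum (fun i => ((L i * x i 0 * x i 1 : ℤ) : ℚ) / f i) (fun i hi => by simp [hi 0])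
  rw [hpair 0 1 (by decide), Fin.sum_univ_four] at hp
  push_cast at hp
  simp only [hxq', hconst 1, h1.1, h1.2.1, h1.2.2, (hεeq 1).1, (hεeq 2).1, (hεeq 3).1, (hεeq 1).2.1,
    (hεeq 2).2.1, (hεeq 3).2.1, (hεeq 1).2.2, (hεeq 2).2.2, (hεeq 3).2.2] at hp
  simp (decide := true) only [if_true, if_false] at hp
  have hc2 : (x i₀ 0 : ℚ) * x i₀ 0 = 1 := by exact_mod_cast hcc
  have he2 : ε 0 * ε 0 = 1 := by rcases hεsq 0 with h | h <;> rw [h] <;> norm_num
  set F : ℚ := ((f i₀ : ℤ) : ℚ) with hF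
  set M : ℚ := ((L i₀ : ℤ) : ℚ) with hM
  set c : ℚ := ((x i₀ 0 : ℤ) : ℚ) with hc
  set φ : ℚ := ((f (q 0) : ℤ) : ℚ) with hφ
  set lam : ℚ := ((L (q 0) : ℤ) : ℚ) with hlam
  have hFpos : 0 < F := by rw [hF]; exact_mod_cast hf i₀
  have hφpos : 0 < φ := hfq 0
  have hrel : 1 + M / F - 2 * (lam / φ) = 0 := by
    have e : M * c * c / F = M / F := by rw [mul_assoc, hc2, mul_one]
    simp only [Int.cast_one, one_mul, mul_one, div_one] at hp
    rw [e] at hp
    field_simp at hp ⊢
    linear_combination -hp + 2 * lam * F * he2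
  set ω := 1 - lam / φ with hω
  have hlam' : lam = φ * (1 - ω) := by rw [hω]; field_simp; ring
  have hM' : M = F * (1 - 2 * ω) := by
    rw [hω]; field_simp at hrel ⊢; linear_combination hrel
  have key : ω * (2 * (F * c) + ε 0 * φ) = 0 := by
    rw [hlam', hM'] at hLsum
    linear_combination hfsum - hLsum
  rcases mul_eq_zero.mp key with h | h
  · have : lam = φ := by rw [hlam', h]; ring
    have h' : L (q 0) = f (q 0) := by rw [hlam, hφ] at this; exact_mod_cast this
    exact Finset.ne_of_mem_erase (hKR _ (hqK 0).1) (hker _ h')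
  · have hFc : F * c = 1 := by linarith
    have : F = 1 := by
      rcases hc1 with h' | h' <;> rw [hc, h'] at hFc <;> push_cast at hFc <;> linarith
    have h' : f i₀ = 1 := by rw [hF] at this; exact_mod_cast this
    exact Finset.ne_of_mem_erase hi₀ (hlin _ h')

end Cfsg.Agent.BC87.Sym6
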