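import Cfsg.Agent.BC87.Sym6.Cyc4
import Cfsg.Agent.BC87.Sym6.Cyc2
import Cfsg.Agent.BC87.Sym6.BaseChars
import Cfsg.Agent.S0497
import Mathlib.GroupTheory.Transfer

/-!
# Self-centralizing elementary abelian Sylow `3`-subgroup with several classes, simple groups
-/

set_option autoImplicit false
set_option linter.unusedSectionVars false
set_option linter.style.haveILetI false

namespace Cfsg.Agent.BC87.Sym6

universe u

open Subgroup

variable {G : Type u} [Group G] [Finite G]

/-- In a relation `(x t)³ = 1` the elements `x` and `x t` are conjugate. -/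
theorem isConj_of_tri233 {x t : G} (hx : x ^ 3 = 1) (ht : t * t = 1) (hxt : (x * t) ^ 3 = 1) :
    IsConj x (x * t) := by
  refine isConj_iff.mpr ⟨x⁻¹ * t * x, ?_⟩
  have hti : t⁻¹ = t := inv_eq_of_mul_eq_one_right ht
  have h3 : x * x * x = 1 := by rw [← pow_three', hx]
  have h : x * t * (x * t) * (x * t) = 1 := by rw [← pow_three', hxt]
  have e : t * x * t * x = x⁻¹ * t := by
    calc t * x * t * x = x⁻¹ * (x * t * (x * t) * (x * t)) * t⁻¹ := by group
      _ = x⁻¹ * t := by rw [h, hti, mul_one]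
  have hxx : x⁻¹ * x⁻¹ = x := by
    rw [← mul_inv_rev, inv_eq_iff_mul_eq_one]; exact h3
  calc x⁻¹ * t * x * x * (x⁻¹ * t * x)⁻¹ = x⁻¹ * (t * x * t⁻¹ * x) := by group
    _ = x⁻¹ * (x⁻¹ * t) := by rw [hti, e]
    _ = x * t := by rw [← mul_assoc, hxx]

/-- Coordinates on an elementary abelian group of order `9`. -/
theorem exists_coords (S : Subgroup G) (hcomm : ∀ s ∈ S, ∀ t ∈ S, s * t = t * s)
    (hexp : ∀ s ∈ S, s ^ 3 = 1) (hcard : Nat.card S = 9) {a b : G} (ha : a ∈ S) (hb : b ∈ S)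
    (ha1 : a ≠ 1) (hb0 : b ≠ 1) (hb1 : b ≠ a) (hb2 : b ≠ a⁻¹) :
    ∃ ψ : ZMod 3 × ZMod 3 → G, Function.Injective ψ ∧ (∀ u, ψ u ∈ S) ∧
      (∀ s ∈ S, ∃ u, ψ u = s) ∧ (∀ u, ψ u = a ^ u.1.val * b ^ u.2.val) ∧
      (∀ u, (ψ u)⁻¹ = ψ (-u)) := by
  let ψ : ZMod 3 × ZMod 3 → G := fun u => a ^ u.1.val * b ^ u.2.val
  have hS : ∀ u, ψ u ∈ S := fun u => mul_mem (pow_mem ha _) (pow_mem hb _)
  have hadd : ∀ u t, ψ (u + t) = ψ u * ψ t := by
    intro u t
    have hk : ∀ (g : G) (i j : ZMod 3), g ∈ S → g ^ (i + j).val = g ^ i.val * g ^ j.val := by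
      intro g i j hg
      rw [ZMod.val_add, ← pow_add, pow_eq_pow_mod (i.val + j.val) (hexp g hg)]
    simp only [ψ, Prod.fst_add, Prod.snd_add, hk _ _ _ ha, hk _ _ _ hb]
    rw [mul_assoc, ← mul_assoc (a ^ t.1.val), hcomm _ (pow_mem ha _) _ (pow_mem hb _)]
    simp only [mul_assoc]
  have h0 : ψ 0 = 1 := by simp [ψ]
  have hneg : ∀ u, (ψ u)⁻¹ = ψ (-u) := fun u =>
    (eq_inv_of_mul_eq_one_left (by rw [← hadd, neg_add_cancel, h0])).symm
  have hker : ∀ u, ψ u = 1 → u = 0 := by
    intro u hu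
    have ψa : ψ (1, 0) = a := by simp [ψ, ZMod.val_one]
    have ψb : ψ (0, 1) = b := by simp [ψ, ZMod.val_one]
    have key : u = 0 ∨ u = (1, 0) ∨ u = -(1, 0) ∨ u = (0, 1) ∨ u = -(0, 1) ∨
        u = (0, 1) + -(1, 0) ∨ u = -((0, 1) + -(1, 0)) ∨ u = (0, 1) + (1, 0) ∨
        u = -((0, 1) + (1, 0)) := by
      clear hu
      revert u; decide
    have na : ∀ {g : G}, g ≠ 1 → g⁻¹ ≠ 1 := fun h h' => h (inv_eq_one.mp h')
    rcases key with h | h | h | h | h | h | h | h | h <;> subst h
    · rfl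
    · exact absurd (ψa.symm.trans hu) ha1
    · rw [← hneg, ψa] at hu; exact absurd hu (na ha1)
    · exact absurd (ψb.symm.trans hu) hb0
    · rw [← hneg, ψb] at hu; exact absurd hu (na hb0)
    · rw [hadd, ← hneg, ψa, ψb, mul_inv_eq_one] at hu; exact absurd hu hb1
    · rw [← hneg, inv_eq_one, hadd, ← hneg, ψa, ψb, mul_inv_eq_one] at hu; exact absurd hu hb1
    · rw [hadd, ψa, ψb, mul_eq_one_iff_eq_inv] at hu; exact absurd hu hb2
    · rw [← hneg, inv_eq_one, hadd, ψa, ψb, mul_eq_one_iff_eq_inv] at hu; exact absurd hu hb2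
  have hinj : Function.Injective ψ := fun u t h => by
    have h' : ψ (u + -t) = 1 := by rw [hadd, ← hneg, h, mul_inv_cancel]
    have := hker _ h'
    rwa [← sub_eq_add_neg, sub_eq_zero] at this
  refine ⟨ψ, hinj, hS, fun s hs => ?_, fun _ => rfl, hneg⟩
  have hinj' : Function.Injective (fun u => (⟨ψ u, hS u⟩ : S)) := fun u t h =>
    hinj (congrArg Subtype.val h)
  obtain ⟨u, hu⟩ := (hinj'.bijective_of_nat_card_le (by
    rw [hcard, Nat.card_prod, Nat.card_zmod])).2 ⟨s, hs⟩
  exact ⟨u, congrArg Subtype.val hu⟩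

/-- The data of `S3341`. -/
structure Hyp (G : Type u) [Group G] where
  P : Sylow 3 G
  comm : ∀ s ∈ (P : Subgroup G), ∀ t ∈ (P : Subgroup G), s * t = t * s
  exp : ∀ s ∈ (P : Subgroup G), s ^ 3 = 1
  card : Nat.card (P : Subgroup G) = 9
  cent : ∀ s ∈ (P : Subgroup G), s ≠ 1 → centralizer ({s} : Set G) = (P : Subgroup G)

namespace Hyp

variable (H : Hyp G)

theorem fuse {g s : G} (hs : s ∈ (H.P : Subgroup G)) (hs1 : s ≠ 1)
    (h : g * s * g⁻¹ ∈ (H.P : Subgroup G)) : g ∈ normalizer ((H.P : Subgroup G) : Set G) := by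
  have h1' : g * s * g⁻¹ ≠ 1 := fun h' => hs1 (conj_eq_one_iff.mp h')
  refine mem_normalizer_iff.mpr fun z => ?_
  conv_lhs => rw [← H.cent s hs hs1]
  conv_rhs => rw [← H.cent _ h h1']
  rw [mem_centralizer_singleton_iff, mem_centralizer_singleton_iff,
    show g * z * g⁻¹ * (g * s * g⁻¹) = g * (z * s) * g⁻¹ by group,
    show g * s * g⁻¹ * (g * z * g⁻¹) = g * (s * z) * g⁻¹ by group]
  exact ⟨fun e => by rw [e], fun e => mul_left_cancel (mul_right_cancel e)⟩

theorem mem_of_fix {g s : G} (hs : s ∈ (H.P : Subgroup G)) (hs1 : s ≠ 1)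
    (h : g * s * g⁻¹ = s) : g ∈ (H.P : Subgroup G) := by
  rw [← H.cent s hs hs1]
  exact mem_centralizer_singleton_iff.mpr (mul_inv_eq_iff_eq_mul.mp h)

/-- An element of the normalizer with square but not itself in `P` inverts `P`. -/
theorem inverts {g : G} (hg : g ∈ normalizer ((H.P : Subgroup G) : Set G))
    (hgP : g ∉ (H.P : Subgroup G)) (hg2 : g * g ∈ (H.P : Subgroup G)) {s : G}
    (hs : s ∈ (H.P : Subgroup G)) : g * s * g⁻¹ = s⁻¹ := by
  rw [eq_inv_iff_mul_eq_one]
  by_contra h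
  have hgs := (mem_normalizer_iff.mp hg s).mp hs
  refine hgP (H.mem_of_fix (mul_mem hgs hs) h ?_)
  have e : g * (g * s * g⁻¹) * g⁻¹ = s := by
    calc g * (g * s * g⁻¹) * g⁻¹ = g * g * s * (g * g)⁻¹ := by group
      _ = s := by rw [H.comm _ hg2 _ hs, mul_inv_cancel_right]
  calc g * (g * s * g⁻¹ * s) * g⁻¹ = g * (g * s * g⁻¹) * g⁻¹ * (g * s * g⁻¹) := by group
    _ = g * s * g⁻¹ * s := by rw [e, H.comm _ hs _ hgs]

theorem exists_nontrivial : ∃ a ∈ (H.P : Subgroup G), a ≠ 1 := by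
  have : Nontrivial (H.P : Subgroup G) := Finite.one_lt_card_iff_nontrivial.mp (by rw [H.card]; norm_num)
  obtain ⟨⟨a, ha⟩, h⟩ := exists_ne (1 : (H.P : Subgroup G))
  exact ⟨a, ha, fun h' => h (Subtype.ext h')⟩

theorem orderOf_eq {s : G} (hs : s ∈ (H.P : Subgroup G)) (hs1 : s ≠ 1) : orderOf s = 3 :=
  haveI : Fact (Nat.Prime 3) := ⟨Nat.prime_three⟩
  orderOf_eq_prime (H.exp s hs) hs1

theorem not_normal [IsSimpleGroup G] : ¬ (H.P : Subgroup G).Normal := by
  intro hn
  obtain ⟨a, ha, ha1⟩ := H.exists_nontrivial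
  have htop : (H.P : Subgroup G) = ⊤ := (hn.eq_bot_or_eq_top).resolve_left fun h =>
    ha1 (mem_bot.mp (h ▸ ha))
  have hz : (zpowers a).Normal := ⟨fun x hx g => by
    rw [H.comm g (htop ▸ mem_top g) x (htop ▸ mem_top x), mul_inv_cancel_right]; exact hx⟩
  rcases hz.eq_bot_or_eq_top with h | h
  · exact ha1 (zpowers_eq_bot.mp h)
  · have := congrArg (fun K : Subgroup G => Nat.card K) (h.trans htop.symm)
    simp only [Nat.card_zpowers, H.orderOf_eq ha ha1, H.card] at this
    norm_num at this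

theorem index_dvd_eight :
    Nat.card (normalizer ((H.P : Subgroup G) : Set G)) ∣ 72 ∧
      9 ∣ Nat.card (normalizer ((H.P : Subgroup G) : Set G)) := by
  classical
  set N := normalizer ((H.P : Subgroup G) : Set G) with hN
  have h9 : 9 ∣ Nat.card N := H.card ▸ Subgroup.card_dvd_of_le le_normalizer
  refine ⟨?_, h9⟩
  let X := {s : G // s ∈ (H.P : Subgroup G) ∧ s ≠ 1}
  let _ : MulAction N X :=
    { smul := fun g s => ⟨(g : G) * s.1 * (g : G)⁻¹, (mem_normalizer_iff.mp g.2 s.1).mp s.2.1,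
        fun h => s.2.2 (conj_eq_one_iff.mp h)⟩
      one_smul := fun s => Subtype.ext (show (1 : G) * s.1 * (1 : G)⁻¹ = s.1 by simp)
      mul_smul := fun g h s => Subtype.ext (show ((g : G) * h) * s.1 * ((g : G) * h)⁻¹ =
        (g : G) * ((h : G) * s.1 * (h : G)⁻¹) * (g : G)⁻¹ by group) }
  have hstab : ∀ s : X, Nat.card (MulAction.stabilizer N s) = 9 := by
    intro s
    rw [← H.card]
    refine Nat.card_congr
      { toFun := fun g => ⟨((g : N) : G), H.mem_of_fix s.2.1 s.2.2
          (congrArg Subtype.val (MulAction.mem_stabilizer_iff.mp g.2))⟩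
        invFun := fun p => ⟨⟨p, le_normalizer p.2⟩, MulAction.mem_stabilizer_iff.mpr (Subtype.ext
          (show (p : G) * s.1 * (p : G)⁻¹ = s.1 by
            rw [H.comm _ p.2 _ s.2.1, mul_inv_cancel_right]))⟩
        left_inv := fun g => rfl
        right_inv := fun p => rfl }
  have hX : Nat.card X = 8 := by
    have e : X ≃ {s : (H.P : Subgroup G) // ¬ s = 1} :=
      { toFun := fun s => ⟨⟨s.1, s.2.1⟩, fun h => s.2.2 (congrArg Subtype.val h)⟩
        invFun := fun s => ⟨s.1.1, s.1.2, fun h => s.2 (Subtype.ext h)⟩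
        left_inv := fun s => rfl
        right_inv := fun s => rfl }
    rw [Nat.card_congr e]
    have := Fintype.ofFinite (H.P : Subgroup G)
    rw [Nat.card_eq_fintype_card, Fintype.card_subtype_compl, Fintype.card_subtype_eq,
      ← Nat.card_eq_fintype_card, H.card]
  have h : Nat.card X = Nat.card (MulAction.orbitRel.Quotient N X) * (Nat.card N / 9) := by
    rw [Nat.card_congr (MulAction.selfEquivSigmaOrbitsQuotientStabilizer N X)]
    have := Fintype.ofFinite (MulAction.orbitRel.Quotient N X)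
    rw [Nat.card_sigma, Finset.sum_congr rfl fun ω _ => ?_, Finset.sum_const, Finset.card_univ,
      smul_eq_mul, ← Nat.card_eq_fintype_card]
    rw [← Subgroup.index, ← (MulAction.stabilizer N ω.out).index_mul_card, hstab,
      Nat.mul_div_cancel _ (by norm_num)]
  rw [hX] at h
  obtain ⟨k, hk⟩ := h9
  rw [hk, Nat.mul_div_cancel_left _ (by norm_num)] at h
  rw [hk]
  exact mul_dvd_mul_left 9 ⟨_, h.trans (mul_comm _ _)⟩

theorem no_one [IsSimpleGroup G]
    (h : Nat.card (normalizer ((H.P : Subgroup G) : Set G)) = 9) : False := by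
  haveI : Fact (Nat.Prime 3) := ⟨Nat.prime_three⟩
  have he : normalizer ((H.P : Subgroup G) : Set G) = (H.P : Subgroup G) :=
    (Subgroup.eq_of_le_of_card_ge le_normalizer (by rw [h, H.card])).symm
  have hP' : normalizer ((H.P : Subgroup G) : Set G) ≤
      centralizer ((H.P : Subgroup G) : Set G) := by
    rw [he]
    exact fun x hx => mem_centralizer_iff.mpr fun y hy => H.comm y hy x hx
  have hc := MonoidHom.ker_transferSylow_isComplement' H.P hP'
  rcases (MonoidHom.transferSylow H.P hP').normal_ker.eq_bot_or_eq_top with h' | h'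
  · rw [h', isComplement'_bot_left] at hc
    exact H.not_normal (hc ▸ inferInstance)
  · rw [h', isComplement'_top_left] at hc
    have := H.card
    rw [hc, Nat.card_eq_one_iff_unique.mpr ⟨inferInstance, inferInstance⟩] at this
    norm_num at this

theorem no_eight (hclasses : ∃ a b : G, orderOf a = 3 ∧ orderOf b = 3 ∧ ∀ g : G, g * a * g⁻¹ ≠ b)
    (h : Nat.card (normalizer ((H.P : Subgroup G) : Set G)) = 72) : False := by
  classical
  haveI : Fact (Nat.Prime 3) := ⟨Nat.prime_three⟩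
  obtain ⟨a₀, b₀, ha₀, hb₀, hne⟩ := hclasses
  have hinto : ∀ x : G, orderOf x = 3 → ∃ g, g * x * g⁻¹ ∈ (H.P : Subgroup G) ∧ g * x * g⁻¹ ≠ 1 := by
    intro x hx
    obtain ⟨Q, hQ⟩ := (IsPGroup.of_card (p := 3) (n := 1) (G := zpowers x)
      (by rw [Nat.card_zpowers, hx, pow_one])).exists_le_sylow
    obtain ⟨g, hg⟩ := MulAction.exists_smul_eq G Q H.P
    refine ⟨g, ?_, fun h => ?_⟩
    · rw [← hg, Sylow.coe_subgroup_smul]
      exact Subgroup.smul_mem_pointwise_smul _ (MulAut.conj g) _ (hQ (mem_zpowers x))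
    · rw [conj_eq_one_iff.mp h, orderOf_one] at hx; norm_num at hx
  obtain ⟨g₁, hs, hs1⟩ := hinto a₀ ha₀
  obtain ⟨g₂, ht, ht1⟩ := hinto b₀ hb₀
  set s := g₁ * a₀ * g₁⁻¹ with hs_def
  set N := normalizer ((H.P : Subgroup G) : Set G) with hN
  set K := (H.P : Subgroup G).subgroupOf N with hK
  have hKc : Nat.card K = 9 := by
    rw [hK, Nat.card_congr (subgroupOfEquivOfLe le_normalizer).toEquiv, H.card]
  have hQ8 : Nat.card (N ⧸ K) = 8 := by
    have := K.index_mul_card
    rw [hKc, h, Subgroup.index] at this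
    omega
  let Y := {x : G // x ∈ (H.P : Subgroup G) ∧ x ≠ 1}
  let F : N ⧸ K → Y := Quotient.lift
    (fun g : N => (⟨(g : G) * s * (g : G)⁻¹, (mem_normalizer_iff.mp g.2 s).mp hs,
      fun h => hs1 (conj_eq_one_iff.mp h)⟩ : Y)) (by
      intro g g' hgg
      have hgg' : g⁻¹ * g' ∈ K := QuotientGroup.leftRel_apply.mp hgg
      have hmem : ((g⁻¹ * g' : N) : G) ∈ (H.P : Subgroup G) := hgg'
      refine Subtype.ext ?_
      show (g : G) * s * (g : G)⁻¹ = (g' : G) * s * (g' : G)⁻¹
      have hc := H.comm _ hmem _ hs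
      simp only [Subgroup.coe_mul, Subgroup.coe_inv] at hc
      rw [show (g' : G) * s * (g' : G)⁻¹ = (g : G) * ((g : G)⁻¹ * g' * s) * (g' : G)⁻¹ by group, hc]
      group)
  have hinj : Function.Injective F := by
    intro x y hxy
    induction x using QuotientGroup.induction_on with
    | H g =>
      induction y using QuotientGroup.induction_on with
      | H g' =>
        have e : (g : G) * s * (g : G)⁻¹ = (g' : G) * s * (g' : G)⁻¹ := congrArg Subtype.val hxy
        refine QuotientGroup.eq.mpr ?_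
        show ((g⁻¹ * g' : N) : G) ∈ (H.P : Subgroup G)
        refine H.mem_of_fix hs hs1 ?_
        simp only [Subgroup.coe_mul, Subgroup.coe_inv]
        calc (g : G)⁻¹ * g' * s * ((g : G)⁻¹ * g')⁻¹
            = (g : G)⁻¹ * ((g' : G) * s * (g' : G)⁻¹) * g := by group
          _ = s := by rw [← e]; group
  have hY : Nat.card Y = 8 := by
    have e : Y ≃ {x : (H.P : Subgroup G) // ¬ x = 1} :=
      { toFun := fun x => ⟨⟨x.1, x.2.1⟩, fun h => x.2.2 (congrArg Subtype.val h)⟩
        invFun := fun x => ⟨x.1.1, x.1.2, fun h => x.2 (Subtype.ext h)⟩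
        left_inv := fun x => rfl
        right_inv := fun x => rfl }
    rw [Nat.card_congr e]
    have := Fintype.ofFinite (H.P : Subgroup G)
    rw [Nat.card_eq_fintype_card, Fintype.card_subtype_compl, Fintype.card_subtype_eq,
      ← Nat.card_eq_fintype_card, H.card]
  obtain ⟨x, hx⟩ := (hinj.bijective_of_nat_card_le (by rw [hY, hQ8])).2 ⟨_, ht, ht1⟩
  induction x using QuotientGroup.induction_on with
  | H g =>
    have e : (g : G) * s * (g : G)⁻¹ = g₂ * b₀ * g₂⁻¹ := congrArg Subtype.val hx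
    refine hne (g₂⁻¹ * g * g₁) ?_
    calc g₂⁻¹ * g * g₁ * a₀ * (g₂⁻¹ * g * g₁)⁻¹ = g₂⁻¹ * ((g : G) * s * (g : G)⁻¹) * g₂ := by
          rw [hs_def]; group
      _ = b₀ := by rw [e]; group

theorem four [IsSimpleGroup G]
    (h : Nat.card (normalizer ((H.P : Subgroup G) : Set G)) = 36) :
    Nonempty (G ≃* alternatingGroup (Fin 6)) := by
  classical
  haveI : Fact (Nat.Prime 3) := ⟨Nat.prime_three⟩
  set N := normalizer ((H.P : Subgroup G) : Set G) with hN
  set K := (H.P : Subgroup G).subgroupOf N with hK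
  have hKc : Nat.card K = 9 := by
    rw [hK, Nat.card_congr (subgroupOfEquivOfLe le_normalizer).toEquiv, H.card]
  have hQ4 : Nat.card (N ⧸ K) = 4 := by
    have := K.index_mul_card
    rw [hKc, h, Subgroup.index] at this
    omega
  obtain ⟨a, ha, ha1⟩ := H.exists_nontrivial
  obtain ⟨u, huN, hu2⟩ : ∃ u ∈ N, u * u ∉ (H.P : Subgroup G) := by
    by_contra hno
    push Not at hno
    obtain ⟨g, hg⟩ : ∃ g : N, (g : G) ∉ (H.P : Subgroup G) := by
      by_contra hall
      push Not at hall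
      have : Nat.card N ≤ Nat.card (H.P : Subgroup G) := Subgroup.card_le_of_le fun x hx => hall ⟨x, hx⟩
      rw [h, H.card] at this
      norm_num at this
    have hg' : ∀ x : N, (x : G) ∉ (H.P : Subgroup G) → (g : G) * x ∈ (H.P : Subgroup G) := by
      intro x hx
      refine H.mem_of_fix ha ha1 ?_
      calc (g : G) * x * a * ((g : G) * x)⁻¹ = (g : G) * ((x : G) * a * (x : G)⁻¹) * (g : G)⁻¹ := by group
        _ = a := by
            rw [H.inverts x.2 hx (hno _ x.2) ha, ← conj_inv, H.inverts g.2 hg (hno _ g.2) ha,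
              inv_inv]
    let F : N → ↥(H.P : Subgroup G) × Bool := fun x =>
      if hx : (x : G) ∈ (H.P : Subgroup G) then (⟨x, hx⟩, true) else (⟨_, hg' x hx⟩, false)
    have hF : Function.Injective F := by
      intro x y hxy
      simp only [F] at hxy
      split_ifs at hxy with h1 h2 h2
      · exact Subtype.ext (congrArg (fun q : ↥(H.P : Subgroup G) × Bool => (q.1 : G)) hxy)
      · exact absurd (congrArg Prod.snd hxy) (by simp)
      · exact absurd (congrArg Prod.snd hxy) (by simp)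
      · exact Subtype.ext (mul_left_cancel
          (congrArg (fun q : ↥(H.P : Subgroup G) × Bool => (q.1 : G)) hxy))
    have := Nat.card_le_card_of_injective F hF
    rw [h, Nat.card_prod, H.card, Nat.card_eq_fintype_card, Fintype.card_bool] at this
    norm_num at this
  have huP : u ∉ (H.P : Subgroup G) := fun hm => hu2 (mul_mem hm hm)
  set uN : N := ⟨u, huN⟩ with huN_def
  have hord : orderOf (QuotientGroup.mk' K uN) = 4 := by
    haveI : Fact (Nat.Prime 2) := ⟨Nat.prime_two⟩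
    refine orderOf_eq_prime_pow (p := 2) (n := 1) ?_ ?_
    · rw [← map_pow]
      show ¬ (((uN ^ 2 ^ 1 : N)) : N ⧸ K) = 1
      rw [QuotientGroup.eq_one_iff]
      intro hm
      exact hu2 (by simpa [hK, mem_subgroupOf, sq] using hm)
    · show _ ^ 4 = 1
      rw [← hQ4]; exact pow_card_eq_one'
  have hgen : zpowers (QuotientGroup.mk' K uN) = ⊤ :=
    Subgroup.eq_top_of_card_eq _ (by rw [Nat.card_zpowers, hord, hQ4])
  have hu4 : u * u * (u * u) ∈ (H.P : Subgroup G) := by
    have h4 := pow_orderOf_eq_one (QuotientGroup.mk' K uN)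
    rw [hord, ← map_pow] at h4
    have h4' : uN ^ 4 ∈ K := (QuotientGroup.eq_one_iff (uN ^ 4)).mp h4
    simpa [hK, mem_subgroupOf, pow_succ, mul_assoc] using h4'
  have hinv : ∀ {s}, s ∈ (H.P : Subgroup G) → u * u * s * (u * u)⁻¹ = s⁻¹ := fun {s} hs =>
    H.inverts (mul_mem huN huN) hu2 hu4 hs
  set b := u * a * u⁻¹ with hb_def
  have hb : b ∈ (H.P : Subgroup G) := (mem_normalizer_iff.mp huN a).mp ha
  have hub : u * b * u⁻¹ = a⁻¹ := by
    rw [hb_def, ← hinv ha]; group
  have hb1 : b ≠ a := fun e => huP (H.mem_of_fix ha ha1 e)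
  have hane : a⁻¹ ≠ a := fun e => by
    have h2 : a ^ 2 = 1 := by rw [sq]; nth_rewrite 1 [← e]; exact inv_mul_cancel a
    have := orderOf_dvd_of_pow_eq_one h2
    rw [H.orderOf_eq ha ha1] at this
    norm_num at this
  have hb2 : b ≠ a⁻¹ := fun e => by
    have := hub
    rw [e, show u * a⁻¹ * u⁻¹ = b⁻¹ by rw [hb_def]; group, e, inv_inv] at this
    exact hane this.symm
  obtain ⟨ψ, hψinj, hψS, hψsurj, hψ, hψneg⟩ := exists_coords (H.P : Subgroup G) H.comm H.exp H.card
    ha hb ha1 (fun e => ha1 (conj_eq_one_iff.mp e)) hb1 hb2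
  have huT : ∀ t ∈ ({a, a⁻¹, b, b⁻¹} : Set G), u * t * u⁻¹ ∈ ({a, a⁻¹, b, b⁻¹} : Set G) := by
    intro t ht
    rcases ht with rfl | rfl | rfl | rfl
    · rw [← hb_def]; simp
    · rw [← conj_inv, ← hb_def]; simp
    · rw [hub]; simp
    · rw [← conj_inv, hub]; simp
  let B : Base G :=
    { P := H.P
      a := a
      b := b
      ha := ha
      hb := hb
      ha3 := H.exp a ha
      hb3 := H.exp b hb
      card := H.card
      gen := fun s hs => by
        obtain ⟨q, hq⟩ := hψsurj s hs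
        exact ⟨q.1, q.2, by rw [← hq, hψ]; rfl⟩
      cent := fun s hs hs1 => (H.cent s hs hs1).le.trans le_normalizer
      self_cent := by
        refine (centralizer_le (Set.singleton_subset_iff.mpr ha)).trans ?_
        exact (H.cent a ha ha1).le
      mono := by
        intro g hg t ht
        have htop : QuotientGroup.mk' K ⟨g, hg⟩ ∈ zpowers (QuotientGroup.mk' K uN) :=
          hgen ▸ mem_top _
        obtain ⟨k, hk⟩ := mem_powers_iff_mem_zpowers.mpr htop
        simp only [← map_pow] at hk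
        have hp : (g : G)⁻¹ * u ^ k ∈ (H.P : Subgroup G) := by
          have := QuotientGroup.eq.mp (hk.symm : ((⟨g, hg⟩ : N) : N ⧸ K) = ((uN ^ k : N) : N ⧸ K))
          simpa [hK, mem_subgroupOf] using this
        have htP : t ∈ (H.P : Subgroup G) := by
          rcases ht with rfl | rfl | rfl | rfl
          exacts [ha, inv_mem ha, hb, inv_mem hb]
        have e : g * t * g⁻¹ = u ^ k * t * (u ^ k)⁻¹ := by
          rw [show u ^ k * t * (u ^ k)⁻¹ = g * (g⁻¹ * u ^ k * t) * (u ^ k)⁻¹ by group,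
            H.comm _ hp _ htP]
          group
        rw [e]
        clear e hp hk htP
        induction k generalizing t with
        | zero => simpa using ht
        | succ k ih =>
          rw [pow_succ', show u * u ^ k * t * (u * u ^ k)⁻¹ = u * (u ^ k * t * (u ^ k)⁻¹) * u⁻¹ by
            group]
          exact huT _ (ih t ht)
      conj_a_inv := isConj_iff.mpr ⟨u * u, hinv ha⟩
      conj_a_b := isConj_iff.mpr ⟨u, rfl⟩
      conj_ab := isConj_iff.mpr ⟨u * (u * u), by
        have e1 : u * (u * u) * a * (u * (u * u))⁻¹ = b⁻¹ := by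
          rw [show u * (u * u) * a * (u * (u * u))⁻¹ = u * (u * u * a * (u * u)⁻¹) * u⁻¹ by group,
            hinv ha, ← conj_inv]
        have e2 : u * (u * u) * b * (u * (u * u))⁻¹ = a := by
          rw [show u * (u * u) * b * (u * (u * u))⁻¹ = u * (u * u * b * (u * u)⁻¹) * u⁻¹ by group,
            hinv hb, ← conj_inv, hub, inv_inv]
        rw [show u * (u * u) * (a * b) * (u * (u * u))⁻¹ =
          u * (u * u) * a * (u * (u * u))⁻¹ * (u * (u * u) * b * (u * (u * u))⁻¹) by group, e1, e2]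
        exact H.comm _ (inv_mem hb) _ ha⟩
      conj_ab_inv := isConj_iff.mpr ⟨u * u, hinv (mul_mem ha hb)⟩ }
  rcases B.cyc4 (fun s hs hs1 => (H.cent s hs hs1).le) h with hn | ⟨h360, -⟩
  · exact absurd hn H.not_normal
  · exact S0497.result h360

theorem no_two [IsSimpleGroup G]
    (h : Nat.card (normalizer ((H.P : Subgroup G) : Set G)) = 18) : False := by
  classical
  let _ := Fintype.ofFinite (Cfsg.IrrCharacter G)
  haveI : Fact (Nat.Prime 2) := ⟨Nat.prime_two⟩
  set N := normalizer ((H.P : Subgroup G) : Set G) with hN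
  obtain ⟨⟨t, htN⟩, ht⟩ := exists_prime_orderOf_dvd_card' (G := N) 2 (by rw [h]; norm_num)
  rw [Subgroup.orderOf_mk] at ht
  have htt : t * t = 1 := by rw [← sq, ← ht, pow_orderOf_eq_one]
  have hti : t⁻¹ = t := inv_eq_of_mul_eq_one_right htt
  have htP : t ∉ (H.P : Subgroup G) := fun hm => by
    have := H.card ▸ Subgroup.orderOf_dvd_natCard _ hm
    rw [ht] at this; norm_num at this
  have hinv : ∀ {s}, s ∈ (H.P : Subgroup G) → t * s * t⁻¹ = s⁻¹ := fun {s} hs =>
    H.inverts htN htP (htt ▸ one_mem _) hs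
  have hN2 : ∀ g ∈ N, g ∈ (H.P : Subgroup G) ∨ t * g ∈ (H.P : Subgroup G) := by
    intro g hg
    have hidx : ((H.P : Subgroup G).subgroupOf N).index = 2 := by
      have := ((H.P : Subgroup G).subgroupOf N).index_mul_card
      rw [Nat.card_congr (subgroupOfEquivOfLe le_normalizer).toEquiv, H.card, h] at this
      omega
    by_cases hgP : g ∈ (H.P : Subgroup G)
    · exact Or.inl hgP
    · exact Or.inr ((Subgroup.mul_mem_iff_of_index_two hidx (a := ⟨t, htN⟩) (b := ⟨g, hg⟩)).mpr
        (iff_of_false (fun h => htP h) (fun h => hgP h)))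
  obtain ⟨a, ha, ha1⟩ := H.exists_nontrivial
  obtain ⟨b, hb, hb'⟩ : ∃ b ∈ (H.P : Subgroup G), b ∉ zpowers a := by
    by_contra hno
    push Not at hno
    have := Subgroup.card_le_of_le (show (H.P : Subgroup G) ≤ zpowers a from hno)
    rw [H.card, Nat.card_zpowers, H.orderOf_eq ha ha1] at this
    norm_num at this
  obtain ⟨ψ, hψinj, hψS, hψsurj, hψ, hψneg⟩ := exists_coords (H.P : Subgroup G) H.comm H.exp H.card
    ha hb ha1 (fun e => hb' (e ▸ one_mem _)) (fun e => hb' (e ▸ mem_zpowers a))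
    (fun e => hb' (e ▸ inv_mem (mem_zpowers a)))
  let C : Fin 4 → ZMod 3 × ZMod 3 := ![(1, 0), (0, 1), (1, 1), (1, 2)]
  have hC0 : ∀ k, C k ≠ 0 := by decide
  have hC1 : ∀ k, ψ (C k) ≠ 1 := fun k e => hC0 k (hψinj (e.trans (by simp [hψ])))
  have hord : ∀ k, orderOf (ψ (C k)) = 3 := fun k => H.orderOf_eq (hψS _) (hC1 k)
  have hreal : ∀ k, IsConj (ψ (C k)) (ψ (C k))⁻¹ := fun k =>
    isConj_iff.mpr ⟨t, hinv (hψS _)⟩
  have hInt : ∀ k, IsInt (ψ (C k)) := fun k =>
    isInt_of_real (by rw [hord]; norm_num) (hreal k)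
  have hTInt : IsInt t := isInt_of_order_two ht
  have hnc : ∀ k l, k ≠ l → ¬ IsConj (ψ (C k)) (ψ (C l)) := by
    intro k l hkl hc
    obtain ⟨g, hg⟩ := isConj_iff.mp hc
    have hgN : g ∈ N := H.fuse (hψS _) (hC1 k) (hg ▸ hψS _)
    have hd : ∀ k l, k ≠ l → C k ≠ C l ∧ -(C k) ≠ C l := by decide
    rcases hN2 g hgN with hgP | hgP
    · rw [H.comm g hgP _ (hψS _), mul_inv_cancel_right] at hg
      exact (hd k l hkl).1 (hψinj hg)
    · have e : t * (g * ψ (C k) * g⁻¹) * t⁻¹ = ψ (C k) := by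
        rw [show t * (g * ψ (C k) * g⁻¹) * t⁻¹ = (t * g) * ψ (C k) * (t * g)⁻¹ by group,
          H.comm _ hgP _ (hψS _), mul_inv_cancel_right]
      rw [hg, hinv (hψS _), hψneg] at e
      exact (hd l k hkl.symm).2 (hψinj e)
  have hcent : ∀ k, Nat.card (centralizer ({ψ (C k)} : Set G)) = 9 := fun k => by
    rw [H.cent _ (hψS _) (hC1 k), H.card]
  have O : ∀ {g h : G}, IsInt g → IsInt h → orderOf g ≠ orderOf h →
      ∑ χ : Cfsg.IrrCharacter G, val χ g * val χ h = 0 := fun hg hh hne =>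
    sum_val_mul_eq_zero hg hh fun hc => by
      obtain ⟨c, hc⟩ := isConj_iff.mp hc
      exact hne (by rw [← hc]; exact (MulEquiv.orderOf_eq (MulAut.conj c) _).symm)
  have htriv : ∀ χ : Cfsg.IrrCharacter G, BC87.kerChar χ = ⊤ → χ = BC87.triv G := by
    intro χ hχ
    by_contra hne
    have := Fintype.ofFinite G
    have h0 := CharCore.classInner_irr_of_ne hne
    rw [CharCore.classInner_def] at h0
    have hval : ∀ g, (χ : G → ℂ) g = (χ : G → ℂ) 1 := fun g =>
      BC87.mem_kerChar.mp (hχ ▸ mem_top g)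
    simp only [BC87.triv_apply, map_one, mul_one, hval, Finset.sum_const, Finset.card_univ,
      nsmul_eq_mul, mul_eq_zero, inv_eq_zero, Nat.cast_eq_zero, Fintype.card_ne_zero,
      Nat.card_eq_fintype_card, CharCore.irr_apply_one_ne_zero, or_self] at h0
  refine cyc2_false (BC87.triv G) (fun χ => val χ 1) (fun χ => val χ t)
    (fun χ k => val χ (ψ (C k))) val_one_pos (by simp [val_triv])
    (fun χ k => three_dvd_val χ (hord k) (hreal k))
    (fun k => by rw [sum_val_mul_self (hInt k), hcent]; rfl)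
    (fun k l hkl => sum_val_mul_eq_zero (hInt k) (hInt l) (hnc k l hkl))
    (fun k => O isInt_one (hInt k) (by rw [orderOf_one, hord]; norm_num))
    (fun k => O hTInt (hInt k) (by rw [ht, hord]; norm_num)) ?_ ?_ ?_
  · intro k l hkl
    have hz := sum_eq_zero_of_no_pairs (hInt k) hTInt (hInt l) fun x t' hx ht' hxt => by
      have hx3 : x ^ 3 = 1 := by
        obtain ⟨c, rfl⟩ := isConj_iff.mp hx
        rw [conj_pow, H.exp _ (hψS _)]; group
      have ht2 : t' * t' = 1 := by
        obtain ⟨c, rfl⟩ := isConj_iff.mp ht'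
        calc c * t * c⁻¹ * (c * t * c⁻¹) = c * (t * t) * c⁻¹ := by group
          _ = 1 := by rw [htt]; group
      have h3 := isConj_of_tri233 hx3 ht2 (by rw [hxt]; exact H.exp _ (hψS _))
      rw [hxt] at h3
      exact hnc k l hkl (hx.trans h3)
    rw [← hz]
    exact Finset.sum_congr rfl fun χ _ => by push_cast; ring
  · intro χ hχ
    have h1' : (χ : G → ℂ) 1 = 1 := by
      rw [← isInt_one.coe_val χ, show val χ 1 = 1 from hχ]; simp
    rcases (BC87.kerChar_normal χ).eq_bot_or_eq_top with hk | hk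
    · exfalso
      have hcomm : ∀ x y : G, x * y = y * x := fun x y => by
        have : x * y * (y * x)⁻¹ ∈ BC87.kerChar χ := by
          rw [BC87.mem_kerChar, BC87.apply_mul_of_degree_one h1', CharCore.irr_apply_inv,
            BC87.apply_mul_of_degree_one h1', BC87.apply_mul_of_degree_one h1']
          rw [mul_comm ((χ : G → ℂ) x), ← BC87.apply_mul_of_degree_one h1',
            ← CharCore.irr_apply_inv, ← BC87.apply_mul_of_degree_one h1', mul_inv_cancel]
        rw [hk, mem_bot, mul_inv_eq_one] at this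
        exact this
      have hz : centralizer ({a} : Set G) = ⊤ :=
        eq_top_iff.mpr fun x _ => mem_centralizer_singleton_iff.mpr (hcomm x a)
      rw [H.cent a ha ha1] at hz
      exact H.not_normal (hz ▸ inferInstance)
    · exact htriv χ hk
  · intro χ hχ
    refine htriv χ ((BC87.kerChar_normal χ).eq_bot_or_eq_top.resolve_left fun hk => ?_)
    have : t ∈ BC87.kerChar χ := by
      rw [BC87.mem_kerChar, ← hTInt.coe_val, ← isInt_one.coe_val χ]
      exact congrArg _ hχ
    rw [hk, mem_bot] at this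
    rw [this, orderOf_one] at ht
    norm_num at ht

include H in
theorem equiv_alt_six [IsSimpleGroup G]
    (hclasses : ∃ a b : G, orderOf a = 3 ∧ orderOf b = 3 ∧ ∀ g : G, g * a * g⁻¹ ≠ b) :
    Nonempty (G ≃* alternatingGroup (Fin 6)) := by
  obtain ⟨⟨k, hk⟩, m, hm⟩ := H.index_dvd_eight
  have hm8 : m ∣ 8 := ⟨k, by rw [hm] at hk; rw [mul_assoc] at hk; omega⟩
  have hcases : m = 1 ∨ m = 2 ∨ m = 4 ∨ m = 8 := by
    have := Nat.le_of_dvd (by norm_num) hm8
    interval_cases m <;> simp_all (config := { decide := true })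
  rcases hcases with rfl | rfl | rfl | rfl
  · exact (H.no_one hm).elim
  · exact (H.no_two hm).elim
  · exact H.four hm
  · exact (H.no_eight hclasses hm).elim

end Hyp

end Cfsg.Agent.BC87.Sym6
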