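import Mathlib.GroupTheory.Sylow
import Mathlib.GroupTheory.SpecificGroups.Cyclic.Basic
import Mathlib.Data.ZMod.Basic
import Mathlib.Algebra.Group.Conj
import Mathlib.Tactic.Group

/-!
# A self-centralizing Sylow `3`-subgroup of order `9` with controlled centralizers

Triangle relations: products of elements of order `3`.
-/

set_option autoImplicit false

namespace Cfsg.Agent.BC87.Sym6

universe u

open Subgroup

variable {G : Type u} [Group G]

/-- Conjugating by `x` a commuting pair closed up by a relation. -/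
theorem tri_rel {x y : G} (hx : x ^ 3 = 1) (hy : y ^ 3 = 1) (hxy : (x * y) ^ 3 = 1) :
    Commute (x * y⁻¹) (x * (x * y⁻¹) * x⁻¹) ∧
      x * (x * (x * y⁻¹) * x⁻¹) * x⁻¹ = (x * y⁻¹ * (x * (x * y⁻¹) * x⁻¹))⁻¹ := by
  have hx' : x⁻¹ = x * x := inv_eq_of_mul_eq_one_right (by rw [← hx, pow_three' x, mul_assoc])
  have hy' : y⁻¹ = y * y := inv_eq_of_mul_eq_one_right (by rw [← hy, pow_three' y, mul_assoc])
  have h1 : y⁻¹ * x⁻¹ * (y⁻¹ * x⁻¹) = x * y := by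
    have : x * y * (x * y) * (x * y) = 1 := by rw [← hxy, pow_three']
    calc y⁻¹ * x⁻¹ * (y⁻¹ * x⁻¹) = (x * y * (x * y) * (x * y))⁻¹ * (x * y) := by group
      _ = x * y := by rw [this, inv_one, one_mul]
  have huu : x * y⁻¹ * (x * (x * y⁻¹) * x⁻¹) = x * x * y := by
    calc x * y⁻¹ * (x * (x * y⁻¹) * x⁻¹) = x * (y⁻¹ * (x * x) * (y⁻¹ * x⁻¹)) := by group
      _ = x * (y⁻¹ * x⁻¹ * (y⁻¹ * x⁻¹)) := by rw [← hx']
      _ = x * x * y := by rw [h1, mul_assoc]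
  have hu' : x * (x * y⁻¹) * x⁻¹ * (x * y⁻¹) = x * x * y := by
    calc x * (x * y⁻¹) * x⁻¹ * (x * y⁻¹) = x * x * (y⁻¹ * y⁻¹) := by group
      _ = x * x * y := by rw [← mul_inv_rev, ← hy', inv_inv]
  refine ⟨huu.trans hu'.symm, ?_⟩
  rw [huu]
  calc x * (x * (x * y⁻¹) * x⁻¹) * x⁻¹ = x ^ 3 * y⁻¹ * x⁻¹ * x⁻¹ := by rw [pow_three']; group
    _ = y⁻¹ * (x * x)⁻¹ := by rw [hx, one_mul]; group
    _ = (x * x * y)⁻¹ := by group

/-- An involution is conjugate to its product with an element of order dividing `3` it inverts. -/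
theorem isConj_mul_of_inverts {i s : G} (hi : i * i = 1) (hs : s ^ 3 = 1)
    (hsi : i * s * i = s⁻¹) : IsConj i (s * i) := by
  refine isConj_iff.mpr ⟨s * s, ?_⟩
  have h4 : s * s * s * s = s := by
    calc s * s * s * s = s ^ 3 * s := by rw [pow_three']
      _ = s := by rw [hs, one_mul]
  have hii : i⁻¹ = i := inv_eq_of_mul_eq_one_right hi
  calc s * s * i * (s * s)⁻¹ = s * s * (i * (s⁻¹ * s⁻¹) * i) * i⁻¹ := by group
    _ = s * s * ((i * s⁻¹ * i⁻¹) * (i * s⁻¹ * i)) * i⁻¹ := by group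
    _ = s * s * ((i * s * i)⁻¹ * (i * s * i)⁻¹) * i⁻¹ := by
        simp only [mul_inv_rev, hii, mul_assoc]
    _ = s * s * s * s * i := by rw [hsi, inv_inv, hii]; group
    _ = s * i := by rw [h4]

theorem pow_div_three [Finite G] {u : G} (h3 : ¬ 3 ∣ orderOf u) : ∃ k : ℕ, (u ^ k) ^ 3 = u := by
  obtain ⟨k, hk⟩ := exists_pow_eq_self_of_coprime
    ((Nat.prime_three.coprime_iff_not_dvd.mpr h3))
  exact ⟨k, by rwa [← pow_mul, mul_comm, pow_mul]⟩

variable [Finite G]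

/-- A Sylow `3`-subgroup of order `9`, self-centralizing, containing the centralizers of its
nontrivial elements in its normalizer, with two classes of nontrivial elements. -/
structure Base (G : Type u) [Group G] where
  P : Sylow 3 G
  a : G
  b : G
  ha : a ∈ (P : Subgroup G)
  hb : b ∈ (P : Subgroup G)
  ha3 : a ^ 3 = 1
  hb3 : b ^ 3 = 1
  card : Nat.card (P : Subgroup G) = 9
  gen : ∀ s ∈ (P : Subgroup G), ∃ i j : Fin 3, s = a ^ (i : ℕ) * b ^ (j : ℕ)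
  cent : ∀ s ∈ (P : Subgroup G), s ≠ 1 →
    centralizer ({s} : Set G) ≤ normalizer ((P : Subgroup G) : Set G)
  self_cent : centralizer ((P : Subgroup G) : Set G) ≤ (P : Subgroup G)
  mono : ∀ g ∈ normalizer ((P : Subgroup G) : Set G), ∀ t ∈ ({a, a⁻¹, b, b⁻¹} : Set G),
    g * t * g⁻¹ ∈ ({a, a⁻¹, b, b⁻¹} : Set G)
  conj_a_inv : IsConj a a⁻¹
  conj_a_b : IsConj a b
  conj_ab : IsConj (a * b) (a * b⁻¹)
  conj_ab_inv : IsConj (a * b) (a * b)⁻¹

namespace Base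

variable (B : Base G)

include B

theorem comm {s t : G} (hs : s ∈ (B.P : Subgroup G)) (ht : t ∈ (B.P : Subgroup G)) :
    s * t = t * s := by
  haveI : Fact (Nat.Prime 3) := ⟨Nat.prime_three⟩
  have h : IsMulCommutative (B.P : Subgroup G) :=
    IsPGroup.isMulCommutative_of_card_eq_prime_sq (p := 3) (by rw [B.card]; norm_num)
  exact congrArg Subtype.val (h.is_comm.comm ⟨s, hs⟩ ⟨t, ht⟩)

/-- Coordinates in `P`. -/
def φ (u : ZMod 3 × ZMod 3) : G := B.a ^ u.1.val * B.b ^ u.2.val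

theorem φ_mem (u : ZMod 3 × ZMod 3) : B.φ u ∈ (B.P : Subgroup G) :=
  mul_mem (pow_mem B.ha _) (pow_mem B.hb _)

theorem exists_φ {s : G} (hs : s ∈ (B.P : Subgroup G)) : ∃ u, B.φ u = s := by
  obtain ⟨i, j, h⟩ := B.gen s hs
  exact ⟨(i, j), h.symm⟩

theorem φ_injective : Function.Injective B.φ := by
  have h : Function.Surjective fun u => (⟨B.φ u, B.φ_mem u⟩ : (B.P : Subgroup G)) := fun s => by
    obtain ⟨u, hu⟩ := B.exists_φ s.2
    exact ⟨u, Subtype.ext hu⟩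
  have hc : Nat.card (ZMod 3 × ZMod 3) = Nat.card (B.P : Subgroup G) := by
    rw [B.card, Nat.card_prod, Nat.card_zmod]
  exact fun u v huv => (h.bijective_of_nat_card_le hc.le).1 (Subtype.ext huv)

theorem φ_add (u v : ZMod 3 × ZMod 3) : B.φ (u + v) = B.φ u * B.φ v := by
  have hk : ∀ (g : G) (i j : ZMod 3), g ^ 3 = 1 → g ^ (i + j).val = g ^ i.val * g ^ j.val := by
    intro g i j hg
    rw [ZMod.val_add, ← pow_add, pow_eq_pow_mod (i.val + j.val) hg]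
  simp only [φ, Prod.fst_add, Prod.snd_add, hk _ _ _ B.ha3, hk _ _ _ B.hb3]
  rw [mul_assoc, ← mul_assoc (B.a ^ v.1.val), B.comm (pow_mem B.ha _) (pow_mem B.hb _)]
  simp only [mul_assoc]

theorem φ_zero : B.φ 0 = 1 := by simp [φ]

theorem φ_neg (u : ZMod 3 × ZMod 3) : B.φ (-u) = (B.φ u)⁻¹ :=
  eq_inv_of_mul_eq_one_left (by rw [← B.φ_add, neg_add_cancel, B.φ_zero])

theorem φ_a : B.φ (1, 0) = B.a := by simp [φ, ZMod.val_one, ZMod.val_zero]

theorem φ_b : B.φ (0, 1) = B.b := by simp [φ, ZMod.val_one, ZMod.val_zero]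

theorem φ_ab : B.φ (1, 1) = B.a * B.b := by simp [φ, ZMod.val_one]

theorem φ_a_inv : B.φ (2, 0) = B.a⁻¹ := by
  rw [show ((2, 0) : ZMod 3 × ZMod 3) = -(1, 0) by decide, B.φ_neg, B.φ_a]

theorem φ_b_inv : B.φ (0, 2) = B.b⁻¹ := by
  rw [show ((0, 2) : ZMod 3 × ZMod 3) = -(0, 1) by decide, B.φ_neg, B.φ_b]

theorem mem_axes_iff (u : ZMod 3 × ZMod 3) :
    B.φ u ∈ ({B.a, B.a⁻¹, B.b, B.b⁻¹} : Set G) ↔ (u.1 = 0) ≠ (u.2 = 0) := by
  rw [← B.φ_a_inv, ← B.φ_b_inv, ← B.φ_a, ← B.φ_b]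
  simp only [Set.mem_insert_iff, Set.mem_singleton_iff, B.φ_injective.eq_iff]
  revert u
  decide

theorem mem_of_pow_three {x : G} (hx : x ^ 3 = 1)
    (hN : x ∈ normalizer ((B.P : Subgroup G) : Set G)) : x ∈ (B.P : Subgroup G) := by
  haveI : Fact (Nat.Prime 3) := ⟨Nat.prime_three⟩
  have hp : IsPGroup 3 (zpowers x) := by
    obtain ⟨k, -, hk⟩ := (Nat.dvd_prime_pow Nat.prime_three).mp (show orderOf x ∣ 3 ^ 1 by
      rw [pow_one]; exact orderOf_dvd_of_pow_eq_one hx)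
    exact IsPGroup.of_card (n := k) (by rw [Nat.card_zpowers, hk])
  have h : x ∈ zpowers x ⊓ normalizer ((B.P : Subgroup G) : Set G) := ⟨mem_zpowers x, hN⟩
  exact ((hp.inf_normalizer_sylow B.P).le h).2

theorem sylow_eq_conj (Q : Sylow 3 G) :
    ∃ g : G, ∀ z, z ∈ (Q : Subgroup G) ↔ g * z * g⁻¹ ∈ (B.P : Subgroup G) := by
  haveI : Fact (Nat.Prime 3) := ⟨Nat.prime_three⟩
  obtain ⟨g, hg⟩ := MulAction.exists_smul_eq G Q B.P
  refine ⟨g, fun z => ?_⟩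
  rw [← hg, Sylow.coe_subgroup_smul]
  exact (Subgroup.smul_mem_pointwise_smul_iff (a := MulAut.conj g)).symm

theorem centralizer_le (Q : Sylow 3 G) {s : G} (hs : s ∈ (Q : Subgroup G)) (hs1 : s ≠ 1) :
    centralizer ({s} : Set G) ≤ normalizer ((Q : Subgroup G) : Set G) := by
  intro c hc
  obtain ⟨g, hg⟩ := B.sylow_eq_conj Q
  have h := B.cent _ ((hg s).mp hs) (fun h => hs1 (by simpa using h))
    (show g * c * g⁻¹ ∈ _ from mem_centralizer_singleton_iff.mpr (by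
      rw [show g * c * g⁻¹ * (g * s * g⁻¹) = g * (c * s) * g⁻¹ by group,
        mem_centralizer_singleton_iff.mp hc]
      group))
  refine mem_normalizer_iff.mpr fun z => ?_
  rw [hg z, hg (c * z * c⁻¹), mem_normalizer_iff.mp h (g * z * g⁻¹)]
  rw [show g * c * g⁻¹ * (g * z * g⁻¹) * (g * c * g⁻¹)⁻¹ = g * (c * z * c⁻¹) * g⁻¹ by group]

theorem mem_sylow_of_pow_three (Q : Sylow 3 G) {x : G} (hx : x ^ 3 = 1)
    (hN : x ∈ normalizer ((Q : Subgroup G) : Set G)) : x ∈ (Q : Subgroup G) := by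
  obtain ⟨g, hg⟩ := B.sylow_eq_conj Q
  refine (hg x).mpr (B.mem_of_pow_three (by rw [conj_pow, hx]; group) ?_)
  refine mem_normalizer_iff.mpr fun z => ?_
  have h1 := mem_normalizer_iff.mp hN (g⁻¹ * z * g)
  rw [hg, hg, show g * (g⁻¹ * z * g) * g⁻¹ = z by group,
    show g * (x * (g⁻¹ * z * g) * x⁻¹) * g⁻¹ = g * x * g⁻¹ * z * (g * x * g⁻¹)⁻¹ by group] at h1
  exact h1

theorem pow_three {s : G} (hs : s ∈ (B.P : Subgroup G)) : s ^ 3 = 1 := by
  obtain ⟨u, rfl⟩ := B.exists_φ hs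
  rw [pow_succ, sq, ← B.φ_add, ← B.φ_add, ← B.φ_zero]
  congr 1
  clear hs
  revert u
  decide

/-- A nontrivial element of `P` lies in no other Sylow subgroup. -/
theorem ti (Q : Sylow 3 G) {s : G} (hs : s ∈ (B.P : Subgroup G)) (hsQ : s ∈ (Q : Subgroup G))
    (hs1 : s ≠ 1) : Q = B.P := by
  obtain ⟨g, hg⟩ := B.sylow_eq_conj Q
  refine (Sylow.ext (le_antisymm (fun z hz => ?_) (fun z hz => ?_))).symm
  · refine B.mem_sylow_of_pow_three Q (B.pow_three hz) (B.centralizer_le Q hsQ hs1 ?_)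
    exact mem_centralizer_singleton_iff.mpr (B.comm hz hs)
  · have h3 : z ^ 3 = 1 := by
      have := B.pow_three ((hg z).mp hz)
      rwa [conj_pow, conj_eq_one_iff] at this
    refine B.mem_of_pow_three h3 (B.cent s hs hs1 (mem_centralizer_singleton_iff.mpr ?_))
    have := B.comm ((hg z).mp hz) ((hg s).mp hsQ)
    rw [show g * z * g⁻¹ * (g * s * g⁻¹) = g * (z * s) * g⁻¹ by group,
      show g * s * g⁻¹ * (g * z * g⁻¹) = g * (s * z) * g⁻¹ by group] at this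
    simpa using this

/-- Any element of order `3` lies in a Sylow subgroup meeting others trivially. -/
theorem ti_sylow (Q Q' : Sylow 3 G) {s : G} (hs : s ∈ (Q : Subgroup G))
    (hs' : s ∈ (Q' : Subgroup G)) (hs1 : s ≠ 1) : Q = Q' := by
  haveI : Fact (Nat.Prime 3) := ⟨Nat.prime_three⟩
  obtain ⟨g, hg⟩ := MulAction.exists_smul_eq G Q B.P
  have hmem : ∀ R : Sylow 3 G, s ∈ (R : Subgroup G) → g * s * g⁻¹ ∈ ((g • R : Sylow 3 G) : Subgroup G) :=
    fun R h => by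
      rw [Sylow.coe_subgroup_smul]
      exact Subgroup.smul_mem_pointwise_smul _ (MulAut.conj g) _ h
  have h1 := B.ti (g • Q') (hg ▸ hmem Q hs) (hmem Q' hs') (fun h => hs1 (by simpa using h))
  exact smul_left_cancel g (hg.trans h1.symm)

/-- An element whose order is divisible by `3` and commutes with both `u` and its conjugate forces
everything into one Sylow normalizer. -/
theorem local_sylow {u u' x : G} (h3 : 3 ∣ orderOf u) (hc : Commute u u')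
    (hu' : x * u * x⁻¹ = u') :
    ∃ (Q : Sylow 3 G), u ∈ normalizer ((Q : Subgroup G) : Set G) ∧
      u' ∈ normalizer ((Q : Subgroup G) : Set G) ∧ x ∈ normalizer ((Q : Subgroup G) : Set G) := by
  haveI : Fact (Nat.Prime 3) := ⟨Nat.prime_three⟩
  obtain ⟨n, hn⟩ := h3
  set t := u ^ n with ht
  have ht3 : orderOf t = 3 := by
    rw [ht, orderOf_pow_of_dvd (by rintro rfl; exact (orderOf_pos u).ne' (by simpa using hn))
      ⟨3, by rw [hn, mul_comm]⟩, hn, Nat.mul_div_cancel _ (Nat.pos_of_ne_zero (by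
        rintro rfl; exact (orderOf_pos u).ne' (by simpa using hn)))]
  have ht1 : t ≠ 1 := fun h => by rw [h, orderOf_one] at ht3; norm_num at ht3
  obtain ⟨Q, hQ⟩ := (IsPGroup.of_card (p := 3) (n := 1) (G := zpowers t)
    (by rw [Nat.card_zpowers, ht3, pow_one])).exists_le_sylow
  have htQ : t ∈ (Q : Subgroup G) := hQ (mem_zpowers t)
  refine ⟨Q, B.centralizer_le Q htQ ht1 (mem_centralizer_singleton_iff.mpr
      ((Commute.refl u).pow_right n).eq),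
    B.centralizer_le Q htQ ht1 (mem_centralizer_singleton_iff.mpr ((hc.symm).pow_right n).eq), ?_⟩
  -- the conjugate of `t` lies in the same Sylow subgroup
  have htx : x * t * x⁻¹ = u' ^ n := by rw [ht, ← hu', conj_pow]
  have hx3 : (u' ^ n) ^ 3 = 1 := by
    rw [← htx, conj_pow, show t ^ 3 = 1 by rw [← ht3]; exact pow_orderOf_eq_one t]; group
  have htQ' : u' ^ n ∈ (Q : Subgroup G) := B.mem_sylow_of_pow_three Q hx3
    (B.centralizer_le Q htQ ht1 (mem_centralizer_singleton_iff.mpr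
      ((hc.symm).pow_pow n n).eq))
  have hmove : ((x • Q : Sylow 3 G)) = Q := B.ti_sylow _ Q (s := x * t * x⁻¹)
    (by rw [Sylow.coe_subgroup_smul]; exact Subgroup.smul_mem_pointwise_smul _ (MulAut.conj x) _ htQ)
    (htx ▸ htQ') (fun h => ht1 (by simpa using h))
  exact Sylow.smul_eq_iff_mem_normalizer.mp hmove

/-- Elements of order `3` with product of order `3` in `P`. -/
theorem tri333 {x y : G} (hx : x ^ 3 = 1) (hy : y ^ 3 = 1) (hz : x * y ∈ (B.P : Subgroup G))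
    (hz1 : x * y ≠ 1) :
    (x ∈ (B.P : Subgroup G) ∧ y ∈ (B.P : Subgroup G)) ∨
      (IsConj x y ∧ IsConj (x * x) (x * y)) := by
  obtain ⟨hc, hrel⟩ := tri_rel hx hy (B.pow_three hz)
  set u := x * y⁻¹ with hu
  set u' := x * u * x⁻¹ with hu'
  by_cases h3 : 3 ∣ orderOf u
  · left
    obtain ⟨Q, huN, -, hxN⟩ := B.local_sylow h3 hc hu'.symm
    have hxQ := B.mem_sylow_of_pow_three Q hx hxN
    have hyN : y ∈ normalizer ((Q : Subgroup G) : Set G) := by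
      have := mul_mem (inv_mem huN) hxN
      simpa [hu] using this
    have hyQ := B.mem_sylow_of_pow_three Q hy hyN
    have hQ := B.ti Q hz (mul_mem hxQ hyQ) hz1
    exact ⟨hQ ▸ hxQ, hQ ▸ hyQ⟩
  · right
    obtain ⟨k, hk⟩ := pow_div_three h3
    set r := u ^ k with hr
    set r' := x * r * x⁻¹ with hr'
    have hr'u : r' ^ 3 = u' := by rw [hr', conj_pow, hk]
    have hcr : Commute r r' := by
      have e : r' = u' ^ k := by rw [hr', hr, hu', conj_pow]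
      rw [e]; exact hc.pow_pow k k
    have hrel' : x * r' * x⁻¹ = (r * r')⁻¹ := by
      have e : r' = u' ^ k := by rw [hr', hr, hu', conj_pow]
      rw [e, ← conj_pow, hrel, inv_pow, hc.mul_pow]
    have e : y = u⁻¹ * x := by rw [hu]; group
    constructor
    · -- conjugate by `(r² r')⁻¹`
      refine isConj_iff.mpr ⟨(r * r * r')⁻¹, ?_⟩
      have h1 : x * (r * r * r') * x⁻¹ = r' * r' * (r * r')⁻¹ := by
        rw [← hrel', hr']; group
      have h2 : (r * r * r')⁻¹ * (r' * r' * (r * r')⁻¹) = (r ^ 3)⁻¹ := by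
        have hcr' := hcr.eq
        calc (r * r * r')⁻¹ * (r' * r' * (r * r')⁻¹)
            = r'⁻¹ * (r * r)⁻¹ * (r' * r') * (r'⁻¹ * r⁻¹) := by group
          _ = r'⁻¹ * (r' * r') * (r * r)⁻¹ * (r'⁻¹ * r⁻¹) := by
              rw [mul_assoc r'⁻¹, ((hcr.mul_left hcr).inv_left.mul_right
                (hcr.mul_left hcr).inv_left).eq, ← mul_assoc r'⁻¹]
          _ = r' * ((r * r)⁻¹ * r'⁻¹) * r⁻¹ := by group
          _ = r' * (r'⁻¹ * (r * r)⁻¹) * r⁻¹ := by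
              rw [((hcr.mul_left hcr).inv_inv).eq]
          _ = (r ^ 3)⁻¹ := by group
      calc (r * r * r')⁻¹ * x * (r * r * r')⁻¹⁻¹
          = (r * r * r')⁻¹ * (x * (r * r * r') * x⁻¹) * x := by simp only [mul_assoc, inv_inv, inv_mul_cancel_left, inv_mul_cancel, mul_one]
        _ = y := by rw [h1, h2, hk, e]
    · refine isConj_iff.mpr ⟨(r' * r' * r)⁻¹, ?_⟩
      have hxx : x * x * r' * (x * x)⁻¹ = r := by
        calc x * x * r' * (x * x)⁻¹ = x ^ 3 * r * (x ^ 3)⁻¹ := by simp [hr', pow_succ, mul_assoc]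
          _ = r := by rw [hx]; group
      have h1 : x * x * (r' * r' * r) * (x * x)⁻¹ = r * r * (r * r')⁻¹ := by
        rw [← hrel', hr']
        calc x * x * (x * r * x⁻¹ * (x * r * x⁻¹) * r) * (x * x)⁻¹
            = x ^ 3 * (r * r) * (x ^ 3)⁻¹ * (x * x * r * (x * x)⁻¹) := by simp [pow_succ, mul_assoc]
          _ = r * r * (x * (x * r * x⁻¹) * x⁻¹) := by rw [hx]; group
      have h2 : (r' * r' * r)⁻¹ * (r * r * (r * r')⁻¹) = (r' ^ 3)⁻¹ := by
        calc (r' * r' * r)⁻¹ * (r * r * (r * r')⁻¹)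
            = r⁻¹ * (r' * r')⁻¹ * (r * r) * (r'⁻¹ * r⁻¹) := by group
          _ = r⁻¹ * (r * r) * (r' * r')⁻¹ * (r'⁻¹ * r⁻¹) := by
              rw [mul_assoc r⁻¹, ((hcr.symm.mul_left hcr.symm).inv_left.mul_right
                (hcr.symm.mul_left hcr.symm).inv_left).eq, ← mul_assoc r⁻¹]
          _ = r * ((r' ^ 3)⁻¹ * r⁻¹) := by group
          _ = r * (r⁻¹ * (r' ^ 3)⁻¹) := by rw [((hcr.symm.pow_left 3).inv_inv).eq]
          _ = (r' ^ 3)⁻¹ := by group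
      calc (r' * r' * r)⁻¹ * (x * x) * (r' * r' * r)⁻¹⁻¹
          = (r' * r' * r)⁻¹ * (x * x * (r' * r' * r) * (x * x)⁻¹) * (x * x) := by simp only [mul_assoc, inv_inv, inv_mul_cancel_left, inv_mul_cancel, mul_one]
        _ = x * y := by
            rw [h1, h2, hr'u, hu', e]
            group

/-- An element of order `3` times an involution, of order dividing `6`, squaring into `P`. -/
theorem tri236 {x t z : G} (hx : x ^ 3 = 1) (ht : t * t = 1) (hxt : x * t = z) (hz : z ^ 6 = 1)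
    (hz2 : z ^ 2 ∈ (B.P : Subgroup G)) (hz21 : z ^ 2 ≠ 1) :
    x ∈ (B.P : Subgroup G) ∨ IsConj x (z ^ 4) := by
  set u := x * z ^ 2 with hu
  set u₁ := z * u * z⁻¹ with hu₁
  set u₂ := z * u₁ * z⁻¹ with hu₂
  set u₃ := z * u₂ * z⁻¹ with hu₃
  have hz4 : z ^ 4 * z ^ 2 = 1 := by rw [← pow_add, hz]
  have hx' : x = u * z ^ 4 := by
    rw [hu, mul_assoc, ← pow_add, hz, mul_one]
  have ht' : t = x⁻¹ * z := by rw [← hxt]; group
  -- the two relations
  have r1 : u * (z * u₃ * z⁻¹) * u₂ = 1 := by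
    calc u * (z * u₃ * z⁻¹) * u₂
        = u * z ^ 4 * u * (z ^ 4)⁻¹ * (z ^ 2 * u * (z ^ 2)⁻¹) := by
          rw [hu₃, hu₂, hu₁]; simp only [pow_succ, pow_zero, one_mul]; group
      _ = u * z ^ 4 * u * z ^ 4 * u * z ^ 4 := by
          rw [inv_eq_of_mul_eq_one_right hz4,
            inv_eq_of_mul_eq_one_left hz4]
          calc u * z ^ 4 * u * z ^ 2 * (z ^ 2 * u * z ^ 4)
              = u * z ^ 4 * u * (z ^ 2 * z ^ 2) * u * z ^ 4 := by simp only [mul_assoc]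
            _ = _ := by rw [← pow_add]
      _ = x ^ 3 := by simp only [hx', pow_succ, pow_zero, one_mul, mul_assoc]
      _ = 1 := hx
  have r2 : u₃ = u⁻¹ := by
    have h6 : z * z * z * (z * z * z) = 1 := by rw [← hz]; simp [pow_succ, mul_assoc]
    have h1 : (z * z * z)⁻¹ = z * z * z := inv_eq_of_mul_eq_one_right h6
    have h2 : t = z * z * (u⁻¹ * z) := by
      rw [ht', hu]; group
    have h3 : u⁻¹ * (z * z * z) * (u⁻¹ * (z * z * z)) = 1 := by
      calc u⁻¹ * (z * z * z) * (u⁻¹ * (z * z * z))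
          = (z * z)⁻¹ * (z * z * (u⁻¹ * z) * (z * z * (u⁻¹ * z))) * (z * z) := by group
        _ = 1 := by rw [← h2, ht]; group
    calc u₃ = z * z * z * u * (z * z * z)⁻¹ := by rw [hu₃, hu₂, hu₁]; group
      _ = z * z * z * u * (z * z * z) := by rw [h1]
      _ = (z * z * z)⁻¹ * u * (z * z * z)⁻¹ := by rw [h1]
      _ = (u⁻¹ * (z * z * z) * (u⁻¹ * (z * z * z)))⁻¹ * u⁻¹ := by group
      _ = u⁻¹ := by rw [h3, inv_one, one_mul]
  have r3 : u₂ = u₁ * u⁻¹ := by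
    have e : z * u₃ * z⁻¹ = u₁⁻¹ := by rw [r2, hu₁]; group
    rw [e] at r1
    calc u₂ = (u * u₁⁻¹)⁻¹ * (u * u₁⁻¹ * u₂) := by group
      _ = _ := by rw [r1]; group
  have hc : Commute u u₁ := by
    have h : u⁻¹ = u₁ * u⁻¹ * u₁⁻¹ := by
      calc u⁻¹ = u₃ := r2.symm
        _ = z * (u₁ * u⁻¹) * z⁻¹ := by rw [hu₃, r3]
        _ = z * u₁ * z⁻¹ * (z * u * z⁻¹)⁻¹ := by group
        _ = u₁ * u⁻¹ * u₁⁻¹ := by rw [← hu₂, ← hu₁, r3]
    have h' : Commute u⁻¹ u₁ := by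
      show u⁻¹ * u₁ = u₁ * u⁻¹
      conv_lhs => rw [h]
      group
    exact Commute.inv_left_iff.mp h'
  by_cases h3 : 3 ∣ orderOf u
  · left
    obtain ⟨Q, huN, -, hzN⟩ := B.local_sylow h3 hc hu₁.symm
    have hz2Q : z ^ 2 ∈ (Q : Subgroup G) :=
      B.mem_sylow_of_pow_three Q (by rw [← pow_mul]; exact hz) (pow_mem hzN 2)
    have hxN : x ∈ normalizer ((Q : Subgroup G) : Set G) := by
      rw [hx']; exact mul_mem huN (pow_mem hzN 4)
    have hQ := B.ti Q hz2 hz2Q hz21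
    exact hQ ▸ B.mem_sylow_of_pow_three Q hx hxN
  · right
    obtain ⟨k, hk⟩ := pow_div_three h3
    set r := u ^ k with hr
    set r₁ := z * r * z⁻¹ with hr₁
    have e1 : r₁ = u₁ ^ k := by rw [hr₁, hr, hu₁, conj_pow]
    have hcr : Commute r r₁ := by rw [e1]; exact hc.pow_pow k k
    have e2 : z * r₁ * z⁻¹ = r₁ * r⁻¹ := by
      rw [e1, ← conj_pow, ← hu₂, r3, (hc.inv_left.symm).mul_pow, inv_pow]
    -- `b = r² r₁⁻¹`
    set c := r * r * r₁⁻¹ with hc'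
    have h1 : z * c * z⁻¹ = r₁ * r := by
      rw [hc']
      calc z * (r * r * r₁⁻¹) * z⁻¹ = z * r * z⁻¹ * (z * r * z⁻¹) * (z * r₁ * z⁻¹)⁻¹ := by group
        _ = r₁ * r₁ * (r₁ * r⁻¹)⁻¹ := by rw [← hr₁, e2]
        _ = r₁ * (r₁ * r) * r₁⁻¹ := by group
        _ = r₁ * r := by nth_rewrite 1 [show r₁ * r = r * r₁ from hcr.eq.symm]; rw [← mul_assoc, mul_inv_cancel_right]
    have h2 : z * (r₁ * r) * z⁻¹ = r₁ * r₁ * r⁻¹ := by
      calc z * (r₁ * r) * z⁻¹ = z * r₁ * z⁻¹ * (z * r * z⁻¹) := by group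
        _ = r₁ * (r⁻¹ * r₁) := by rw [e2, ← hr₁, mul_assoc]
        _ = r₁ * r₁ * r⁻¹ := by rw [hcr.inv_left.eq, ← mul_assoc]
    have h3' : z * (r₁ * r₁ * r⁻¹) * z⁻¹ = r₁ * (r * r)⁻¹ := by
      calc z * (r₁ * r₁ * r⁻¹) * z⁻¹
          = z * r₁ * z⁻¹ * (z * r₁ * z⁻¹) * (z * r * z⁻¹)⁻¹ := by group
        _ = r₁ * r⁻¹ * (r₁ * r⁻¹) * r₁⁻¹ := by rw [e2, ← hr₁]
        _ = r₁ * (r⁻¹ * r₁) * r⁻¹ * r₁⁻¹ := by group
        _ = r₁ * r₁ * (r⁻¹ * r⁻¹ * r₁⁻¹) := by rw [hcr.inv_left.eq]; group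
        _ = r₁ * r₁ * (r₁⁻¹ * (r⁻¹ * r⁻¹)) := by
            rw [(hcr.inv_inv.mul_left hcr.inv_inv).eq]
        _ = r₁ * (r * r)⁻¹ := by group
    have h4 : z * (r₁ * (r * r)⁻¹) * z⁻¹ = r₁ * r⁻¹ * (r₁ * r₁)⁻¹ := by
      calc z * (r₁ * (r * r)⁻¹) * z⁻¹
          = z * r₁ * z⁻¹ * (z * r * z⁻¹ * (z * r * z⁻¹))⁻¹ := by group
        _ = _ := by rw [e2, ← hr₁]
    have h5 : z ^ 4 * c * (z ^ 4)⁻¹ = r₁ * r⁻¹ * (r₁ * r₁)⁻¹ := by
      rw [← h4, ← h3', ← h2, ← h1]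
      simp only [pow_succ, pow_zero, one_mul]
      group
    have h6 : c * (r₁ * r⁻¹ * (r₁ * r₁)⁻¹)⁻¹ = r ^ 3 := by
      rw [hc']
      calc r * r * r₁⁻¹ * (r₁ * r⁻¹ * (r₁ * r₁)⁻¹)⁻¹
          = r * r * (r₁⁻¹ * (r₁ * r₁)) * (r * r₁⁻¹) := by group
        _ = r * r * r₁ * (r₁⁻¹ * r) := by rw [hcr.inv_right.eq]; group
        _ = r ^ 3 := by simp [pow_succ, mul_assoc]
    refine (isConj_iff.mpr ⟨c, ?_⟩).symm
    calc c * z ^ 4 * c⁻¹ = c * (z ^ 4 * c * (z ^ 4)⁻¹)⁻¹ * z ^ 4 := by group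
      _ = x := by rw [h5, h6, hk, ← hx']

theorem φ_coe_pow (i j : Fin 3) : B.a ^ (i : ℕ) * B.b ^ (j : ℕ) = B.φ (i, j) := rfl

theorem conj_φ_axes {u : ZMod 3 × ZMod 3} (h : (u.1 = 0) ≠ (u.2 = 0)) : IsConj B.a (B.φ u) := by
  have hb : IsConj B.a B.b⁻¹ := by
    obtain ⟨g, hg⟩ := isConj_iff.mp B.conj_a_b
    exact B.conj_a_inv.trans (isConj_iff.mpr ⟨g, by rw [← hg]; group⟩)
  have hu := (B.mem_axes_iff u).mpr h
  simp only [Set.mem_insert_iff, Set.mem_singleton_iff] at hu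
  rcases hu with hu | hu | hu | hu <;> rw [hu]
  · exact B.conj_a_inv
  · exact B.conj_a_b
  · exact hb

theorem conj_φ_diag {u : ZMod 3 × ZMod 3} (h : u.1 ≠ 0 ∧ u.2 ≠ 0) :
    IsConj (B.a * B.b) (B.φ u) := by
  obtain ⟨g, hg⟩ := isConj_iff.mp B.conj_ab
  have h4 : u = (1, 1) ∨ u = -(1, 1) ∨ u = (1, 2) ∨ u = -(1, 2) := by
    revert u; decide
  rcases h4 with rfl | rfl | rfl | rfl
  · rw [B.φ_ab]
  · rw [B.φ_neg, B.φ_ab]; exact B.conj_ab_inv
  · rw [show ((1, 2) : ZMod 3 × ZMod 3) = (1, 0) + (0, 2) by decide, B.φ_add, B.φ_a, B.φ_b_inv]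
    exact B.conj_ab
  · rw [B.φ_neg, show ((1, 2) : ZMod 3 × ZMod 3) = (1, 0) + (0, 2) by decide, B.φ_add, B.φ_a,
      B.φ_b_inv]
    exact B.conj_ab_inv.trans (isConj_iff.mpr ⟨g, by rw [← hg]; group⟩)

theorem a_ne_one : B.a ≠ 1 := by
  rw [← B.φ_a, ← B.φ_zero]; exact fun h => absurd (B.φ_injective h) (by decide)

theorem ab_ne_one : B.a * B.b ≠ 1 := by
  rw [← B.φ_ab, ← B.φ_zero]; exact fun h => absurd (B.φ_injective h) (by decide)

/-- The two classes are distinct. -/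
theorem not_isConj : ¬ IsConj B.a (B.a * B.b) := by
  intro h
  obtain ⟨g, hg⟩ := isConj_iff.mp h
  have hN : g ∈ normalizer ((B.P : Subgroup G) : Set G) := by
    refine Sylow.smul_eq_iff_mem_normalizer.mp (B.ti (g • B.P) (mul_mem B.ha B.hb) ?_ B.ab_ne_one)
    rw [← hg, Sylow.coe_subgroup_smul]
    exact Subgroup.smul_mem_pointwise_smul _ (MulAut.conj g) _ B.ha
  have h' := B.mono g hN B.a (by simp)
  rw [hg, ← B.φ_ab, B.mem_axes_iff] at h'
  revert h'; decide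

theorem isConj_iff_axes {u : ZMod 3 × ZMod 3} :
    IsConj B.a (B.φ u) ↔ ((u.1 = 0) ≠ (u.2 = 0)) := by
  refine ⟨fun h => ?_, B.conj_φ_axes⟩
  by_contra hu
  by_cases h0 : u = 0
  · subst h0
    rw [B.φ_zero] at h
    exact B.a_ne_one (isConj_one_left.mp h)
  · exact B.not_isConj (h.trans (B.conj_φ_diag (by clear h; revert u; decide)).symm)

theorem isConj_iff_diag {u : ZMod 3 × ZMod 3} :
    IsConj (B.a * B.b) (B.φ u) ↔ u.1 ≠ 0 ∧ u.2 ≠ 0 := by
  refine ⟨fun h => ?_, B.conj_φ_diag⟩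
  by_contra hu
  by_cases h0 : u = 0
  · subst h0
    rw [B.φ_zero] at h
    exact B.ab_ne_one (isConj_one_left.mp h)
  · exact B.not_isConj ((B.conj_φ_axes (by clear h; revert u; decide)).trans h.symm)

theorem pow_three_of_isConj {g x : G} (hg : g ∈ (B.P : Subgroup G)) (h : IsConj g x) :
    x ^ 3 = 1 := by
  obtain ⟨c, rfl⟩ := isConj_iff.mp h
  rw [conj_pow, B.pow_three hg]; group

/-- Pairs from the two classes with product in the second are in `P`. -/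
theorem card_pairs_aux (p : G) (Q : ZMod 3 × ZMod 3 → Prop) [DecidablePred Q]
    (hQ : ∀ u, IsConj p (B.φ u) ↔ Q u) (hp : p ∈ (B.P : Subgroup G))
    (hno : ∀ x y, IsConj B.a x → IsConj p y → IsConj x y → IsConj (x * x) (x * y) →
      x * y = B.a * B.b → False) :
    Nat.card {q : G × G // IsConj B.a q.1 ∧ IsConj p q.2 ∧ q.1 * q.2 = B.a * B.b} =
      Nat.card {q : (ZMod 3 × ZMod 3) × (ZMod 3 × ZMod 3) //
        ((q.1.1 = 0) ≠ (q.1.2 = 0)) ∧ Q q.2 ∧ q.1 + q.2 = (1, 1)} := by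
  symm
  refine Nat.card_eq_of_bijective (fun q => ⟨(B.φ q.1.1, B.φ q.1.2), B.conj_φ_axes q.2.1,
    (hQ _).mpr q.2.2.1, by rw [← B.φ_add, q.2.2.2, B.φ_ab]⟩) ⟨?_, ?_⟩
  · intro q q' h
    have h' := congrArg Subtype.val h
    exact Subtype.ext (Prod.ext (B.φ_injective (congrArg Prod.fst h'))
      (B.φ_injective (congrArg Prod.snd h')))
  · rintro ⟨⟨x, y⟩, hx, hy, hxy⟩
    rcases B.tri333 (B.pow_three_of_isConj B.ha hx) (B.pow_three_of_isConj hp hy)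
      (hxy ▸ mul_mem B.ha B.hb) (hxy ▸ B.ab_ne_one) with ⟨hxP, hyP⟩ | ⟨h1, h2⟩
    · obtain ⟨u, rfl⟩ := B.exists_φ hxP
      obtain ⟨w, rfl⟩ := B.exists_φ hyP
      rw [← B.φ_add, ← B.φ_ab] at hxy
      exact ⟨⟨(u, w), B.isConj_iff_axes.mp hx, (hQ w).mp hy, B.φ_injective hxy⟩, rfl⟩
    · exact (hno x y hx hy h1 h2 hxy).elim

theorem card_pairs_aab :
    Nat.card {q : G × G // IsConj B.a q.1 ∧ IsConj B.a q.2 ∧ q.1 * q.2 = B.a * B.b} = 2 := by
  rw [B.card_pairs_aux B.a (fun u => (u.1 = 0) ≠ (u.2 = 0)) (fun u => B.isConj_iff_axes) B.ha ?_,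
    Nat.card_eq_fintype_card]
  · decide
  · intro x y hx _ _ h2 hxy
    rw [hxy] at h2
    refine B.not_isConj ?_
    obtain ⟨g, rfl⟩ := isConj_iff.mp hx
    refine (IsConj.trans ?_ h2)
    refine B.conj_a_inv.trans (isConj_iff.mpr ⟨g, ?_⟩)
    rw [← B.φ_a_inv, show B.φ (2, 0) = B.a * B.a by
      rw [← B.φ_a, ← B.φ_add]; rfl]
    group

theorem card_pairs_abb :
    Nat.card {q : G × G // IsConj B.a q.1 ∧ IsConj (B.a * B.b) q.2 ∧ q.1 * q.2 = B.a * B.b} = 2 := by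
  rw [B.card_pairs_aux (B.a * B.b) (fun u => u.1 ≠ 0 ∧ u.2 ≠ 0) (fun u => B.isConj_iff_diag)
    (mul_mem B.ha B.hb) ?_, Nat.card_eq_fintype_card]
  · decide
  · intro x y hx hy h1 _ _
    exact B.not_isConj ((hx.trans h1).trans hy.symm)

end Base

end Cfsg.Agent.BC87.Sym6
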