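import Cfsg.Agent.BC87.Sym6.Core
import Mathlib.Data.Fintype.BigOperators
import Mathlib.Algebra.Order.BigOperators.Group.Finset

/-!
# A linear character from the arithmetic of the columns
-/

set_option autoImplicit false
set_option linter.unusedSimpArgs false

namespace Cfsg.Agent.BC87.Sym6

universe u

/-- The columns of a group with dihedral Sylow normalizer, at the identity (`f`), at the two
classes of `3`-elements (`x`, `y`), at two classes of elements of order six (`z`, `w`), and the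
deficits at two classes of involutions (`D`, `E`). -/
structure Table (ι : Type u) [Fintype ι] where
  one : ι
  f : ι → ℤ
  x : ι → ℤ
  y : ι → ℤ
  z : ι → ℤ
  w : ι → ℤ
  D : ι → ℤ
  E : ι → ℤ
  pos : ∀ i, 0 < f i
  dvd_nine : ∀ i, 9 ∣ f i + 4 * x i + 4 * y i
  dvd_three : ∀ i, 3 ∣ x i - y i
  dvd_z : ∀ i, 2 ∣ z i - x i
  dvd_w : ∀ i, 2 ∣ w i - y i
  one_eq : f one = 1 ∧ x one = 1 ∧ y one = 1 ∧ z one = 1 ∧ w one = 1 ∧ D one = 0 ∧ E one = 0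
  hxx : ∑ i, x i * x i = 18
  hyy : ∑ i, y i * y i = 18
  hzz : ∑ i, z i * z i = 6
  hww : ∑ i, w i * w i = 6
  hxy : ∑ i, x i * y i = 0
  hxz : ∑ i, x i * z i = 0
  hxw : ∑ i, x i * w i = 0
  hyz : ∑ i, y i * z i = 0
  hyw : ∑ i, y i * w i = 0
  hzw : ∑ i, z i * w i = 0
  hf : (∑ i, f i * x i = 0) ∧ (∑ i, f i * y i = 0) ∧ (∑ i, f i * z i = 0) ∧ ∑ i, f i * w i = 0
  hD : (∑ i, D i * x i = 0) ∧ (∑ i, D i * y i = 0) ∧ (∑ i, D i * z i = 0) ∧ ∑ i, D i * w i = 0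
  hE : (∑ i, E i * x i = 0) ∧ (∑ i, E i * y i = 0) ∧ (∑ i, E i * z i = 0) ∧ ∑ i, E i * w i = 0
  hne : ∀ i, i ≠ one → f i = 1 → x i = 1 → y i = 1 → z i = 1 → w i = 1 → False
  hswap : ∑ i, ((x i * y i * (x i - y i) : ℤ) : ℚ) / f i = 0
  hDyz : ∑ i, ((D i * y i * z i : ℤ) : ℚ) / f i = 0
  hDxw : ∑ i, ((D i * x i * w i : ℤ) : ℚ) / f i ≠ 0
  hEyz : ∑ i, ((E i * y i * z i : ℤ) : ℚ) / f i ≠ 0
  hExw : ∑ i, ((E i * x i * w i : ℤ) : ℚ) / f i = 0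
  hDEx : ∑ i, ((D i * E i * x i : ℤ) : ℚ) / f i = 0
  hDEy : ∑ i, ((D i * E i * y i : ℤ) : ℚ) / f i = 0
  hDEz : ∑ i, ((D i * E i * z i : ℤ) : ℚ) / f i = 0
  hDDz : ∑ i, ((D i * D i * z i : ℤ) : ℚ) / f i = 0
  hDDw : ∑ i, ((D i * D i * w i : ℤ) : ℚ) / f i = 0
  hEEw : ∑ i, ((E i * E i * w i : ℤ) : ℚ) / f i = 0

theorem foldl_sub : ∀ (l : List Vec) (R : Gram), l.foldl Gram.sub R =
    ⟨R.aa - (l.map fun v => v.1 * v.1).sum, R.bb - (l.map fun v => v.2.1 * v.2.1).sum,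
      R.pp - (l.map fun v => v.2.2.1 * v.2.2.1).sum, R.qq - (l.map fun v => v.2.2.2 * v.2.2.2).sum,
      R.ab - (l.map fun v => v.1 * v.2.1).sum, R.ap - (l.map fun v => v.1 * v.2.2.1).sum,
      R.aq - (l.map fun v => v.1 * v.2.2.2).sum, R.bp - (l.map fun v => v.2.1 * v.2.2.1).sum,
      R.bq - (l.map fun v => v.2.1 * v.2.2.2).sum, R.pq - (l.map fun v => v.2.2.1 * v.2.2.2).sum⟩ := by
  intro l
  induction l with
  | nil => intro R; simp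
  | cons v l ih =>
    intro R
    obtain ⟨a, b, p, q⟩ := v
    rw [List.foldl_cons, ih]
    simp only [Gram.sub, List.map_cons, List.sum_cons, Gram.mk.injEq]
    omega

theorem small_of_ne {v : Vec} (h1 : -1 ≤ v.1 ∧ v.1 ≤ 1) (h2 : -1 ≤ v.2.1 ∧ v.2.1 ≤ 1)
    (h3 : -1 ≤ v.2.2.1 ∧ v.2.2.1 ≤ 1) (h4 : -1 ≤ v.2.2.2 ∧ v.2.2.2 ≤ 1)
    (hne : v ≠ (0, 0, 0, 0)) : Small v := by
  obtain ⟨a, b, p, q⟩ := v
  refine ⟨h1, h2, h3, h4, ?_⟩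
  by_contra hlt
  obtain rfl : a = 0 := by nlinarith
  obtain rfl : b = 0 := by nlinarith
  obtain rfl : p = 0 := by nlinarith
  obtain rfl : q = 0 := by nlinarith
  exact hne rfl

theorem bound_one {u : ℤ} (h : u * u ≤ 3) : -1 ≤ u ∧ u ≤ 1 := by constructor <;> nlinarith

theorem bound_two {u : ℤ} (h : u * u ≤ 4) : -2 ≤ u ∧ u ≤ 2 := by constructor <;> nlinarith

theorem exists_perm_map {α β : Type*} (f : α → β) {l₁ l₂ : List β} (h : l₁.Perm l₂) :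
    ∀ L : List α, L.map f = l₁ → ∃ L' : List α, L'.Perm L ∧ L'.map f = l₂ := by
  induction h with
  | nil => exact fun L hL => ⟨L, List.Perm.refl L, hL⟩
  | cons x _ ih =>
    intro L hL
    obtain ⟨a, L₀, rfl, rfl, hL₀⟩ := List.map_eq_cons_iff.mp hL
    obtain ⟨L', h1, h2⟩ := ih L₀ hL₀
    exact ⟨a :: L', h1.cons a, by rw [List.map_cons, h2]⟩
  | swap x y l =>
    intro L hL
    obtain ⟨a, L₀, rfl, rfl, hL₀⟩ := List.map_eq_cons_iff.mp hL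
    obtain ⟨b, L₁, rfl, rfl, rfl⟩ := List.map_eq_cons_iff.mp hL₀
    exact ⟨b :: a :: L₁, List.Perm.swap a b L₁, rfl⟩
  | trans _ _ ih₁ ih₂ =>
    intro L hL
    obtain ⟨L₁, h1, h2⟩ := ih₁ L hL
    obtain ⟨L₂, h3, h4⟩ := ih₂ L₁ h2
    exact ⟨L₂, h3.trans h1, h4⟩

theorem prod_zero {P R Q S : ℤ} (hP : P ≠ 0) (hR : R ≠ 0) (hQ : Q ≠ 0) (hS : S ≠ 0)
    (h0 : P + R ≠ 0) (hsum : P + R = Q + S)
    (h : (Q : ℚ)⁻¹ + (S : ℚ)⁻¹ - (P : ℚ)⁻¹ - (R : ℚ)⁻¹ = 0) : (Q - P) * (Q - R) = 0 := by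
  have h1 : (((P + R) * (P * R - Q * S) : ℤ) : ℚ) = 0 := by
    have hs : (P : ℚ) + R = Q + S := by exact_mod_cast hsum
    have : (P : ℚ) ≠ 0 := by exact_mod_cast hP
    have : (R : ℚ) ≠ 0 := by exact_mod_cast hR
    have : (Q : ℚ) ≠ 0 := by exact_mod_cast hQ
    have : (S : ℚ) ≠ 0 := by exact_mod_cast hS
    field_simp at h
    push_cast
    linear_combination h + (P : ℚ) * R * hs
  have h2 : P * R - Q * S = 0 := (mul_eq_zero.mp (by exact_mod_cast h1)).resolve_left h0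
  linear_combination h2 - Q * hsum

theorem no_triple {a b c : ℤ} (ha : a ≠ 0) (hb : b ≠ 0) (hc : c ≠ 0) (h1 : 9 ∣ a + 4)
    (h2 : 9 ∣ b + 4) (h3 : 9 ∣ c + 4) (h : (a : ℚ)⁻¹ + (b : ℚ)⁻¹ + (c : ℚ)⁻¹ = 0) : False := by
  have h4 : ((b * c + a * c + a * b : ℤ) : ℚ) = 0 := by
    have : (a : ℚ) ≠ 0 := by exact_mod_cast ha
    have : (b : ℚ) ≠ 0 := by exact_mod_cast hb
    have : (c : ℚ) ≠ 0 := by exact_mod_cast hc
    field_simp at h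
    push_cast
    linear_combination h
  have h5 : b * c + a * c + a * b = 0 := by exact_mod_cast h4
  obtain ⟨k, hk⟩ := h1
  obtain ⟨l, hl⟩ := h2
  obtain ⟨m, hm⟩ := h3
  obtain rfl : a = 9 * k - 4 := by omega
  obtain rfl : b = 9 * l - 4 := by omega
  obtain rfl : c = 9 * m - 4 := by omega
  ring_nf at h5
  omega

set_option maxHeartbeats 3200000 in
theorem Table.exists_linear {ι : Type u} [Fintype ι] (T : Table ι) :
    ∃ i, i ≠ T.one ∧ T.f i = 1 ∧ T.x i = 1 ∧ T.y i = 1 ∧ T.z i = -1 ∧ T.w i = -1 := by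
  classical
  obtain ⟨o, f, x, y, z, w, D, E, pos, h9, h3, hz2, hw2, ⟨f0, x0, y0, z0, w0, D0, E0⟩, hxx, hyy,
    hzz, hww, hxy, hxz, hxw, hyz, hyw, hzw, ⟨hfx, hfy, hfz, hfw⟩, ⟨hDx, hDy, hDz, hDw⟩,
    ⟨hEx, hEy, hEz, hEw⟩, hne, hswap, hDyz, hDxw, hEyz, hExw, hDEx, hDEy, hDEz, hDDz, hDDw,
    hEEw⟩ := T
  simp only at *
  have hex : ∀ i, ∃ v : Vec, x i + 2 * y i + 3 * z i = 6 * v.1 ∧
      x i + 2 * y i - 3 * z i = 6 * v.2.1 ∧ 2 * x i + y i + 3 * w i = 6 * v.2.2.1 ∧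
      2 * x i + y i - 3 * w i = 6 * v.2.2.2 := by
    intro i
    obtain ⟨k, hk⟩ := h3 i
    obtain ⟨m, hm⟩ := hz2 i
    obtain ⟨n, hn⟩ := hw2 i
    refine ⟨(y i + 2 * k + m, -k - m, y i + k + n, k - n), ?_⟩
    simp only
    omega
  choose V hVa hVb hVp hVq using hex
  have hquad : ∀ α β γ δ α' β' γ' δ' : ℤ,
      ∑ i, (α * x i + β * y i + γ * z i + δ * w i) * (α' * x i + β' * y i + γ' * z i + δ' * w i) =
        18 * (α * α') + 18 * (β * β') + 6 * (γ * γ') + 6 * (δ * δ') := by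
    intro α β γ δ α' β' γ' δ'
    have : ∀ i, (α * x i + β * y i + γ * z i + δ * w i) * (α' * x i + β' * y i + γ' * z i + δ' * w i) =
        α * α' * (x i * x i) + β * β' * (y i * y i) + γ * γ' * (z i * z i) + δ * δ' * (w i * w i) +
        (α * β' + β * α') * (x i * y i) + (α * γ' + γ * α') * (x i * z i) +
        (α * δ' + δ * α') * (x i * w i) + (β * γ' + γ * β') * (y i * z i) +
        (β * δ' + δ * β') * (y i * w i) + (γ * δ' + δ * γ') * (z i * w i) := fun i => by ring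
    simp only [this, Finset.sum_add_distrib, ← Finset.mul_sum, hxx, hyy, hzz, hww, hxy, hxz, hxw,
      hyz, hyw, hzw]
    ring
  set rest := Finset.univ.erase o with hrest
  have hrestsum : ∀ g : ι → ℤ, ∑ i ∈ rest, g i = (∑ i, g i) - g o := fun g =>
    Finset.sum_erase_eq_sub (Finset.mem_univ o)
  have hV0 : V o = (1, 0, 1, 0) := by
    have := hVa o; have := hVb o; have := hVp o; have := hVq o
    simp only [x0, y0, z0, w0] at *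
    refine Prod.ext ?_ (Prod.ext ?_ (Prod.ext ?_ ?_)) <;> simp only <;> omega
  have hsq : ∀ (u v : ι → ℤ) (α β γ δ α' β' γ' δ' : ℤ),
      (∀ i, α * x i + β * y i + γ * z i + δ * w i = 6 * u i) →
      (∀ i, α' * x i + β' * y i + γ' * z i + δ' * w i = 6 * v i) →
      36 * ∑ i ∈ rest, u i * v i =
        18 * (α * α') + 18 * (β * β') + 6 * (γ * γ') + 6 * (δ * δ') - 36 * (u o * v o) := by
    intro u v α β γ δ α' β' γ' δ' hu hv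
    rw [hrestsum, mul_sub, Finset.mul_sum, ← hquad]
    congr 1
    exact Finset.sum_congr rfl fun i _ => by rw [hu, hv]; ring
  have la : ∀ i, 1 * x i + 2 * y i + 3 * z i + 0 * w i = 6 * (V i).1 := fun i => by
    rw [← hVa i]; ring
  have lb : ∀ i, 1 * x i + 2 * y i + (-3) * z i + 0 * w i = 6 * (V i).2.1 := fun i => by
    rw [← hVb i]; ring
  have lp : ∀ i, 2 * x i + 1 * y i + 0 * z i + 3 * w i = 6 * (V i).2.2.1 := fun i => by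
    rw [← hVp i]; ring
  have lq : ∀ i, 2 * x i + 1 * y i + 0 * z i + (-3) * w i = 6 * (V i).2.2.2 := fun i => by
    rw [← hVq i]; ring
  have gaa := hsq _ _ _ _ _ _ _ _ _ _ la la
  have gbb := hsq _ _ _ _ _ _ _ _ _ _ lb lb
  have gpp := hsq _ _ _ _ _ _ _ _ _ _ lp lp
  have gqq := hsq _ _ _ _ _ _ _ _ _ _ lq lq
  have gab := hsq _ _ _ _ _ _ _ _ _ _ la lb
  have gap := hsq _ _ _ _ _ _ _ _ _ _ la lp
  have gaq := hsq _ _ _ _ _ _ _ _ _ _ la lq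
  have gbp := hsq _ _ _ _ _ _ _ _ _ _ lb lp
  have gbq := hsq _ _ _ _ _ _ _ _ _ _ lb lq
  have gpq := hsq _ _ _ _ _ _ _ _ _ _ lp lq
  simp only [hV0] at gaa gbb gpp gqq gab gap gaq gbp gbq gpq
  have hlin : ∀ g : ι → ℤ, (∑ i, g i * x i = 0) → (∑ i, g i * y i = 0) →
      (∑ i, g i * z i = 0) → (∑ i, g i * w i = 0) →
      (∑ i ∈ rest, g i * (V i).1 = -g o) ∧ (∑ i ∈ rest, g i * (V i).2.1 = 0) ∧
      (∑ i ∈ rest, g i * (V i).2.2.1 = -g o) ∧ ∑ i ∈ rest, g i * (V i).2.2.2 = 0 := by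
    intro g h1 h2 h3 h4
    have key : ∀ (u : ι → ℤ) (α β γ δ : ℤ),
        (∀ i, α * x i + β * y i + γ * z i + δ * w i = 6 * u i) → ∑ i, g i * u i = 0 := by
      intro u α β γ δ hu
      have : 6 * ∑ i, g i * u i = 0 := by
        rw [Finset.mul_sum]
        calc ∑ i, 6 * (g i * u i) = ∑ i, (α * (g i * x i) + β * (g i * y i) + γ * (g i * z i) +
              δ * (g i * w i)) :=
              Finset.sum_congr rfl fun i _ => by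
                linear_combination -g i * hu i
          _ = 0 := by
              simp only [Finset.sum_add_distrib, ← Finset.mul_sum, h1, h2, h3, h4]
              ring
      omega
    simp only [hrestsum, key _ _ _ _ _ la, key _ _ _ _ _ lb, key _ _ _ _ _ lp, key _ _ _ _ _ lq,
      hV0]
    norm_num
  obtain ⟨-, hfb', -, hfq'⟩ := hlin f hfx hfy hfz hfw
  -- the entries are signs
  have hbound : ∀ (u : ι → ℤ) (c : ℤ), ∑ i ∈ rest, u i * u i = c → ∀ i ∈ rest, u i * u i ≤ c :=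
    fun u c h i hi => h ▸ Finset.single_le_sum (f := fun j => u j * u j)
      (fun j _ => mul_self_nonneg (u j)) hi
  have hsmall3 : ∀ u : ι → ℤ, ∑ i ∈ rest, u i * u i = 3 → ∀ i ∈ rest, -1 ≤ u i ∧ u i ≤ 1 := by
    intro u h i hi
    exact bound_one (by linarith only [hbound u 3 h i hi])
  have hsmall4 : ∀ u : ι → ℤ, ∑ i ∈ rest, u i * u i = 4 → ∑ i ∈ rest, f i * u i = 0 →
      ∀ i ∈ rest, -1 ≤ u i ∧ u i ≤ 1 := by
    intro u h hfu i hi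
    have h4 := hbound u 4 h i hi
    have h2 : -2 ≤ u i ∧ u i ≤ 2 := bound_two h4
    by_contra hcon
    have hu : u i * u i = 4 := by
      obtain h | h : u i = 2 ∨ u i = -2 := by omega
      all_goals rw [h]; norm_num
    have h0 : ∀ j ∈ rest.erase i, u j = 0 := by
      intro j hj
      have hs : ∑ k ∈ rest.erase i, u k * u k = 0 := by
        have := Finset.sum_erase_add rest (fun k => u k * u k) hi
        omega
      exact mul_self_eq_zero.mp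
        ((Finset.sum_eq_zero_iff_of_nonneg fun k _ => mul_self_nonneg (u k)).mp hs j hj)
    rw [Finset.sum_eq_single i (fun j hj hne => by
      rw [h0 j (Finset.mem_erase.mpr ⟨hne, hj⟩), mul_zero]) (fun h => absurd hi h)] at hfu
    rcases mul_eq_zero.mp hfu with h | h
    · exact (pos i).ne' h
    · omega
  have ba := hsmall3 _ (show ∑ i ∈ rest, (V i).1 * (V i).1 = 3 by omega)
  have bb := hsmall4 _ (show ∑ i ∈ rest, (V i).2.1 * (V i).2.1 = 4 by omega) hfb'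
  have bp := hsmall3 _ (show ∑ i ∈ rest, (V i).2.2.1 * (V i).2.2.1 = 3 by omega)
  have bq := hsmall4 _ (show ∑ i ∈ rest, (V i).2.2.2 * (V i).2.2.2 = 4 by omega) hfq'
  set s := rest.filter (fun i => V i ≠ (0, 0, 0, 0)) with hs
  let e : ι → ℤ := fun i => if V i ∈ vecs then 1 else -1
  have he : ∀ i, e i = 1 ∨ e i = -1 := fun i => by
    simp only [e]; split_ifs <;> simp
  have hee : ∀ i, e i * e i = 1 := fun i => by rcases he i with h | h <;> rw [h] <;> norm_num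
  let W : ι → Vec := fun i => (e i * (V i).1, e i * (V i).2.1, e i * (V i).2.2.1, e i * (V i).2.2.2)
  have hWv : ∀ i ∈ s, W i ∈ vecs := by
    intro i hi
    obtain ⟨hi, hne0⟩ := Finset.mem_filter.mp hi
    have hsm : Small (V i) :=
      small_of_ne (ba i hi) (bb i hi) (bp i hi) (bq i hi) hne0
    by_cases hv : V i ∈ vecs
    · show (e i * _, e i * _, e i * _, e i * _) ∈ vecs
      simpa [e, hv] using hv
    · show (e i * _, e i * _, e i * _, e i * _) ∈ vecs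
      simpa [e, hv] using ((small_iff _).mp hsm).resolve_left hv
  have hgs : ∀ u v : ι → ℤ, (∀ i, V i = (0, 0, 0, 0) → u i = 0) →
      (s.toList.map fun i => e i * u i * (e i * v i)).sum = ∑ i ∈ rest, u i * v i := by
    intro u v hu
    rw [Finset.sum_map_toList]
    refine (Finset.sum_filter_of_ne (p := fun i => V i ≠ (0, 0, 0, 0)) fun i _ hne h0 => hne ?_).trans
      (Finset.sum_congr rfl fun i _ => by rw [mul_mul_mul_comm, hee, one_mul])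
    show e i * u i * (e i * v i) = 0
    rw [hu i h0]; ring
  have hperm : ∃ sol ∈ sols, (s.toList.map W).Perm sol := by
    refine perm_sols _ (fun v hv => ?_) ?_
    · obtain ⟨i, hi, rfl⟩ := List.mem_map.mp hv
      exact hWv i (Finset.mem_toList.mp hi)
    · rw [foldl_sub]
      simp only [List.map_map, Function.comp_def, W]
      have za : ∀ i, V i = (0, 0, 0, 0) → (V i).1 = 0 := fun i h => by rw [h]
      have zb : ∀ i, V i = (0, 0, 0, 0) → (V i).2.1 = 0 := fun i h => by rw [h]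
      have zp : ∀ i, V i = (0, 0, 0, 0) → (V i).2.2.1 = 0 := fun i h => by rw [h]
      have zq : ∀ i, V i = (0, 0, 0, 0) → (V i).2.2.2 = 0 := fun i h => by rw [h]
      rw [hgs _ _ za, hgs _ _ zb, hgs _ _ zp, hgs _ _ zq, hgs _ (fun i => (V i).2.1) za,
        hgs _ (fun i => (V i).2.2.1) za, hgs _ (fun i => (V i).2.2.2) za,
        hgs _ (fun i => (V i).2.2.1) zb, hgs _ (fun i => (V i).2.2.2) zb,
        hgs _ (fun i => (V i).2.2.2) zp]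
      simp only [Gram.mk.injEq]
      omega
  obtain ⟨sol, hsol, hp⟩ := hperm
  obtain ⟨L, hL, hLW⟩ := exists_perm_map W hp _ rfl
  -- normalised data
  let F : ι → ℚ := fun i => e i * f i
  let X : ι → ℚ := fun i => e i * x i
  let Y : ι → ℚ := fun i => e i * y i
  let Z : ι → ℚ := fun i => e i * z i
  let U : ι → ℚ := fun i => e i * w i
  let P : ι → ℚ := fun i => e i * D i
  let Q : ι → ℚ := fun i => e i * E i
  have hnorm : ∀ (i : ι) (A B C : ℤ), ((A * B * C : ℤ) : ℚ) / f i =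
      (e i * A : ℚ) * (e i * B) * (e i * C) / (e i * f i) := by
    intro i A B C
    push_cast
    rcases he i with h | h <;> rw [h] <;> push_cast <;> ring
  have hsum : ∀ g : ι → ℚ, (∀ i ∈ rest, V i = (0, 0, 0, 0) → g i = 0) →
      ∑ i ∈ rest, g i = (L.map g).sum := by
    intro g hg
    rw [(hL.map g).sum_eq, Finset.sum_map_toList, hs]
    exact (Finset.sum_filter_of_ne (p := fun i => V i ≠ (0, 0, 0, 0))
      fun i hi hne h0 => hne (hg i hi h0)).symm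
  have hvan : ∀ i, V i = (0, 0, 0, 0) → x i = 0 ∧ y i = 0 ∧ z i = 0 ∧ w i = 0 := fun i h => by
    have := hVa i; have := hVb i; have := hVp i; have := hVq i
    simp only [h] at *
    omega
  have htot : ∀ (A B C : ι → ℤ), A o * B o * C o = 0 →
      (∀ i, V i = (0, 0, 0, 0) → A i * B i * C i = 0) →
      ∑ i, ((A i * B i * C i : ℤ) : ℚ) / f i =
        (L.map fun i => (e i * A i : ℚ) * (e i * B i) * (e i * C i) / F i).sum := by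
    intro A B C h0 hv
    rw [← Finset.sum_erase_add _ _ (Finset.mem_univ o), h0, Int.cast_zero, zero_div, add_zero,
      ← hrest, hsum _ fun i _ hi => by rw [hv i hi, Int.cast_zero, zero_div]]
    exact congrArg List.sum (List.map_congr_left fun i _ => hnorm i _ _ _)
  rw [htot x y (fun i => x i - y i) (by simp [x0, y0])
    (fun i h => by simp [(hvan i h).1])] at hswap
  rw [htot D y z (by simp [D0]) (fun i h => by simp [(hvan i h).2.1])] at hDyz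
  rw [htot D x w (by simp [D0]) (fun i h => by simp [(hvan i h).1])] at hDxw
  rw [htot E y z (by simp [E0]) (fun i h => by simp [(hvan i h).2.1])] at hEyz
  rw [htot E x w (by simp [E0]) (fun i h => by simp [(hvan i h).1])] at hExw
  rw [htot D E x (by simp [D0]) (fun i h => by simp [(hvan i h).1])] at hDEx
  rw [htot D E y (by simp [D0]) (fun i h => by simp [(hvan i h).2.1])] at hDEy
  rw [htot D E z (by simp [D0]) (fun i h => by simp [(hvan i h).2.2.1])] at hDEz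
  rw [htot D D z (by simp [D0]) (fun i h => by simp [(hvan i h).2.2.1])] at hDDz
  rw [htot D D w (by simp [D0]) (fun i h => by simp [(hvan i h).2.2.2])] at hDDw
  rw [htot E E w (by simp [E0]) (fun i h => by simp [(hvan i h).2.2.2])] at hEEw
  have hlinQ : ∀ (g u : ι → ℤ) (c : ℤ), (∀ i, V i = (0, 0, 0, 0) → u i = 0) →
      ∑ i ∈ rest, g i * u i = c →
      (L.map fun i => (e i * g i : ℚ) * (e i * u i)).sum = c := by
    intro g u c hu h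
    rw [← h, Int.cast_sum, hsum _ fun i _ hi => by rw [hu i hi, mul_zero, Int.cast_zero]]
    refine congrArg List.sum (List.map_congr_left fun i _ => ?_)
    rw [Int.cast_mul, mul_mul_mul_comm, ← Int.cast_mul (e i), hee, Int.cast_one, one_mul]
  have za : ∀ i, V i = (0, 0, 0, 0) → (V i).1 = 0 := fun i h => by rw [h]
  have zb : ∀ i, V i = (0, 0, 0, 0) → (V i).2.1 = 0 := fun i h => by rw [h]
  have zp : ∀ i, V i = (0, 0, 0, 0) → (V i).2.2.1 = 0 := fun i h => by rw [h]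
  have zq : ∀ i, V i = (0, 0, 0, 0) → (V i).2.2.2 = 0 := fun i h => by rw [h]
  have hl3 : ∀ g : ι → ℤ, _ → _ := fun g (h : (∑ i, g i * x i = 0) ∧ (∑ i, g i * y i = 0) ∧
      (∑ i, g i * z i = 0) ∧ ∑ i, g i * w i = 0) =>
    let r := hlin g h.1 h.2.1 h.2.2.1 h.2.2.2
    And.intro (hlinQ g _ _ za r.1) (And.intro (hlinQ g _ _ zb r.2.1)
      (And.intro (hlinQ g _ _ zp r.2.2.1) (hlinQ g _ _ zq r.2.2.2)))
  obtain ⟨Fa, Fb, Fp, Fq⟩ := hl3 f ⟨hfx, hfy, hfz, hfw⟩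
  obtain ⟨Da, Db, Dp, Dq⟩ := hl3 D ⟨hDx, hDy, hDz, hDw⟩
  obtain ⟨Ea, Eb, Ep, Eq⟩ := hl3 E ⟨hEx, hEy, hEz, hEw⟩
  rw [f0] at Fa Fp
  rw [D0] at Da Dp
  rw [E0] at Ea Ep
  push_cast at Fa Fb Fp Fq Da Db Dp Dq Ea Eb Ep Eq
  have hmem : ∀ i ∈ L, i ≠ o := fun i hi =>
    (Finset.mem_erase.mp (Finset.mem_filter.mp (Finset.mem_toList.mp (hL.subset hi))).1).1
  have hval : ∀ i (a b p q : ℤ), W i = (a, b, p, q) →
      e i * (V i).1 = a ∧ e i * (V i).2.1 = b ∧ e i * (V i).2.2.1 = p ∧ e i * (V i).2.2.2 = q ∧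
      e i * x i = 2 * (p + q) - (a + b) ∧ e i * y i = 2 * (a + b) - (p + q) ∧
      e i * z i = a - b ∧ e i * w i = p - q ∧
      9 ∣ e i * f i + 4 * (2 * (p + q) - (a + b)) + 4 * (2 * (a + b) - (p + q)) := by
    intro i a b p q h
    simp only [W, Prod.mk.injEq] at h
    obtain ⟨ha, hb, hp', hq⟩ := h
    have hx' : e i * x i = 2 * (p + q) - (a + b) := by
      rw [← ha, ← hb, ← hp', ← hq]
      linarith [congrArg (e i * ·) (show x i = 2 * ((V i).2.2.1 + (V i).2.2.2) -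
        ((V i).1 + (V i).2.1) by have := hVa i; have := hVb i; have := hVp i; have := hVq i; omega)]
    have hy' : e i * y i = 2 * (a + b) - (p + q) := by
      rw [← ha, ← hb, ← hp', ← hq]
      linarith [congrArg (e i * ·) (show y i = 2 * ((V i).1 + (V i).2.1) -
        ((V i).2.2.1 + (V i).2.2.2) by have := hVa i; have := hVb i; have := hVp i; have := hVq i; omega)]
    refine ⟨ha, hb, hp', hq, hx', hy', ?_, ?_, ?_⟩
    · rw [← ha, ← hb, ← mul_sub]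
      congr 1
      have := hVa i; have := hVb i; omega
    · rw [← hp', ← hq, ← mul_sub]
      congr 1
      have := hVp i; have := hVq i; omega
    · rw [← hx', ← hy']
      have := (h9 i).mul_left (e i)
      rwa [mul_add, mul_add, mul_left_comm (e i) 4 (x i), mul_left_comm (e i) 4 (y i)] at this
  have hFne : ∀ i, e i * f i ≠ 0 := fun i => by
    have := pos i
    rcases he i with h | h <;> rw [h] <;> omega
  have hlinear : ∀ i ∈ L, W i = (0, 1, 0, 1) → e i * f i = 1 →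
      ∃ i, i ≠ o ∧ f i = 1 ∧ x i = 1 ∧ y i = 1 ∧ z i = -1 ∧ w i = -1 := by
    intro i hi hW hF
    obtain ⟨-, -, -, -, hx', hy', hz', hw', -⟩ := hval i 0 1 0 1 hW
    have h1 := pos i
    have he1 : e i = 1 := by rcases he i with h | h <;> rw [h] at hF <;> omega
    simp only [he1, one_mul] at hF hx' hy' hz' hw'
    exact ⟨i, hmem i hi, hF, by omega, by omega, by omega, by omega⟩
  have hvalQ : ∀ i (a b p q : ℤ), W i = (a, b, p, q) →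
      ((e i : ℚ) * (V i).1 = a) ∧ ((e i : ℚ) * (V i).2.1 = b) ∧ ((e i : ℚ) * (V i).2.2.1 = p) ∧
      ((e i : ℚ) * (V i).2.2.2 = q) ∧
      ((e i : ℚ) * x i = ((2 * (p + q) - (a + b) : ℤ) : ℚ)) ∧
      ((e i : ℚ) * y i = ((2 * (a + b) - (p + q) : ℤ) : ℚ)) ∧
      ((e i : ℚ) * z i = ((a - b : ℤ) : ℚ)) ∧ ((e i : ℚ) * w i = ((p - q : ℤ) : ℚ)) ∧
      ((e i : ℚ) * ((x i : ℚ) - y i) = ((3 * (p + q) - 3 * (a + b) : ℤ) : ℚ)) ∧
      9 ∣ e i * f i + 4 * (2 * (p + q) - (a + b)) + 4 * (2 * (a + b) - (p + q)) := by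
    intro i a b p q h
    obtain ⟨h1, h2, h3, h4, h5, h6, h7, h8, h9⟩ := hval i a b p q h
    exact ⟨by exact_mod_cast h1, by exact_mod_cast h2, by exact_mod_cast h3, by exact_mod_cast h4,
      by exact_mod_cast h5, by exact_mod_cast h6, by exact_mod_cast h7, by exact_mod_cast h8,
      by exact_mod_cast (show e i * (x i - y i) = 3 * (p + q) - 3 * (a + b) by
        rw [mul_sub, h5, h6]; ring), h9⟩
  simp only [sols, List.mem_cons, List.not_mem_nil, or_false] at hsol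
  rcases hsol with rfl | rfl | rfl | rfl | rfl | rfl
  · simp only [List.map_eq_cons_iff, List.map_eq_nil_iff] at hLW
    obtain ⟨i₁, _, rfl, h₁, i₂, _, rfl, h₂, i₃, _, rfl, h₃, i₄, _, rfl, h₄, i₅, _, rfl, h₅, i₆, _, rfl, h₆, i₇, _, rfl, h₇, rfl⟩ := hLW
    obtain ⟨a₁, b₁, c₁, q₁, x₁, y₁, z₁, u₁, d₁, r₁⟩ := hvalQ _ _ _ _ _ h₁
    obtain ⟨a₂, b₂, c₂, q₂, x₂, y₂, z₂, u₂, d₂, r₂⟩ := hvalQ _ _ _ _ _ h₂
    obtain ⟨a₃, b₃, c₃, q₃, x₃, y₃, z₃, u₃, d₃, r₃⟩ := hvalQ _ _ _ _ _ h₃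
    obtain ⟨a₄, b₄, c₄, q₄, x₄, y₄, z₄, u₄, d₄, r₄⟩ := hvalQ _ _ _ _ _ h₄
    obtain ⟨a₅, b₅, c₅, q₅, x₅, y₅, z₅, u₅, d₅, r₅⟩ := hvalQ _ _ _ _ _ h₅
    obtain ⟨a₆, b₆, c₆, q₆, x₆, y₆, z₆, u₆, d₆, r₆⟩ := hvalQ _ _ _ _ _ h₆
    obtain ⟨a₇, b₇, c₇, q₇, x₇, y₇, z₇, u₇, d₇, r₇⟩ := hvalQ _ _ _ _ _ h₇
    simp only [List.map_cons, List.map_nil, List.sum_cons, List.sum_nil, F, a₁, b₁, c₁, q₁, x₁, y₁, z₁, u₁, d₁, a₂, b₂, c₂, q₂, x₂, y₂, z₂, u₂, d₂, a₃, b₃, c₃, q₃, x₃, y₃, z₃, u₃, d₃, a₄, b₄, c₄, q₄, x₄, y₄, z₄, u₄, d₄, a₅, b₅, c₅, q₅, x₅, y₅, z₅, u₅, d₅, a₆, b₆, c₆, q₆, x₆, y₆, z₆, u₆, d₆, a₇, b₇, c₇, q₇, x₇, y₇, z₇, u₇, d₇, Int.cast_ofNat, Int.cast_neg, Int.cast_add, Int.cast_sub, Int.cast_mul,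
      Int.cast_zero, Int.cast_one] at Fa Fq hswap
    norm_num at Fa Fq hswap
    have h67 : (e i₆ : ℚ) * f i₆ = e i₇ * f i₇ := inv_inj.mp (by linear_combination -hswap / 6)
    refine hlinear i₃ (by simp) h₃ ?_
    have hF : ((e i₃ * f i₃ : ℤ) : ℚ) = 1 := by push_cast; linear_combination Fq - Fa - h67
    exact_mod_cast hF
  · simp only [List.map_eq_cons_iff, List.map_eq_nil_iff] at hLW
    obtain ⟨i₁, _, rfl, h₁, i₂, _, rfl, h₂, i₃, _, rfl, h₃, i₄, _, rfl, h₄, i₅, _, rfl, h₅, i₆, _, rfl, h₆, i₇, _, rfl, h₇, rfl⟩ := hLW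
    obtain ⟨a₁, b₁, c₁, q₁, x₁, y₁, z₁, u₁, d₁, r₁⟩ := hvalQ _ _ _ _ _ h₁
    obtain ⟨a₂, b₂, c₂, q₂, x₂, y₂, z₂, u₂, d₂, r₂⟩ := hvalQ _ _ _ _ _ h₂
    obtain ⟨a₃, b₃, c₃, q₃, x₃, y₃, z₃, u₃, d₃, r₃⟩ := hvalQ _ _ _ _ _ h₃
    obtain ⟨a₄, b₄, c₄, q₄, x₄, y₄, z₄, u₄, d₄, r₄⟩ := hvalQ _ _ _ _ _ h₄
    obtain ⟨a₅, b₅, c₅, q₅, x₅, y₅, z₅, u₅, d₅, r₅⟩ := hvalQ _ _ _ _ _ h₅
    obtain ⟨a₆, b₆, c₆, q₆, x₆, y₆, z₆, u₆, d₆, r₆⟩ := hvalQ _ _ _ _ _ h₆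
    obtain ⟨a₇, b₇, c₇, q₇, x₇, y₇, z₇, u₇, d₇, r₇⟩ := hvalQ _ _ _ _ _ h₇
    simp only [List.map_cons, List.map_nil, List.sum_cons, List.sum_nil, F, a₁, b₁, c₁, q₁, x₁, y₁, z₁, u₁, d₁, a₂, b₂, c₂, q₂, x₂, y₂, z₂, u₂, d₂, a₃, b₃, c₃, q₃, x₃, y₃, z₃, u₃, d₃, a₄, b₄, c₄, q₄, x₄, y₄, z₄, u₄, d₄, a₅, b₅, c₅, q₅, x₅, y₅, z₅, u₅, d₅, a₆, b₆, c₆, q₆, x₆, y₆, z₆, u₆, d₆, a₇, b₇, c₇, q₇, x₇, y₇, z₇, u₇, d₇, Int.cast_ofNat, Int.cast_neg, Int.cast_add, Int.cast_sub, Int.cast_mul,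
      Int.cast_zero, Int.cast_one] at Fb Fp hswap
    norm_num at Fb Fp hswap
    have h67 : (e i₆ : ℚ) * f i₆ = e i₇ * f i₇ := inv_inj.mp (by linear_combination -hswap / 6)
    refine hlinear i₃ (by simp) h₃ ?_
    have hF : ((e i₃ * f i₃ : ℤ) : ℚ) = 1 := by push_cast; linear_combination Fb - Fp + h67
    exact_mod_cast hF
  · simp only [List.map_eq_cons_iff, List.map_eq_nil_iff] at hLW
    obtain ⟨i₁, _, rfl, h₁, i₂, _, rfl, h₂, i₃, _, rfl, h₃, i₄, _, rfl, h₄, i₅, _, rfl, h₅, i₆, _, rfl, h₆, i₇, _, rfl, h₇, rfl⟩ := hLW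
    obtain ⟨a₁, b₁, c₁, q₁, x₁, y₁, z₁, u₁, d₁, r₁⟩ := hvalQ _ _ _ _ _ h₁
    obtain ⟨a₂, b₂, c₂, q₂, x₂, y₂, z₂, u₂, d₂, r₂⟩ := hvalQ _ _ _ _ _ h₂
    obtain ⟨a₃, b₃, c₃, q₃, x₃, y₃, z₃, u₃, d₃, r₃⟩ := hvalQ _ _ _ _ _ h₃
    obtain ⟨a₄, b₄, c₄, q₄, x₄, y₄, z₄, u₄, d₄, r₄⟩ := hvalQ _ _ _ _ _ h₄
    obtain ⟨a₅, b₅, c₅, q₅, x₅, y₅, z₅, u₅, d₅, r₅⟩ := hvalQ _ _ _ _ _ h₅
    obtain ⟨a₆, b₆, c₆, q₆, x₆, y₆, z₆, u₆, d₆, r₆⟩ := hvalQ _ _ _ _ _ h₆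
    obtain ⟨a₇, b₇, c₇, q₇, x₇, y₇, z₇, u₇, d₇, r₇⟩ := hvalQ _ _ _ _ _ h₇
    simp only [List.map_cons, List.map_nil, List.sum_cons, List.sum_nil, F, a₁, b₁, c₁, q₁, x₁, y₁, z₁, u₁, d₁, a₂, b₂, c₂, q₂, x₂, y₂, z₂, u₂, d₂, a₃, b₃, c₃, q₃, x₃, y₃, z₃, u₃, d₃, a₄, b₄, c₄, q₄, x₄, y₄, z₄, u₄, d₄, a₅, b₅, c₅, q₅, x₅, y₅, z₅, u₅, d₅, a₆, b₆, c₆, q₆, x₆, y₆, z₆, u₆, d₆, a₇, b₇, c₇, q₇, x₇, y₇, z₇, u₇, d₇, Int.cast_ofNat, Int.cast_neg, Int.cast_add, Int.cast_sub, Int.cast_mul,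
      Int.cast_zero, Int.cast_one] at Fa Fb Fp Fq Da Db Dp Dq Ea Eb Ep Eq hswap hDyz hDxw hEyz hExw hDEx hDEy hDEz hDDz hDDw
    norm_num at Fa Fb Fp Fq Da Db Dp Dq Ea Eb Ep Eq hswap hDyz hDxw hEyz hExw hDEx hDEy hDEz hDDz hDDw
    exfalso
    have h67 : (e i₇ : ℚ) * f i₇ = e i₆ * f i₆ :=
      (inv_inj.mp (by linear_combination -hswap / 6 : ((e i₆ : ℚ) * f i₆)⁻¹ = ((e i₇ : ℚ) * f i₇)⁻¹)).symm
    have h12 : (e i₂ : ℚ) * f i₂ = e i₁ * f i₁ := by linarith only [h67, Fa, Fb, Fp, Fq, Da, Db, Dp, Dq, Ea, Eb, Ep, Eq]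
    have h34 : (e i₄ : ℚ) * f i₄ = e i₃ * f i₃ := by linarith only [h67, Fa, Fb, Fp, Fq, Da, Db, Dp, Dq, Ea, Eb, Ep, Eq]
    have d3 : (e i₃ : ℚ) * D i₃ = -(e i₁ * D i₁) - e i₅ * D i₅ := by linarith only [Fa, Fb, Fp, Fq, Da, Db, Dp, Dq, Ea, Eb, Ep, Eq]
    have d4 : (e i₄ : ℚ) * D i₄ = -(e i₂ * D i₂) - e i₅ * D i₅ := by linarith only [Fa, Fb, Fp, Fq, Da, Db, Dp, Dq, Ea, Eb, Ep, Eq]
    have d6 : (e i₆ : ℚ) * D i₆ = e i₅ * D i₅ - e i₁ * D i₁ := by linarith only [Fa, Fb, Fp, Fq, Da, Db, Dp, Dq, Ea, Eb, Ep, Eq]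
    have d7 : (e i₇ : ℚ) * D i₇ = e i₅ * D i₅ - e i₂ * D i₂ := by linarith only [Fa, Fb, Fp, Fq, Da, Db, Dp, Dq, Ea, Eb, Ep, Eq]
    have g3 : (e i₃ : ℚ) * E i₃ = -(e i₁ * E i₁) - e i₅ * E i₅ := by linarith only [Fa, Fb, Fp, Fq, Da, Db, Dp, Dq, Ea, Eb, Ep, Eq]
    have g4 : (e i₄ : ℚ) * E i₄ = -(e i₂ * E i₂) - e i₅ * E i₅ := by linarith only [Fa, Fb, Fp, Fq, Da, Db, Dp, Dq, Ea, Eb, Ep, Eq]
    have g6 : (e i₆ : ℚ) * E i₆ = e i₅ * E i₅ - e i₁ * E i₁ := by linarith only [Fa, Fb, Fp, Fq, Da, Db, Dp, Dq, Ea, Eb, Ep, Eq]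
    have g7 : (e i₇ : ℚ) * E i₇ = e i₅ * E i₅ - e i₂ * E i₂ := by linarith only [Fa, Fb, Fp, Fq, Da, Db, Dp, Dq, Ea, Eb, Ep, Eq]
    simp only [h67, h12, h34, d3, d4, d6, d7, g3, g4, g6, g7] at hDyz hDxw hEyz hExw hDEx hDEy hDEz hDDz hDDw
    have hPq : ((e i₆ * f i₆ : ℤ) : ℚ) = ((-2 * (e i₁ * f i₁) - e i₃ * f i₃ : ℤ) : ℚ) := by
      push_cast; linarith only [Fa, Fb, Fp, Fq, Da, Db, Dp, Dq, Ea, Eb, Ep, Eq]
    have h5q : ((e i₅ * f i₅ : ℤ) : ℚ) = ((-1 - e i₁ * f i₁ - e i₃ * f i₃ : ℤ) : ℚ) := by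
      push_cast; linarith only [Fa, Fb, Fp, Fq, Da, Db, Dp, Dq, Ea, Eb, Ep, Eq]
    refine seven_false (e i₁ * f i₁) (e i₃ * f i₃) (e i₅ * f i₅) (e i₆ * f i₆)
      (by exact_mod_cast hPq) (by exact_mod_cast h5q) (by omega) (by omega) ?_ (hFne i₅)
      (e i₁ * D i₁) (e i₂ * D i₂) (e i₅ * D i₅) (e i₁ * E i₁) (e i₂ * E i₂) (e i₅ * E i₅)
      ?_ ?_ ?_ ?_ ?_ ?_ ?_ ?_
    · intro hF
      obtain ⟨-, -, -, -, hx', hy', hz', hw', -⟩ := hval i₅ 1 0 1 0 h₅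
      have hpos := pos i₅
      have he1 : e i₅ = 1 := by rcases he i₅ with h | h <;> rw [h] at hF <;> omega
      simp only [he1, one_mul] at hF hx' hy' hz' hw'
      exact hne i₅ (hmem i₅ (by simp)) hF (by omega) (by omega) (by omega) (by omega)
    all_goals push_cast
    · linear_combination hDyz
    · intro h; exact hDxw (by linear_combination h)
    · linear_combination hExw
    · intro h; exact hEyz (by linear_combination h)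
    · linear_combination (hDEx - hDEy) / 3
    · linear_combination hDDz
    · linear_combination hDDw
    · linear_combination hDEz
  · simp only [List.map_eq_cons_iff, List.map_eq_nil_iff] at hLW
    obtain ⟨i₁, _, rfl, h₁, i₂, _, rfl, h₂, i₃, _, rfl, h₃, i₄, _, rfl, h₄, i₅, _, rfl, h₅, i₆, _, rfl, h₆, i₇, _, rfl, h₇, i₈, _, rfl, h₈, rfl⟩ := hLW
    obtain ⟨a₁, b₁, c₁, q₁, x₁, y₁, z₁, u₁, d₁, r₁⟩ := hvalQ _ _ _ _ _ h₁
    obtain ⟨a₂, b₂, c₂, q₂, x₂, y₂, z₂, u₂, d₂, r₂⟩ := hvalQ _ _ _ _ _ h₂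
    obtain ⟨a₃, b₃, c₃, q₃, x₃, y₃, z₃, u₃, d₃, r₃⟩ := hvalQ _ _ _ _ _ h₃
    obtain ⟨a₄, b₄, c₄, q₄, x₄, y₄, z₄, u₄, d₄, r₄⟩ := hvalQ _ _ _ _ _ h₄
    obtain ⟨a₅, b₅, c₅, q₅, x₅, y₅, z₅, u₅, d₅, r₅⟩ := hvalQ _ _ _ _ _ h₅
    obtain ⟨a₆, b₆, c₆, q₆, x₆, y₆, z₆, u₆, d₆, r₆⟩ := hvalQ _ _ _ _ _ h₆
    obtain ⟨a₇, b₇, c₇, q₇, x₇, y₇, z₇, u₇, d₇, r₇⟩ := hvalQ _ _ _ _ _ h₇
    obtain ⟨a₈, b₈, c₈, q₈, x₈, y₈, z₈, u₈, d₈, r₈⟩ := hvalQ _ _ _ _ _ h₈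
    simp only [List.map_cons, List.map_nil, List.sum_cons, List.sum_nil, F, a₁, b₁, c₁, q₁, x₁, y₁, z₁, u₁, d₁, a₂, b₂, c₂, q₂, x₂, y₂, z₂, u₂, d₂, a₃, b₃, c₃, q₃, x₃, y₃, z₃, u₃, d₃, a₄, b₄, c₄, q₄, x₄, y₄, z₄, u₄, d₄, a₅, b₅, c₅, q₅, x₅, y₅, z₅, u₅, d₅, a₆, b₆, c₆, q₆, x₆, y₆, z₆, u₆, d₆, a₇, b₇, c₇, q₇, x₇, y₇, z₇, u₇, d₇, a₈, b₈, c₈, q₈, x₈, y₈, z₈, u₈, d₈, Int.cast_ofNat, Int.cast_neg, Int.cast_add, Int.cast_sub, Int.cast_mul,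
      Int.cast_zero, Int.cast_one] at Fa Fb Fp Fq Da Db Dp Dq Ea Eb Ep Eq hswap hDyz hDxw hEyz hExw hDEx hDEy hDEz hDDz hDDw hEEw
    norm_num at Fa Fb Fp Fq Da Db Dp Dq Ea Eb Ep Eq hswap hDyz hDxw hEyz hExw hDEx hDEy hDEz hDDz hDDw hEEw
    have hsumPQ : ((e i₅ * f i₅ + e i₆ * f i₆ : ℤ) : ℚ) = ((e i₇ * f i₇ + e i₈ * f i₈ : ℤ) : ℚ) := by
      push_cast; linarith only [Fa, Fb, Fp, Fq, Da, Db, Dp, Dq, Ea, Eb, Ep, Eq]
    have hsumPQ' : e i₅ * f i₅ + e i₆ * f i₆ = e i₇ * f i₇ + e i₈ * f i₈ := by exact_mod_cast hsumPQ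
    have hb' : e i₁ * f i₁ + e i₂ * f i₂ + e i₃ * f i₃ + e i₇ * f i₇ = 0 := by
      have h : ((e i₁ * f i₁ + e i₂ * f i₂ + e i₃ * f i₃ + e i₇ * f i₇ : ℤ) : ℚ) = 0 := by
        push_cast; linarith only [Fa, Fb, Fp, Fq, Da, Db, Dp, Dq, Ea, Eb, Ep, Eq]
      exact_mod_cast h
    have hp' : e i₁ * f i₁ + e i₃ * f i₃ + e i₆ * f i₆ = -1 := by
      have h : ((e i₁ * f i₁ + e i₃ * f i₃ + e i₆ * f i₆ : ℤ) : ℚ) = -1 := by
        push_cast; linarith only [Fa, Fb, Fp, Fq, Da, Db, Dp, Dq, Ea, Eb, Ep, Eq]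
      exact_mod_cast h
    have hq' : e i₁ * f i₁ + e i₂ * f i₂ + e i₄ * f i₄ + e i₅ * f i₅ = 0 := by
      have h : ((e i₁ * f i₁ + e i₂ * f i₂ + e i₄ * f i₄ + e i₅ * f i₅ : ℤ) : ℚ) = 0 := by
        push_cast; linarith only [Fa, Fb, Fp, Fq, Da, Db, Dp, Dq, Ea, Eb, Ep, Eq]
      exact_mod_cast h
    have hprod : (e i₇ * f i₇ - e i₅ * f i₅) * (e i₇ * f i₇ - e i₆ * f i₆) = 0 :=
      prod_zero (hFne i₅) (hFne i₆) (hFne i₇) (hFne i₈) (by omega) hsumPQ'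
        (by push_cast; linear_combination hswap / 6)
    by_cases hK : e i₂ * f i₂ = 1
    · exact hlinear i₂ (by simp) h₂ hK
    exfalso
    rcases mul_eq_zero.mp hprod with h | h
    swap
    · omega
    have h75 : (e i₇ : ℚ) * f i₇ = e i₅ * f i₅ := by
      exact_mod_cast (show e i₇ * f i₇ = e i₅ * f i₅ by omega)
    have h86 : (e i₈ : ℚ) * f i₈ = e i₆ * f i₆ := by
      exact_mod_cast (show e i₈ * f i₈ = e i₆ * f i₆ by omega)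
    have h43 : (e i₄ : ℚ) * f i₄ = e i₃ * f i₃ := by
      exact_mod_cast (show e i₄ * f i₄ = e i₃ * f i₃ by omega)
    simp only [h75, h86, h43] at hDyz hDxw hEyz hExw hDEx hDEy hDEz hDDz hDDw hEEw
    refine eight_false (e i₂ * f i₂) (e i₃ * f i₃) (e i₅ * f i₅) (e i₆ * f i₆) (by omega)
      (hFne i₂) (hFne i₃) (hFne i₅) (hFne i₆) (e i₁ * D i₁) (e i₂ * D i₂) (e i₃ * D i₃) (e i₄ * D i₄)
      (e i₁ * E i₁) (e i₂ * E i₂) (e i₃ * E i₃) (e i₄ * E i₄) (e i₅ * D i₅) (e i₆ * D i₆)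
      (e i₇ * D i₇) (e i₈ * D i₈) (e i₅ * E i₅) (e i₆ * E i₆) (e i₇ * E i₇) (e i₈ * E i₈)
      (by linarith only [Fa, Fb, Fp, Fq, Da, Db, Dp, Dq, Ea, Eb, Ep, Eq]) (by linarith only [Fa, Fb, Fp, Fq, Da, Db, Dp, Dq, Ea, Eb, Ep, Eq]) (by linarith only [Fa, Fb, Fp, Fq, Da, Db, Dp, Dq, Ea, Eb, Ep, Eq]) (by linarith only [Fa, Fb, Fp, Fq, Da, Db, Dp, Dq, Ea, Eb, Ep, Eq]) (by linarith only [Fa, Fb, Fp, Fq, Da, Db, Dp, Dq, Ea, Eb, Ep, Eq]) (by linarith only [Fa, Fb, Fp, Fq, Da, Db, Dp, Dq, Ea, Eb, Ep, Eq])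
      (by linarith only [Fa, Fb, Fp, Fq, Da, Db, Dp, Dq, Ea, Eb, Ep, Eq]) (by linarith only [Fa, Fb, Fp, Fq, Da, Db, Dp, Dq, Ea, Eb, Ep, Eq]) ?_ ?_ ?_ ?_ ?_ ?_ ?_ ?_ ?_
    all_goals push_cast
    · linear_combination hDyz
    · intro h; exact hDxw (by linear_combination h)
    · linear_combination hExw
    · intro h; exact hEyz (by linear_combination h)
    · linear_combination (hDEx - hDEy) / 3
    · linear_combination hDDz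
    · linear_combination hDDw
    · linear_combination hEEw
    · linear_combination hDEz
  · simp only [List.map_eq_cons_iff, List.map_eq_nil_iff] at hLW
    obtain ⟨i₁, _, rfl, h₁, i₂, _, rfl, h₂, i₃, _, rfl, h₃, i₄, _, rfl, h₄, i₅, _, rfl, h₅, i₆, _, rfl, h₆, i₇, _, rfl, h₇, rfl⟩ := hLW
    obtain ⟨a₁, b₁, c₁, q₁, x₁, y₁, z₁, u₁, d₁, r₁⟩ := hvalQ _ _ _ _ _ h₁
    obtain ⟨a₂, b₂, c₂, q₂, x₂, y₂, z₂, u₂, d₂, r₂⟩ := hvalQ _ _ _ _ _ h₂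
    obtain ⟨a₃, b₃, c₃, q₃, x₃, y₃, z₃, u₃, d₃, r₃⟩ := hvalQ _ _ _ _ _ h₃
    obtain ⟨a₄, b₄, c₄, q₄, x₄, y₄, z₄, u₄, d₄, r₄⟩ := hvalQ _ _ _ _ _ h₄
    obtain ⟨a₅, b₅, c₅, q₅, x₅, y₅, z₅, u₅, d₅, r₅⟩ := hvalQ _ _ _ _ _ h₅
    obtain ⟨a₆, b₆, c₆, q₆, x₆, y₆, z₆, u₆, d₆, r₆⟩ := hvalQ _ _ _ _ _ h₆
    obtain ⟨a₇, b₇, c₇, q₇, x₇, y₇, z₇, u₇, d₇, r₇⟩ := hvalQ _ _ _ _ _ h₇
    simp only [List.map_cons, List.map_nil, List.sum_cons, List.sum_nil, F, a₁, b₁, c₁, q₁, x₁, y₁, z₁, u₁, d₁, a₂, b₂, c₂, q₂, x₂, y₂, z₂, u₂, d₂, a₃, b₃, c₃, q₃, x₃, y₃, z₃, u₃, d₃, a₄, b₄, c₄, q₄, x₄, y₄, z₄, u₄, d₄, a₅, b₅, c₅, q₅, x₅, y₅, z₅, u₅, d₅, a₆, b₆, c₆, q₆, x₆, y₆, z₆, u₆, d₆, a₇, b₇, c₇, q₇, x₇, y₇, z₇, u₇, d₇, Int.cast_ofNat, Int.cast_neg, Int.cast_add, Int.cast_sub, Int.cast_mul,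
      Int.cast_zero, Int.cast_one] at hswap
    norm_num at hswap
    exact (no_triple (hFne i₅) (hFne i₆) (hFne i₇) (by omega) (by omega) (by omega)
      (by push_cast; linear_combination -hswap / 6)).elim
  · simp only [List.map_eq_cons_iff, List.map_eq_nil_iff] at hLW
    obtain ⟨i₁, _, rfl, h₁, i₂, _, rfl, h₂, i₃, _, rfl, h₃, i₄, _, rfl, h₄, i₅, _, rfl, h₅, i₆, _, rfl, h₆, i₇, _, rfl, h₇, rfl⟩ := hLW
    obtain ⟨a₁, b₁, c₁, q₁, x₁, y₁, z₁, u₁, d₁, r₁⟩ := hvalQ _ _ _ _ _ h₁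
    obtain ⟨a₂, b₂, c₂, q₂, x₂, y₂, z₂, u₂, d₂, r₂⟩ := hvalQ _ _ _ _ _ h₂
    obtain ⟨a₃, b₃, c₃, q₃, x₃, y₃, z₃, u₃, d₃, r₃⟩ := hvalQ _ _ _ _ _ h₃
    obtain ⟨a₄, b₄, c₄, q₄, x₄, y₄, z₄, u₄, d₄, r₄⟩ := hvalQ _ _ _ _ _ h₄
    obtain ⟨a₅, b₅, c₅, q₅, x₅, y₅, z₅, u₅, d₅, r₅⟩ := hvalQ _ _ _ _ _ h₅
    obtain ⟨a₆, b₆, c₆, q₆, x₆, y₆, z₆, u₆, d₆, r₆⟩ := hvalQ _ _ _ _ _ h₆
    obtain ⟨a₇, b₇, c₇, q₇, x₇, y₇, z₇, u₇, d₇, r₇⟩ := hvalQ _ _ _ _ _ h₇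
    simp only [List.map_cons, List.map_nil, List.sum_cons, List.sum_nil, F, a₁, b₁, c₁, q₁, x₁, y₁, z₁, u₁, d₁, a₂, b₂, c₂, q₂, x₂, y₂, z₂, u₂, d₂, a₃, b₃, c₃, q₃, x₃, y₃, z₃, u₃, d₃, a₄, b₄, c₄, q₄, x₄, y₄, z₄, u₄, d₄, a₅, b₅, c₅, q₅, x₅, y₅, z₅, u₅, d₅, a₆, b₆, c₆, q₆, x₆, y₆, z₆, u₆, d₆, a₇, b₇, c₇, q₇, x₇, y₇, z₇, u₇, d₇, Int.cast_ofNat, Int.cast_neg, Int.cast_add, Int.cast_sub, Int.cast_mul,
      Int.cast_zero, Int.cast_one] at hswap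
    norm_num at hswap
    exact (no_triple (hFne i₅) (hFne i₆) (hFne i₇) (by omega) (by omega) (by omega)
      (by push_cast; linear_combination hswap / 6)).elim

end Cfsg.Agent.BC87.Sym6
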