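import Cfsg.Agent.BC87.Sym6.Search
import Mathlib.Algebra.BigOperators.Field
import Mathlib.Data.Rat.Cast.Defs
import Mathlib.Data.ZMod.Basic
import Mathlib.Tactic.FieldSimp
import Mathlib.Tactic.LinearCombination
import Mathlib.Tactic.Ring

/-!
# The arithmetic of the columns attached to a dihedral Sylow normalizer
-/

set_option autoImplicit false

namespace Cfsg.Agent.BC87.Sym6

/-- A linear form and a second one with nonzero determinant vanish only at zero. -/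
theorem eq_zero_of_det {a b c d S e : ℚ} (hdet : a * d - b * c ≠ 0) (h1 : a * S + b * e = 0)
    (h2 : c * S + d * e = 0) : S = 0 ∧ e = 0 :=
  ⟨(mul_eq_zero.mp (show (a * d - b * c) * S = 0 by linear_combination d * h1 - b * h2)).resolve_left hdet,
    (mul_eq_zero.mp (show (a * d - b * c) * e = 0 by linear_combination a * h2 - c * h1)).resolve_left hdet⟩

/-- The case of seven characters. -/
theorem seven_false (F₁ K F₅ P : ℤ) (hP : P = -2 * F₁ - K) (h5 : F₅ = -1 - F₁ - K)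
    (hF₁ : F₁ % 9 = 6) (hK : K % 9 = 1) (hF₅ : F₅ ≠ 1) (hF₅' : F₅ ≠ 0)
    (d₁ d₂ d₅ g₁ g₂ g₅ : ℚ)
    (hσ : ((d₁ - d₂) / K + d₅ / F₅ - 2 * (d₅ - d₂) / P : ℚ) = 0)
    (hσ' : ((d₂ - d₁) / K + d₅ / F₅ - 2 * (d₅ - d₁) / P : ℚ) ≠ 0)
    (hv : ((g₂ - g₁) / K + g₅ / F₅ - 2 * (g₅ - g₁) / P : ℚ) = 0)
    (hv' : ((g₁ - g₂) / K + g₅ / F₅ - 2 * (g₅ - g₂) / P : ℚ) ≠ 0)
    (hxy : ((d₁ * g₁ - d₂ * g₂) / F₁ + ((d₅ - d₁) * (g₅ - g₁) - (d₅ - d₂) * (g₅ - g₂)) / P : ℚ) = 0)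
    (hz : (-(d₁ * d₁) / F₁ + ((d₂ + d₅) * (d₂ + d₅) - (d₁ + d₅) * (d₁ + d₅)) / K + d₅ * d₅ / F₅ -
      (d₅ - d₂) * (d₅ - d₂) / P : ℚ) = 0)
    (hw : (-(d₂ * d₂) / F₁ + ((d₁ + d₅) * (d₁ + d₅) - (d₂ + d₅) * (d₂ + d₅)) / K + d₅ * d₅ / F₅ -
      (d₅ - d₁) * (d₅ - d₁) / P : ℚ) = 0)
    (hmix : (-(d₁ * g₁) / F₁ + ((d₂ + d₅) * (g₂ + g₅) - (d₁ + d₅) * (g₁ + g₅)) / K + d₅ * g₅ / F₅ -
      (d₅ - d₂) * (g₅ - g₂) / P : ℚ) = 0) : False := by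
  have hF₁' : (F₁ : ℚ) ≠ 0 := by exact_mod_cast (show F₁ ≠ 0 by omega)
  have hK' : (K : ℚ) ≠ 0 := by exact_mod_cast (show K ≠ 0 by omega)
  have hP' : (P : ℚ) ≠ 0 := by exact_mod_cast (show P ≠ 0 by omega)
  have h5' : (F₅ : ℚ) ≠ 0 := by exact_mod_cast hF₅'
  set u := (F₁ : ℚ)⁻¹ with hu
  set k := (K : ℚ)⁻¹ with hk
  set r := (F₅ : ℚ)⁻¹ with hr
  set i := (P : ℚ)⁻¹ with hi
  simp only [div_eq_mul_inv] at hσ hσ' hv hv' hxy hz hw hmix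
  rw [← hk, ← hr, ← hi] at hσ hσ' hv hv'
  rw [← hu, ← hi] at hxy
  rw [← hu, ← hk, ← hr, ← hi] at hz hw hmix
  have hD : d₁ - d₂ ≠ 0 := fun h => hσ' (by linear_combination hσ - 2 * k * h + 2 * i * h)
  have hD' : g₁ - g₂ ≠ 0 := fun h => hv' (by linear_combination hv + 2 * k * h - 2 * i * h)
  set l := -(d₁ - d₂) / (g₁ - g₂) with hl
  have hl' : l * (g₁ - g₂) = -(d₁ - d₂) := div_mul_cancel₀ _ hD'
  have hdet : i * (-2 * i) - (r - 2 * i) * (u + i) ≠ 0 := by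
    intro h
    apply hF₅
    have hPq : (P : ℚ) = -2 * F₁ - K := by exact_mod_cast hP
    have h5q : (F₅ : ℚ) = -1 - F₁ - K := by exact_mod_cast h5
    have h1 : -((P : ℚ) + F₁) + 2 * F₅ = 0 := by
      have : ((i * (-2 * i) - (r - 2 * i) * (u + i)) * (F₁ * P * F₅) : ℚ) =
          -((P : ℚ) + F₁) + 2 * F₅ := by
        rw [hu, hr, hi]; field_simp; ring
      rw [← this, h, zero_mul]
    have : (F₅ : ℚ) = 1 := by linear_combination h1 + hPq - h5q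
    exact_mod_cast this
  obtain ⟨hS, he⟩ := eq_zero_of_det (S := l * (g₁ + g₂) - (d₁ + d₂)) (e := l * g₅ - d₅) hdet
    (by linear_combination l * hv - hσ + (k - i) * hl')
    ((mul_eq_zero.mp (show ((u + i) * (l * (g₁ + g₂) - (d₁ + d₂)) + -2 * i * (l * g₅ - d₅)) *
      (d₁ - d₂) = 0 by
      linear_combination 2 * l * hxy - ((u + i) * (d₁ + d₂) - 2 * i * d₅) * hl')).resolve_right hD)
  have e5 : l * g₅ = d₅ := by linear_combination he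
  have e1 : l * g₁ = d₂ := by linear_combination hS / 2 + hl' / 2
  have e2 : l * g₂ = d₁ := by linear_combination hS / 2 - hl' / 2
  have hC : (u + i) * ((d₁ - d₂) * (d₁ - d₂)) = 0 := by
    linear_combination 2 * l * hmix - hz - hw -
      2 * (-d₁ * u - (d₁ + d₅) * k) * e1 - 2 * ((d₂ + d₅) * k + (d₅ - d₂) * i) * e2 -
      2 * (((d₂ + d₅) - (d₁ + d₅)) * k + d₅ * r - (d₅ - d₂) * i) * e5
  have h0 : u + i = 0 := (mul_eq_zero.mp hC).resolve_right (mul_ne_zero hD hD)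
  have h1 : (P : ℚ) + F₁ = 0 := by
    have : (u + i) * (F₁ * P) = (P : ℚ) + F₁ := by rw [hu, hi]; field_simp
    rw [← this, h0, zero_mul]
  have h2 : P + F₁ = 0 := by exact_mod_cast h1
  omega

/-- The case of eight characters with `K₁ ≠ 1`. -/
theorem eight_false (K₁ K P R : ℤ) (hPR : P ≠ R) (hK₁ : K₁ ≠ 0) (hK : K ≠ 0) (hP : P ≠ 0)
    (hR : R ≠ 0) (d₀ d₁ d₂ d₃ g₀ g₁ g₂ g₃ p₁ p₂ q₁ q₂ s₁ s₂ t₁ t₂ : ℚ)
    (hq₂ : d₀ + d₃ + q₂ = 0) (hq₁ : d₀ + d₁ + d₂ + q₁ = 0) (hp₂ : d₀ + d₂ + p₂ = 0)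
    (hp₁ : d₀ + d₁ + d₃ + p₁ = 0)
    (ht₂ : g₀ + g₃ + t₂ = 0) (ht₁ : g₀ + g₁ + g₂ + t₁ = 0) (hs₂ : g₀ + g₂ + s₂ = 0)
    (hs₁ : g₀ + g₁ + g₃ + s₁ = 0)
    (hσ : (-d₁ / K₁ + (d₃ - d₂) / K - 2 * q₁ / P + 2 * q₂ / R : ℚ) = 0)
    (hσ' : (-d₁ / K₁ + (d₂ - d₃) / K - 2 * p₁ / P + 2 * p₂ / R : ℚ) ≠ 0)
    (hv : (-g₁ / K₁ + (g₂ - g₃) / K - 2 * s₁ / P + 2 * s₂ / R : ℚ) = 0)
    (hv' : (-g₁ / K₁ + (g₃ - g₂) / K - 2 * t₁ / P + 2 * t₂ / R : ℚ) ≠ 0)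
    (hxy : ((p₁ * s₁ - q₁ * t₁) / P + (p₂ * s₂ - q₂ * t₂) / R : ℚ) = 0)
    (hz : (-(d₁ * d₁) / K₁ + (d₃ * d₃ - d₂ * d₂) / K - q₁ * q₁ / P + q₂ * q₂ / R : ℚ) = 0)
    (hw : (-(d₁ * d₁) / K₁ + (d₂ * d₂ - d₃ * d₃) / K - p₁ * p₁ / P + p₂ * p₂ / R : ℚ) = 0)
    (hw' : (-(g₁ * g₁) / K₁ + (g₂ * g₂ - g₃ * g₃) / K - s₁ * s₁ / P + s₂ * s₂ / R : ℚ) = 0)
    (hmix : (-(d₁ * g₁) / K₁ + (d₃ * g₃ - d₂ * g₂) / K - q₁ * t₁ / P + q₂ * t₂ / R : ℚ) = 0) :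
    False := by
  obtain rfl : q₂ = -d₀ - d₃ := by linarith
  obtain rfl : q₁ = -d₀ - d₁ - d₂ := by linarith
  obtain rfl : p₂ = -d₀ - d₂ := by linarith
  obtain rfl : p₁ = -d₀ - d₁ - d₃ := by linarith
  obtain rfl : t₂ = -g₀ - g₃ := by linarith
  obtain rfl : t₁ = -g₀ - g₁ - g₂ := by linarith
  obtain rfl : s₂ = -g₀ - g₂ := by linarith
  obtain rfl : s₁ = -g₀ - g₁ - g₃ := by linarith
  set m := (K₁ : ℚ)⁻¹ with hm
  set k := (K : ℚ)⁻¹ with hk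
  set i := (P : ℚ)⁻¹ with hi
  set j := (R : ℚ)⁻¹ with hj
  simp only [div_eq_mul_inv] at hσ hσ' hv hv' hxy hz hw hw' hmix
  rw [← hm, ← hk, ← hi, ← hj] at hσ hσ' hv hv' hz hw hw' hmix
  rw [← hi, ← hj] at hxy
  have hK₁' : (K₁ : ℚ) ≠ 0 := by exact_mod_cast hK₁
  have hm0 : m ≠ 0 := by rw [hm]; exact inv_ne_zero hK₁'
  have hij : i - j ≠ 0 := by
    intro h
    refine hPR ?_
    have h1 : (P : ℚ)⁻¹ = (R : ℚ)⁻¹ := by rw [← hi, ← hj]; linarith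
    rw [inv_inj] at h1
    exact_mod_cast h1
  have hk0 : k ≠ 0 := by rw [hk]; exact inv_ne_zero (by exact_mod_cast hK)
  have hd : d₂ - d₃ ≠ 0 := fun h => hσ' (by linear_combination hσ + (2 * k - 2 * i - 2 * j) * h)
  have hd' : g₂ - g₃ ≠ 0 := fun h => hv' (by linear_combination hv - (2 * k - 2 * i - 2 * j) * h)
  set l := -(d₂ - d₃) / (g₂ - g₃) with hl
  have hl' : l * (g₂ - g₃) = -(d₂ - d₃) := div_mul_cancel₀ _ hd'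
  set G₁ := l * g₁ - d₁ with hG₁
  set W := l * (-2 * g₀ - g₂ - g₃) - (-2 * d₀ - d₂ - d₃) with hW
  have hφ : (W - 2 * G₁) * i - W * j = 0 :=
    (mul_eq_zero.mp (show ((W - 2 * G₁) * i - W * j) * (d₂ - d₃) = 0 by
      rw [hW, hG₁]
      linear_combination 2 * l * hxy -
        ((-2 * d₀ - 2 * d₁ - d₂ - d₃) * i - (-2 * d₀ - d₂ - d₃) * j) * hl')).resolve_right hd
  have hG : G₁ = 0 := (mul_eq_zero.mp (show G₁ * m = 0 by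
    rw [hG₁, hW] at *
    linear_combination -(l * hv) + hσ - hφ + (k - i - j) * hl')).resolve_right hm0
  have hW0 : W = 0 := (mul_eq_zero.mp (show W * (i - j) = 0 by
    linear_combination hφ + 2 * i * hG)).resolve_right hij
  have hS : l * (g₂ + g₃) - (d₂ + d₃) = 0 :=
    (mul_eq_zero.mp (show (l * (g₂ + g₃) - (d₂ + d₃)) * ((d₂ - d₃) * k) = 0 by
      rw [hG₁] at hG
      rw [hW] at hW0
      linear_combination hz - l * l * hw' + l * (g₂ + g₃) * k * hl' -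
        m * (l * g₁ + d₁) * hG +
        j * (l * (-g₀ - g₂) + (-d₀ - d₃)) * (hW0 / 2 - hl' / 2) -
        i * (l * (-g₀ - g₁ - g₃) + (-d₀ - d₁ - d₂)) * (hW0 / 2 - hG + hl' / 2))).resolve_right
      (mul_ne_zero hd hk0)
  rw [hG₁] at hG
  rw [hW] at hW0
  have e1 : l * g₁ = d₁ := by linear_combination hG
  have e2 : l * g₂ = d₃ := by linear_combination hS / 2 + hl' / 2
  have e3 : l * g₃ = d₂ := by linear_combination hS / 2 - hl' / 2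
  have e0 : l * g₀ = d₀ := by linear_combination -hW0 / 2 - hS / 2
  have hC : (i - j) * ((d₂ - d₃) * (d₂ - d₃)) = 0 := by
    linear_combination 2 * l * hmix - hz - hw - 2 * (-d₁ * m) * e1 -
      2 * (-d₂ * k) * e2 - 2 * (d₃ * k) * e3 +
      2 * (-d₀ - d₁ - d₂) * i * (-e0 - e1 - e2) - 2 * (-d₀ - d₃) * j * (-e0 - e3)
  exact mul_ne_zero hij (mul_ne_zero hd hd) hC

end Cfsg.Agent.BC87.Sym6
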