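import Cfsg.Agent.BC87.Sym6.BaseChars
import Mathlib.GroupTheory.GroupAction.Quotient
import Mathlib.Tactic.Linarith
import Mathlib.Tactic.IntervalCases

/-!
# Cyclic action of order four on the Sylow `3`-subgroup
-/

set_option autoImplicit false
set_option linter.unusedSectionVars false
set_option linter.style.haveILetI false

namespace Cfsg.Agent.BC87.Sym6

universe u

open Subgroup

variable {G : Type u} [Group G] [Finite G]

/-- A lower bound for the class multiplication sum. -/
theorem cyc4_sum_pos {ι : Type*} [Fintype ι] (one : ι) (f x y : ι → ℤ) (hf : ∀ i, 0 < f i)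
    (h1 : f one = 1 ∧ x one = 1 ∧ y one = 1) (h9 : ∀ i, 9 ∣ f i + 4 * x i + 4 * y i)
    (h3 : ∀ i, 3 ∣ x i - y i) (hxx : ∑ i, x i * x i = 9) (hyy : ∑ i, y i * y i = 9)
    (hxy : ∑ i, x i * y i = 0) (hfx : ∑ i, f i * x i = 0) (hfy : ∑ i, f i * y i = 0) :
    (9 / 40 : ℚ) ≤ ∑ i, ((x i * x i * y i : ℤ) : ℚ) / f i := by
  classical
  choose d hd using h3
  have hdd : ∑ i, d i * d i = 2 := by
    have : ∑ i, (x i - y i) * (x i - y i) = 18 := by
      rw [show (18 : ℤ) = (∑ i, x i * x i) - 2 * (∑ i, x i * y i) + ∑ i, y i * y i by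
        rw [hxx, hyy, hxy]; rfl, Finset.mul_sum, ← Finset.sum_sub_distrib, ← Finset.sum_add_distrib]
      exact Finset.sum_congr rfl fun i _ => by ring
    have e : ∑ i, (x i - y i) * (x i - y i) = 9 * ∑ i, d i * d i := by
      rw [Finset.mul_sum]; exact Finset.sum_congr rfl fun i _ => by rw [hd]; ring
    omega
  have hd1 : ∀ i, d i * d i ≤ 1 := by
    intro i
    have := Finset.single_le_sum (f := fun j => d j * d j) (fun j _ => mul_self_nonneg (d j))
      (Finset.mem_univ i)
    rw [hdd] at this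
    have : -1 ≤ d i ∧ d i ≤ 1 := by constructor <;> nlinarith
    nlinarith
  set S := Finset.univ.filter fun i => d i ≠ 0 with hS
  have hcard : S.card = 2 := by
    have e : ∀ i, d i * d i = if d i ≠ 0 then 1 else 0 := by
      intro i
      split_ifs with h
      · have := hd1 i
        nlinarith [mul_self_pos.mpr h]
      · simp [not_not.mp h]
    rw [Finset.sum_congr rfl (fun i _ => e i), Finset.sum_boole] at hdd
    exact_mod_cast hdd
  obtain ⟨p, q, hpq, hSpq⟩ := Finset.card_eq_two.mp hcard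
  have hout : ∀ i, i ∉ S → x i = y i := fun i hi => by
    have : d i = 0 := by simpa [hS] using hi
    have h' := hd i
    rw [this] at h'
    omega
  have hdp : d p = 1 ∨ d p = -1 := by
    have hp : d p ≠ 0 := by
      have : p ∈ S := by rw [hSpq]; simp
      simpa [hS] using this
    have := hd1 p
    have : -1 ≤ d p ∧ d p ≤ 1 := by constructor <;> nlinarith
    omega
  have hdq : d q = 1 ∨ d q = -1 := by
    have hp : d q ≠ 0 := by
      have : q ∈ S := by rw [hSpq]; simp
      simpa [hS] using this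
    have := hd1 q
    have : -1 ≤ d q ∧ d q ≤ 1 := by constructor <;> nlinarith
    omega
  have hfd : f p * d p + f q * d q = 0 := by
    have e : ∑ i, f i * d i = 0 := by
      have : 3 * ∑ i, f i * d i = 0 := by
        rw [Finset.mul_sum]
        calc ∑ i, 3 * (f i * d i) = ∑ i, (f i * x i - f i * y i) :=
              Finset.sum_congr rfl fun i _ => by rw [← mul_sub, hd]; ring
          _ = 0 := by rw [Finset.sum_sub_distrib, hfx, hfy, sub_self]
      omega
    rw [← Finset.sum_subset (Finset.subset_univ S) (fun i _ hi => by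
      have : d i = 0 := by simpa [hS] using hi
      simp [this]), hSpq, Finset.sum_pair hpq] at e
    exact e
  have hpos := hf p
  have hposq := hf q
  wlog hp1 : d p = 1 generalizing p q with H
  · refine H q p hpq.symm (by rw [hSpq, Finset.pair_comm]) hdq hdp (by omega) (hf q) (hf p) ?_
    rcases hdp with h | h
    · exact absurd h hp1
    · rcases hdq with h' | h'
      · exact h'
      · rw [h, h'] at hfd; omega
  have hq1 : d q = -1 := by
    rcases hdq with h | h
    · rw [hp1, h] at hfd; omega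
    · exact h
  rw [hp1, hq1] at hfd
  have hfpq : f q = f p := by omega
  have hxp : x p = y p + 3 := by have := hd p; rw [hp1] at this; omega
  have hxq : x q = y q - 3 := by have := hd q; rw [hq1] at this; omega
  have hone : one ∉ S := by simp [hS]; have := hd one; omega
  have split : ∀ g : ι → ℤ, ∑ i, g i = g p + g q + ∑ i ∈ Sᶜ, g i := fun g => by
    rw [← Finset.sum_add_sum_compl S, hSpq, Finset.sum_pair hpq]
  have eq1 : ∑ i ∈ Sᶜ, x i * x i = ∑ i ∈ Sᶜ, y i * y i :=
    Finset.sum_congr rfl fun i hi => by rw [hout i (Finset.mem_compl.mp hi)]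
  have hyq : y q = y p + 3 := by
    have := split fun i => x i * x i
    have := split fun i => y i * y i
    rw [hxp, hxq] at *
    nlinarith
  have hR : ∀ g : ι → ℤ, ∑ i ∈ Sᶜ, g i = g one + ∑ i ∈ Sᶜ.erase one, g i := fun g =>
    (Finset.add_sum_erase _ _ (Finset.mem_compl.mpr hone)).symm
  have hrest0 : 0 ≤ ∑ i ∈ Sᶜ.erase one, x i * x i :=
    Finset.sum_nonneg fun i _ => mul_self_nonneg (x i)
  have hxxR : (y p + 3) * (y p + 3) + y p * y p + ∑ i ∈ Sᶜ.erase one, x i * x i = 8 := by
    have := split fun i => x i * x i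
    rw [hR, h1.2.1, hxp, hxq, hyq, hxx] at this
    linarith
  have hy12 : y p = -1 ∨ y p = -2 := by
    have : -2 ≤ y p := by nlinarith
    have : y p ≤ -1 := by nlinarith
    omega
  have hrest3 : ∑ i ∈ Sᶜ.erase one, x i * x i = 3 := by rcases hy12 with h | h <;> nlinarith
  have hbound : ∀ i ∈ Sᶜ.erase one,
      -((x i * x i : ℤ) : ℚ) / 8 ≤ ((x i * x i * y i : ℤ) : ℚ) / f i := by
    intro i hi
    have hxy' := hout i (Finset.mem_compl.mp (Finset.mem_of_mem_erase hi))
    have hle : x i * x i ≤ 3 := hrest3 ▸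
      Finset.single_le_sum (f := fun j => x j * x j) (fun j _ => mul_self_nonneg (x j)) hi
    have h11 : x i = -1 ∨ x i = 0 ∨ x i = 1 := by
      have : -1 ≤ x i ∧ x i ≤ 1 := by constructor <;> nlinarith
      omega
    have hfq : (0 : ℚ) < f i := by exact_mod_cast hf i
    rw [← hxy']
    rcases h11 with h | h | h
    · have h8 : (8 : ℚ) ≤ f i := by
        have := h9 i
        have := hf i
        rw [← hxy', h] at *
        exact_mod_cast (show 8 ≤ f i by omega)
      rw [h]; push_cast
      rw [div_le_div_iff₀ (by norm_num) hfq]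
      linarith
    · simp [h]
    · rw [h]; push_cast
      norm_num
      linarith [inv_pos.mpr hfq]
  have hrest : -(3 : ℚ) / 8 ≤ ∑ i ∈ Sᶜ.erase one, ((x i * x i * y i : ℤ) : ℚ) / f i := by
    refine le_trans ?_ (Finset.sum_le_sum hbound)
    rw [← Finset.sum_div, Finset.sum_neg_distrib, ← Int.cast_sum, hrest3]
    norm_num
  have hpair : -(2 : ℚ) / 5 ≤
      ((x p * x p * y p : ℤ) : ℚ) / f p + ((x q * x q * y q : ℤ) : ℚ) / f q := by
    rw [hfpq, hxp, hxq, hyq, ← add_div]
    have hfq : (0 : ℚ) < f p := by exact_mod_cast hpos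
    rcases hy12 with h | h <;> rw [h] <;> norm_num
    · have h5 : (5 : ℚ) ≤ f p := by
        have := h9 p
        rw [hxp, h] at this
        exact_mod_cast (show 5 ≤ f p by omega)
      rw [← neg_div, div_le_div_iff₀ (by norm_num) hfq]
      linarith
    · have : (0 : ℚ) < 2 / f p := by positivity
      linarith
  have hsumS : ∑ i ∈ S, ((x i * x i * y i : ℤ) : ℚ) / f i =
      ((x p * x p * y p : ℤ) : ℚ) / f p + ((x q * x q * y q : ℤ) : ℚ) / f q := by
    rw [hSpq, Finset.sum_pair hpq]
  rw [← Finset.sum_add_sum_compl S, hsumS,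
    ← Finset.add_sum_erase _ _ (Finset.mem_compl.mpr hone), h1.1, h1.2.1, h1.2.2]
  have hone' : (((1 * 1 * 1 : ℤ)) : ℚ) / ((1 : ℤ) : ℚ) = 1 := by norm_num
  rw [hone']
  linarith

theorem cube_roots_nineteen : ∀ p q : ZMod 19, p ^ 3 = 1 → q ^ 3 = 1 →
    p = 1 ∨ q = 1 ∨ p * q = 1 ∨ p * q * q = 1 := by decide

namespace Base

variable (B : Base G)

include B

theorem card_sylow_mod_nine : Nat.card (Sylow 3 G) % 9 = 1 := by
  classical
  haveI : Fact (Nat.Prime 3) := ⟨Nat.prime_three⟩
  let X := {Q : Sylow 3 G // Q ≠ B.P}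
  have hfix : ∀ p : (B.P : Subgroup G), (p : G) • B.P = B.P := fun p =>
    Sylow.smul_eq_iff_mem_normalizer.mpr (le_normalizer p.2)
  let _ : MulAction (B.P : Subgroup G) X :=
    { smul := fun p Q => ⟨(p : G) • Q.1, fun h => Q.2 (smul_left_cancel (p : G) (h.trans (hfix p).symm))⟩
      one_smul := fun Q => Subtype.ext (one_smul G Q.1)
      mul_smul := fun p q Q => Subtype.ext (mul_smul (p : G) (q : G) Q.1) }
  have hstab : ∀ Q : X, MulAction.stabilizer (B.P : Subgroup G) Q = ⊥ := by
    intro Q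
    refine eq_bot_iff.mpr fun p hp => ?_
    have hp' : (p : G) • Q.1 = Q.1 := congrArg Subtype.val (MulAction.mem_stabilizer_iff.mp hp)
    by_contra h1
    have h1' : (p : G) ≠ 1 := fun h => h1 (Subtype.ext h)
    exact Q.2 (B.ti Q.1 p.2
      (B.mem_sylow_of_pow_three Q.1 (B.pow_three p.2) (Sylow.smul_eq_iff_mem_normalizer.mp hp')) h1')
  have h := Nat.card_congr (MulAction.selfEquivOrbitsQuotientProd hstab)
  rw [Nat.card_prod, B.card] at h
  have hadd : Nat.card (Sylow 3 G) = Nat.card X + 1 := by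
    have := Fintype.ofFinite (Sylow 3 G)
    have hc : Fintype.card {Q : Sylow 3 G // ¬ Q = B.P} = Fintype.card (Sylow 3 G) - 1 := by
      rw [Fintype.card_subtype_compl, Fintype.card_subtype_eq]
    rw [Nat.card_eq_fintype_card, Nat.card_eq_fintype_card]
    show Fintype.card (Sylow 3 G) = Fintype.card {Q : Sylow 3 G // ¬ Q = B.P} + 1
    have : 0 < Fintype.card (Sylow 3 G) := Fintype.card_pos
    omega
  omega

/-- No group of order `684` has such a Sylow subgroup. -/
theorem no_order_684 (hC : ∀ s ∈ (B.P : Subgroup G), s ≠ 1 →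
      centralizer ({s} : Set G) ≤ (B.P : Subgroup G))
    (hG : Nat.card G = 684) : False := by
  haveI : Fact (Nat.Prime 19) := ⟨by decide⟩
  obtain ⟨R⟩ : Nonempty (Sylow 19 G) := inferInstance
  have hR : Nat.card (R : Subgroup G) = 19 := by
    rw [R.card_eq_multiplicity, hG, show (684 : ℕ) = 19 * 36 from rfl,
      Nat.factorization_mul (by norm_num) (by norm_num), Finsupp.add_apply,
      Nat.Prime.factorization_self (Fact.out : Nat.Prime 19),
      Nat.factorization_eq_zero_of_not_dvd (by norm_num : ¬ 19 ∣ 36)]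
    norm_num
  have hn1 : Nat.card (Sylow 19 G) = 1 := by
    have h1 := card_sylow_modEq_one 19 G
    have h2 := R.card_dvd_index
    have h3 : (R : Subgroup G).index = 36 := by
      have := (R : Subgroup G).index_mul_card
      rw [hR, hG] at this
      omega
    rw [h3] at h2
    have : Nat.card (Sylow 19 G) ≤ 36 := Nat.le_of_dvd (by norm_num) h2
    unfold Nat.ModEq at h1
    interval_cases h : Nat.card (Sylow 19 G) <;> omega
  have : Subsingleton (Sylow 19 G) := (Nat.card_eq_one_iff_unique.mp hn1).1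
  have hnormal : (R : Subgroup G).Normal := Sylow.normal_of_subsingleton R
  have : Nontrivial (R : Subgroup G) := Finite.one_lt_card_iff_nontrivial.mp (by omega)
  obtain ⟨⟨r, hr⟩, hr1⟩ := exists_ne (1 : (R : Subgroup G))
  have hr1' : r ≠ 1 := fun h => hr1 (Subtype.ext h)
  have hord : orderOf r = 19 := by
    have : orderOf r ∣ 19 := hR ▸ Subgroup.orderOf_dvd_natCard _ hr
    rcases (Nat.dvd_prime (Fact.out : Nat.Prime 19)).mp this with h | h
    · exact absurd (orderOf_eq_one_iff.mp h) hr1'
    · exact h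
  have hgen : zpowers r = (R : Subgroup G) :=
    Subgroup.eq_of_le_of_card_ge (zpowers_le.mpr hr) (by rw [Nat.card_zpowers, hord, hR])
  have hact : ∀ g : G, ∃ k : ℕ, g * r * g⁻¹ = r ^ k := fun g => by
    have h := hnormal.conj_mem r hr g
    rw [← hgen] at h
    obtain ⟨k, hk⟩ := mem_powers_iff_mem_zpowers.mpr h
    exact ⟨k, hk.symm⟩
  obtain ⟨i, hi⟩ := hact B.a
  obtain ⟨j, hj⟩ := hact B.b
  have hmul : ∀ {g h : G} {k l : ℕ}, g * r * g⁻¹ = r ^ k → h * r * h⁻¹ = r ^ l →
      g * h * r * (g * h)⁻¹ = r ^ (k * l) := fun {g h k l} hg hh => by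
    rw [pow_mul, ← hg, conj_pow, ← hh]; group
  have hone : ∀ k : ℕ, r ^ k = r ↔ (k : ZMod 19) = 1 := fun k => by
    conv_lhs => rw [← pow_one r, ← pow_mul, one_mul, pow_eq_pow_iff_modEq, hord]
    rw [← ZMod.natCast_eq_natCast_iff, Nat.cast_one]
  have hcube : ∀ {g : G} {k : ℕ}, g ^ 3 = 1 → g * r * g⁻¹ = r ^ k → (k : ZMod 19) ^ 3 = 1 :=
    fun {g k} hg hk => by
      have h := hmul (hmul hk hk) hk
      rw [← pow_three' g, hg] at h
      have h' := (hone (k * k * k)).mp (by rw [← h]; group)
      rw [pow_three', ← h']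
      push_cast
      rfl
  have key : ∀ s ∈ (B.P : Subgroup G), ∀ k : ℕ, s * r * s⁻¹ = r ^ k → (k : ZMod 19) = 1 →
      s = 1 := by
    intro s hs k hk hk1
    by_contra hs1
    rw [(hone k).mpr hk1, mul_inv_eq_iff_eq_mul] at hk
    have hrP := hC s hs hs1 (mem_centralizer_singleton_iff.mpr hk.symm)
    have := B.pow_three hrP
    have := orderOf_dvd_of_pow_eq_one this
    rw [hord] at this
    norm_num at this
  rcases cube_roots_nineteen _ _ (hcube B.ha3 hi) (hcube B.hb3 hj) with h | h | h | h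
  · exact B.a_ne_one (key _ B.ha i hi h)
  · exact absurd (key _ B.hb j hj h) (by
      rw [← B.φ_b, ← B.φ_zero]; exact fun h => absurd (B.φ_injective h) (by decide))
  · exact B.ab_ne_one (key _ (mul_mem B.ha B.hb) (i * j) (hmul hi hj) (by push_cast; exact h))
  · have h' := key _ (mul_mem (mul_mem B.ha B.hb) B.hb) (i * j * j) (hmul (hmul hi hj) hj)
      (by push_cast; exact h)
    rw [← B.φ_a, ← B.φ_b, ← B.φ_add, ← B.φ_add, ← B.φ_zero] at h'
    exact absurd (B.φ_injective h') (by decide)

/-- With a cyclic complement of order four, the Sylow subgroup is normal or the order is `360`. -/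
theorem cyc4 (hC : ∀ s ∈ (B.P : Subgroup G), s ≠ 1 →
      centralizer ({s} : Set G) ≤ (B.P : Subgroup G))
    (hN : Nat.card (normalizer ((B.P : Subgroup G) : Set G)) = 36) :
    (B.P : Subgroup G).Normal ∨ (Nat.card G = 360 ∧ Nat.card (Sylow 3 G) = 10) := by
  classical
  haveI : Fact (Nat.Prime 3) := ⟨Nat.prime_three⟩
  let _ := Fintype.ofFinite (Cfsg.IrrCharacter G)
  have hcard : ∀ s, s ∈ (B.P : Subgroup G) → s ≠ 1 →
      Nat.card (centralizer ({s} : Set G)) = 9 := fun s hs hs1 => by
    rw [← B.card]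
    refine congrArg (fun H : Subgroup G => Nat.card H) (le_antisymm (hC s hs hs1) fun t ht => ?_)
    exact mem_centralizer_singleton_iff.mpr (B.comm ht hs)
  have hab := mul_mem B.ha B.hb
  have ha := isInt_of_real (orderOf_dvd_of_pow_eq_one (show B.a ^ 6 = 1 by
    rw [show (6 : ℕ) = 3 * 2 from rfl, pow_mul, B.ha3, one_pow])) B.conj_a_inv
  have hb := isInt_of_real (orderOf_dvd_of_pow_eq_one (show (B.a * B.b) ^ 6 = 1 by
    rw [show (6 : ℕ) = 3 * 2 from rfl, pow_mul, B.pow_three hab, one_pow])) B.conj_ab_inv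
  have hne1 : ∀ {s : G}, s ≠ 1 → ¬ IsConj 1 s := fun hs h => hs (isConj_one_right.mp h)
  have hxx : ∑ χ : Cfsg.IrrCharacter G, val χ B.a * val χ B.a = 9 := by
    rw [sum_val_mul_self ha, hcard _ B.ha B.a_ne_one]; rfl
  have hyy : ∑ χ : Cfsg.IrrCharacter G, val χ (B.a * B.b) * val χ (B.a * B.b) = 9 := by
    rw [sum_val_mul_self hb, hcard _ hab B.ab_ne_one]; rfl
  have hS := cyc4_sum_pos (BC87.triv G) (fun χ : Cfsg.IrrCharacter G => val χ 1)
    (fun χ => val χ B.a) (fun χ => val χ (B.a * B.b)) val_one_pos (by simp [val_triv])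
    B.nine_dvd (fun χ => B.three_dvd_sub χ) hxx hyy (sum_val_mul_eq_zero ha hb B.not_isConj)
    (sum_val_mul_eq_zero isInt_one ha (hne1 B.a_ne_one))
    (sum_val_mul_eq_zero isInt_one hb (hne1 B.ab_ne_one))
  have he := card_pairs_eq ha ha hb
  rw [B.card_pairs_aab] at he
  have hk : Nat.card {x : G // IsConj B.a x} * 9 = Nat.card G := by
    rw [← hcard _ B.ha B.a_ne_one]; exact InvChar68.card_isConj_mul_card_centralizer B.a
  have hle : Nat.card G ≤ 720 := by
    have hk0 : (0 : ℚ) < Nat.card {x : G // IsConj B.a x} := by exact_mod_cast card_class_pos B.a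
    rw [← hk] at he ⊢
    push_cast at he
    have h18 : (18 : ℚ) = Nat.card {x : G // IsConj B.a x} *
        ∑ χ : Cfsg.IrrCharacter G,
          ((val χ B.a * val χ B.a * val χ (B.a * B.b) : ℤ) : ℚ) / val χ 1 := by
      apply mul_left_cancel₀ hk0.ne'
      push_cast
      linarith [he]
    have : (Nat.card {x : G // IsConj B.a x} : ℚ) ≤ 80 := by
      rw [← sub_nonneg]
      by_contra h
      push_cast at hS h18
      nlinarith [hS, h18]
    have : Nat.card {x : G // IsConj B.a x} ≤ 80 := by exact_mod_cast this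
    omega
  have hn := (normalizer ((B.P : Subgroup G) : Set G)).index_mul_card
  rw [← show Nat.card (Sylow 3 G) = (normalizer ((B.P : Subgroup G) : Set G)).index from
    Sylow.card_eq_index_normalizer B.P, hN] at hn
  have hmod := B.card_sylow_mod_nine
  have hcases : Nat.card (Sylow 3 G) = 1 ∨ Nat.card (Sylow 3 G) = 10 ∨
      Nat.card (Sylow 3 G) = 19 := by omega
  rcases hcases with h | h | h
  · left
    have : Subsingleton (Sylow 3 G) := (Nat.card_eq_one_iff_unique.mp h).1
    exact Sylow.normal_of_subsingleton B.P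
  · exact Or.inr ⟨by omega, h⟩
  · exfalso
    exact B.no_order_684 hC (by omega)

end Base

end Cfsg.Agent.BC87.Sym6
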