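import Cfsg.Agent.BC87.Sym6.Base
import Mathlib.Algebra.Group.Subgroup.Pointwise

/-!
# Dihedral action on the Sylow `3`-subgroup
-/

set_option autoImplicit false
set_option linter.unusedSectionVars false

namespace Cfsg.Agent.BC87.Sym6

universe u

open Subgroup

variable {G : Type u} [Group G] [Finite G]

/-- An element moving a nontrivial element of `P` into `P` normalizes `P`. -/
theorem Base.mem_normalizer_of_conj (B : Base G) {g s : G} (hs : s ∈ (B.P : Subgroup G))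
    (hs1 : s ≠ 1) (h : g * s * g⁻¹ ∈ (B.P : Subgroup G)) :
    g ∈ normalizer ((B.P : Subgroup G) : Set G) := by
  refine Sylow.smul_eq_iff_mem_normalizer.mp (B.ti (g • B.P) h ?_ (fun h' => hs1 (by simpa using h')))
  rw [Sylow.coe_subgroup_smul]
  exact Subgroup.smul_mem_pointwise_smul _ (MulAut.conj g) _ hs

theorem Base.pow_φ (B : Base G) (k : ℕ) (u : ZMod 3 × ZMod 3) : B.φ u ^ k = B.φ (k • u) := by
  induction k with
  | zero => simp [B.φ_zero]
  | succ k ih => rw [pow_succ, ih, succ_nsmul, B.φ_add]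

theorem Base.conj_φ (B : Base G) {g : G} {α β : ZMod 3 × ZMod 3}
    (ha : g * B.a * g⁻¹ = B.φ α) (hb : g * B.b * g⁻¹ = B.φ β) (u : ZMod 3 × ZMod 3) :
    g * B.φ u * g⁻¹ = B.φ (u.1.val • α + u.2.val • β) := by
  rw [B.φ_add, ← B.pow_φ, ← B.pow_φ, ← ha, ← hb, conj_pow, conj_pow, Base.φ]
  group

theorem Base.conj_mem_axes (B : Base G) {g : G}
    (hg : g ∈ normalizer ((B.P : Subgroup G) : Set G)) {u : ZMod 3 × ZMod 3}
    (hu : (u.1 = 0) ≠ (u.2 = 0)) :
    ∃ u' : ZMod 3 × ZMod 3, ((u'.1 = 0) ≠ (u'.2 = 0)) ∧ g * B.φ u * g⁻¹ = B.φ u' := by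
  have h := B.mono g hg _ ((B.mem_axes_iff u).mpr hu)
  obtain ⟨u', hu'⟩ := B.exists_φ
    ((mem_normalizer_iff.mp hg (B.φ u)).mp (B.φ_mem u))
  exact ⟨u', (B.mem_axes_iff u').mp (by rw [hu']; exact h), hu'.symm⟩

theorem Base.mem_of_fix (B : Base G) {g : G} (ha : g * B.a * g⁻¹ = B.a)
    (hb : g * B.b * g⁻¹ = B.b) : g ∈ (B.P : Subgroup G) := by
  refine B.self_cent (mem_centralizer_iff.mpr fun s hs => ?_)
  obtain ⟨u, rfl⟩ := B.exists_φ hs
  have h : g * B.φ u * g⁻¹ = B.φ u := by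
    rw [B.conj_φ (α := (1, 0)) (β := (0, 1)) (by rw [B.φ_a]; exact ha) (by rw [B.φ_b]; exact hb) u]
    congr 1
    clear hs
    revert u; decide
  rw [← mul_inv_eq_iff_eq_mul.mp h]

/-- A dihedral group of order eight acting monomially on `P`. -/
structure Dih (G : Type u) [Group G] extends Base G where
  v : G
  w : G
  hv : v * v = 1
  hw : w * w = 1
  hva : v * a * v = a
  hvb : v * b * v = b⁻¹
  hwa : w * a * w = b
  hcomm : Commute v (w * v * w)

namespace Dih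

variable (D : Dih G)

include D

theorem v_inv : D.v⁻¹ = D.v := inv_eq_of_mul_eq_one_right D.hv

theorem w_inv : D.w⁻¹ = D.w := inv_eq_of_mul_eq_one_right D.hw

/-- The involution inverting `P`. -/
def c : G := D.v * (D.w * D.v * D.w)

theorem v'_sq : (D.w * D.v * D.w) * (D.w * D.v * D.w) = 1 := by
  calc (D.w * D.v * D.w) * (D.w * D.v * D.w) = D.w * D.v * (D.w * D.w) * D.v * D.w := by group
    _ = 1 := by rw [D.hw, mul_one, mul_assoc D.w, D.hv, mul_one, D.hw]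

theorem c_sq : D.c * D.c = 1 := by
  unfold c
  rw [mul_assoc, ← mul_assoc (D.w * D.v * D.w) D.v, ← D.hcomm.eq, mul_assoc D.v, D.v'_sq,
    mul_one, D.hv]

theorem w_mul_c : D.w * D.c = D.c * D.w := by
  unfold c
  calc D.w * (D.v * (D.w * D.v * D.w)) = D.w * D.v * D.w * D.v * D.w := by group
    _ = D.v * (D.w * D.v * D.w) * D.w := by rw [D.hcomm.eq]

theorem v_mul_c : D.v * D.c = D.c * D.v := by
  unfold c
  conv_rhs => rw [mul_assoc, ← D.hcomm.eq]

theorem conj_v (u : ZMod 3 × ZMod 3) : D.v * D.φ u * D.v = D.φ (u.1, -u.2) := by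
  have h := D.conj_φ (g := D.v) (α := (1, 0)) (β := (0, 2))
    (by rw [D.v_inv, D.φ_a]; exact D.hva) (by rw [D.v_inv, D.φ_b_inv]; exact D.hvb) u
  rw [D.v_inv] at h
  rw [h]
  congr 1
  clear h
  revert u; decide

theorem hwb : D.w * D.b * D.w = D.a := by
  rw [← D.hwa]
  calc D.w * (D.w * D.a * D.w) * D.w = D.w * D.w * D.a * (D.w * D.w) := by group
    _ = D.a := by rw [D.hw]; group

theorem conj_w (u : ZMod 3 × ZMod 3) : D.w * D.φ u * D.w = D.φ (u.2, u.1) := by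
  have h := D.conj_φ (g := D.w) (α := (0, 1)) (β := (1, 0))
    (by rw [D.w_inv, D.φ_b]; exact D.hwa) (by rw [D.w_inv, D.φ_a]; exact D.hwb) u
  rw [D.w_inv] at h
  rw [h]
  congr 1
  clear h
  revert u; decide

theorem conj_v' (u : ZMod 3 × ZMod 3) :
    D.w * D.v * D.w * D.φ u * (D.w * D.v * D.w) = D.φ (-u.1, u.2) := by
  calc D.w * D.v * D.w * D.φ u * (D.w * D.v * D.w)
      = D.w * (D.v * (D.w * D.φ u * D.w) * D.v) * D.w := by group
    _ = D.φ (-u.1, u.2) := by rw [D.conj_w, D.conj_v, D.conj_w]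

theorem conj_c (u : ZMod 3 × ZMod 3) : D.c * D.φ u * D.c = D.φ (-u) := by
  calc D.c * D.φ u * D.c
      = D.v * (D.w * D.v * D.w) * D.φ u * (D.v * (D.w * D.v * D.w)) := rfl
    _ = D.v * ((D.w * D.v * D.w) * D.φ u * (D.w * D.v * D.w)) * D.v := by
        nth_rewrite 2 [D.hcomm.eq]; group
    _ = D.φ (-u) := by rw [D.conj_v', D.conj_v]; rfl

theorem v_mem : D.v ∈ normalizer ((D.P : Subgroup G) : Set G) :=
  D.mem_normalizer_of_conj D.ha D.a_ne_one (by rw [D.v_inv, D.hva]; exact D.ha)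

theorem w_mem : D.w ∈ normalizer ((D.P : Subgroup G) : Set G) :=
  D.mem_normalizer_of_conj D.ha D.a_ne_one (by rw [D.w_inv, D.hwa]; exact D.hb)

theorem c_mem : D.c ∈ normalizer ((D.P : Subgroup G) : Set G) :=
  mul_mem D.v_mem (mul_mem (mul_mem D.w_mem D.v_mem) D.w_mem)

theorem v_notMem : D.v ∉ (D.P : Subgroup G) := by
  intro h
  have h' := D.hvb
  rw [D.comm h D.hb, mul_assoc, D.hv, mul_one, ← D.φ_b_inv, ← D.φ_b] at h'
  exact absurd (D.φ_injective h') (by decide)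

theorem w_notMem : D.w ∉ (D.P : Subgroup G) := by
  intro h
  have h' := D.hwa
  rw [D.comm h D.ha, mul_assoc, D.hw, mul_one, ← D.φ_a, ← D.φ_b] at h'
  exact absurd (D.φ_injective h') (by decide)

theorem eq_mul_of_mem {g h : G} (hh : h * h = 1) (hg : g * h ∈ (D.P : Subgroup G)) :
    ∃ p ∈ (D.P : Subgroup G), g = p * h :=
  ⟨g * h, hg, by rw [mul_assoc, hh, mul_one]⟩

/-- The centralizer of `a`. -/
theorem cases_of_fix_a {g : G} (hg : g * D.a * g⁻¹ = D.a) :
    g ∈ (D.P : Subgroup G) ∨ ∃ p ∈ (D.P : Subgroup G), g = p * D.v := by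
  have hN : g ∈ normalizer ((D.P : Subgroup G) : Set G) :=
    D.mem_normalizer_of_conj D.ha D.a_ne_one (by rw [hg]; exact D.ha)
  obtain ⟨u, hu, he⟩ := D.conj_mem_axes hN (u := (0, 1)) (by decide)
  have hu' : u = (0, 1) ∨ u = (0, 2) := by
    have hne : ∀ u' : ZMod 3 × ZMod 3, (u' = (1, 0) ∨ u' = (2, 0)) → u ≠ u' := by
      rintro u' hu' rfl
      have h1 : g * D.φ (u.1, 0) * g⁻¹ = D.φ (u.1, 0) := by
        rw [show g * D.φ (u.1, 0) * g⁻¹ = g * (D.a ^ u.1.val * D.b ^ (0 : ZMod 3).val) * g⁻¹ from rfl,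
          ZMod.val_zero, pow_zero, mul_one, ← conj_pow, hg]
        simp [Base.φ]
      have h2 : g * D.φ (0, 1) * g⁻¹ = g * D.φ (u.1, 0) * g⁻¹ := by
        rw [he, h1]
        rcases hu' with h | h <;> rw [h]
      have h3 := congrArg Prod.snd (D.φ_injective (mul_left_cancel (mul_right_cancel h2)))
      exact absurd h3 (by decide : (1 : ZMod 3) ≠ 0)
    revert hu hne
    clear he
    revert u
    decide
  rw [D.φ_b] at he
  rcases hu' with rfl | rfl
  · exact Or.inl (D.mem_of_fix hg (by rw [he, D.φ_b]))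
  · refine Or.inr (D.eq_mul_of_mem D.hv (D.mem_of_fix ?_ ?_))
    · calc g * D.v * D.a * (g * D.v)⁻¹ = g * (D.v * D.a * D.v⁻¹) * g⁻¹ := by group
        _ = D.a := by rw [D.v_inv, D.hva, hg]
    · calc g * D.v * D.b * (g * D.v)⁻¹ = g * (D.v * D.b * D.v⁻¹) * g⁻¹ := by group
        _ = (g * D.b * g⁻¹)⁻¹ := by rw [D.v_inv, D.hvb]; group
        _ = D.b := by rw [he, D.φ_b_inv, inv_inv]

/-- The centralizer of `a * b`. -/
theorem cases_of_fix_ab {g : G} (hg : g * (D.a * D.b) * g⁻¹ = D.a * D.b) :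
    g ∈ (D.P : Subgroup G) ∨ ∃ p ∈ (D.P : Subgroup G), g = p * D.w := by
  have hN : g ∈ normalizer ((D.P : Subgroup G) : Set G) :=
    D.mem_normalizer_of_conj (mul_mem D.ha D.hb) D.ab_ne_one
      (by rw [hg]; exact mul_mem D.ha D.hb)
  obtain ⟨α, hα, hea⟩ := D.conj_mem_axes hN (u := (1, 0)) (by decide)
  obtain ⟨β, hβ, heb⟩ := D.conj_mem_axes hN (u := (0, 1)) (by decide)
  have hsum : α + β = (1, 1) := D.φ_injective (by
    rw [D.φ_add, ← hea, ← heb, D.φ_ab, D.φ_a, D.φ_b]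
    calc g * D.a * g⁻¹ * (g * D.b * g⁻¹) = g * (D.a * D.b) * g⁻¹ := by group
      _ = D.a * D.b := hg)
  have hcases : (α = (1, 0) ∧ β = (0, 1)) ∨ (α = (0, 1) ∧ β = (1, 0)) := by
    revert hα hβ hsum
    clear hea heb
    revert α β
    decide
  rw [D.φ_a] at hea
  rw [D.φ_b] at heb
  rcases hcases with ⟨rfl, rfl⟩ | ⟨rfl, rfl⟩
  · exact Or.inl (D.mem_of_fix (by rw [hea, D.φ_a]) (by rw [heb, D.φ_b]))
  · refine Or.inr (D.eq_mul_of_mem D.hw (D.mem_of_fix ?_ ?_))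
    · calc g * D.w * D.a * (g * D.w)⁻¹ = g * (D.w * D.a * D.w⁻¹) * g⁻¹ := by group
        _ = D.a := by rw [D.w_inv, D.hwa, heb, D.φ_a]
    · calc g * D.w * D.b * (g * D.w)⁻¹ = g * (D.w * D.b * D.w⁻¹) * g⁻¹ := by group
        _ = D.b := by rw [D.w_inv, D.hwb, hea, D.φ_b]

theorem card_centralizer_aux {s h : G} (hs : s ∈ (D.P : Subgroup G)) (hh : h ∉ (D.P : Subgroup G))
    (hhs : h * s = s * h) (hall : ∀ g, g * s * g⁻¹ = s →
      g ∈ (D.P : Subgroup G) ∨ ∃ p ∈ (D.P : Subgroup G), g = p * h) :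
    Nat.card (centralizer ({s} : Set G)) = 18 := by
  have hmem : ∀ (p : (D.P : Subgroup G)) (e : Bool),
      (p : G) * (if e then h else 1) ∈ centralizer ({s} : Set G) := by
    intro p e
    refine mul_mem (mem_centralizer_singleton_iff.mpr (D.comm p.2 hs)) ?_
    cases e
    · exact one_mem _
    · exact mem_centralizer_singleton_iff.mpr hhs
  have : Nat.card (↥(D.P : Subgroup G) × Bool) = Nat.card (centralizer ({s} : Set G)) := by
    refine Nat.card_eq_of_bijective (fun q => ⟨_, hmem q.1 q.2⟩) ⟨?_, ?_⟩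
    · rintro ⟨p, e⟩ ⟨p', e'⟩ he
      have he' := congrArg Subtype.val he
      simp only at he'
      cases e <;> cases e' <;> simp only [Bool.false_eq_true, ↓reduceIte, mul_one] at he'
      · exact Prod.ext (Subtype.ext he') rfl
      · exact (hh (by rw [eq_inv_mul_of_mul_eq he'.symm]; exact mul_mem (inv_mem p'.2) p.2)).elim
      · exact (hh (by rw [eq_inv_mul_of_mul_eq he']; exact mul_mem (inv_mem p.2) p'.2)).elim
      · exact Prod.ext (Subtype.ext (mul_right_cancel he')) rfl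
    · rintro ⟨g, hg⟩
      have hg' : g * s * g⁻¹ = s := by rw [mem_centralizer_singleton_iff.mp hg]; group
      rcases hall g hg' with hP | ⟨p, hp, rfl⟩
      · exact ⟨(⟨g, hP⟩, false), Subtype.ext (mul_one g)⟩
      · exact ⟨(⟨p, hp⟩, true), Subtype.ext rfl⟩
  rw [← this, Nat.card_prod, D.card, Nat.card_eq_fintype_card, Fintype.card_bool]

theorem card_centralizer_a : Nat.card (centralizer ({D.a} : Set G)) = 18 := by
  refine D.card_centralizer_aux D.ha D.v_notMem ?_ fun g => D.cases_of_fix_a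
  conv_rhs => rw [← D.hva]
  rw [mul_assoc _ D.v D.v, D.hv, mul_one]

theorem v_ab_comm : D.w * (D.a * D.b) = D.a * D.b * D.w := by
  have h := D.conj_w (1, 1)
  rw [D.φ_ab] at h
  conv_rhs => rw [← h]
  rw [mul_assoc _ D.w D.w, D.hw, mul_one]

theorem card_centralizer_ab : Nat.card (centralizer ({D.a * D.b} : Set G)) = 18 :=
  D.card_centralizer_aux (mul_mem D.ha D.hb) D.w_notMem D.v_ab_comm fun _ => D.cases_of_fix_ab

theorem pow_four_aux {s h : G} (hh : h * h = 1) (hs : s ^ 3 = 1) (hc : Commute s h) :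
    (s * h) ^ 4 = s ∧ (s * h) ^ 3 = h ∧ (s * h) ^ 2 = s⁻¹ ∧ (s * h) ^ 6 = 1 := by
  have h2 : h ^ 2 = 1 := by rw [sq, hh]
  have e2 : (s * h) ^ 2 = s⁻¹ := by
    rw [hc.mul_pow, h2, mul_one, eq_inv_iff_mul_eq_one, ← pow_succ, hs]
  refine ⟨?_, ?_, e2, ?_⟩
  · rw [hc.mul_pow, pow_succ s 3, hs, one_mul, show h ^ 4 = (h ^ 2) ^ 2 from pow_mul h 2 2, h2,
      one_pow, mul_one]
  · rw [hc.mul_pow, hs, one_mul, pow_succ h 2, h2, one_mul]
  · rw [hc.mul_pow, show s ^ 6 = (s ^ 3) ^ 2 from pow_mul s 3 2, hs,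
      show h ^ 6 = (h ^ 2) ^ 3 from pow_mul h 2 3, h2]; simp

theorem comm_a_v : Commute D.a D.v := by
  show D.a * D.v = D.v * D.a
  conv_lhs => rw [← D.hva]
  rw [mul_assoc _ D.v D.v, D.hv, mul_one]

theorem comm_ab_w : Commute (D.a * D.b) D.w := D.v_ab_comm.symm

/-- The fixed points of `v` in `P`. -/
theorem mem_zpowers_of_fix_v {p : G} (hp : p ∈ (D.P : Subgroup G)) (h : D.v * p * D.v = p) :
    p ∈ zpowers D.a := by
  obtain ⟨⟨i, j⟩, rfl⟩ := D.exists_φ hp
  rw [D.conj_v] at h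
  have hj : j = 0 := by
    have h2 := congrArg Prod.snd (D.φ_injective h)
    simp only at h2
    clear h hp
    revert h2 j
    decide
  subst hj
  simp [Base.φ]

/-- The fixed points of `w` in `P`. -/
theorem mem_zpowers_of_fix_w {p : G} (hp : p ∈ (D.P : Subgroup G)) (h : D.w * p * D.w = p) :
    p ∈ zpowers (D.a * D.b) := by
  obtain ⟨⟨i, j⟩, rfl⟩ := D.exists_φ hp
  rw [D.conj_w] at h
  have hj := congrArg Prod.fst (D.φ_injective h)
  simp only at hj
  subst hj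
  rw [show ((j, j) : ZMod 3 × ZMod 3) = j.val • ((1, 1) : ZMod 3 × ZMod 3) by
    clear h hp; revert j; decide, ← D.pow_φ, D.φ_ab]
  exact pow_mem (mem_zpowers _) _

theorem centralizer_aux {s h : G} (hs3 : s ^ 3 = 1) (hh : h * h = 1) (hc : Commute s h)
    (hfix : ∀ p ∈ (D.P : Subgroup G), h * p * h = p → p ∈ zpowers s)
    (hall : ∀ g, g * s * g⁻¹ = s →
      g ∈ (D.P : Subgroup G) ∨ ∃ p ∈ (D.P : Subgroup G), g = p * h) :
    centralizer ({s * h} : Set G) = zpowers (s * h) := by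
  obtain ⟨h4, h3, -, -⟩ := D.pow_four_aux hh hs3 hc
  refine le_antisymm (fun g hg => ?_) (zpowers_le.mpr (mem_centralizer_singleton_iff.mpr rfl))
  have hg' : Commute g (s * h) := mem_centralizer_singleton_iff.mp hg
  have hgs : Commute g s := h4 ▸ hg'.pow_right 4
  have hgh : Commute g h := h3 ▸ hg'.pow_right 3
  have hs_mem : s ∈ zpowers (s * h) := by
    have := pow_mem (mem_zpowers (s * h)) 4
    rwa [h4] at this
  have hh_mem : h ∈ zpowers (s * h) := by
    have := pow_mem (mem_zpowers (s * h)) 3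
    rwa [h3] at this
  have key : ∀ p ∈ (D.P : Subgroup G), Commute p h → p ∈ zpowers (s * h) := fun p hp hph =>
    (zpowers_le.mpr hs_mem) (hfix p hp (by rw [← hph.eq, mul_assoc, hh, mul_one]))
  rcases hall g (by rw [hgs.eq]; group) with hP | ⟨p, hp, rfl⟩
  · exact key g hP hgh
  · refine mul_mem (key p hp ?_) hh_mem
    exact (mul_left_inj h).mp (by rw [hgh.eq, mul_assoc])

theorem centralizer_av : centralizer ({D.a * D.v} : Set G) = zpowers (D.a * D.v) :=
  D.centralizer_aux D.ha3 D.hv D.comm_a_v (fun _ => D.mem_zpowers_of_fix_v)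
    fun _ => D.cases_of_fix_a

theorem centralizer_abw :
    centralizer ({D.a * D.b * D.w} : Set G) = zpowers (D.a * D.b * D.w) :=
  D.centralizer_aux (D.pow_three (mul_mem D.ha D.hb)) D.hw D.comm_ab_w
    (fun _ => D.mem_zpowers_of_fix_w) fun _ => D.cases_of_fix_ab

theorem orderOf_aux {s h : G} (hs1 : s ≠ 1) (hh1 : h ≠ 1) (hh : h * h = 1) (hs3 : s ^ 3 = 1)
    (hc : Commute s h) : orderOf (s * h) = 6 := by
  haveI : Fact (Nat.Prime 2) := ⟨Nat.prime_two⟩
  haveI : Fact (Nat.Prime 3) := ⟨Nat.prime_three⟩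
  rw [hc.orderOf_mul_eq_mul_orderOf_of_coprime]
  all_goals rw [orderOf_eq_prime hs3 hs1, orderOf_eq_prime (by rw [sq, hh]) hh1]
  all_goals rfl

theorem v_ne_one : D.v ≠ 1 := fun h => D.v_notMem (h ▸ one_mem _)

theorem w_ne_one : D.w ≠ 1 := fun h => D.w_notMem (h ▸ one_mem _)

theorem orderOf_av : orderOf (D.a * D.v) = 6 :=
  D.orderOf_aux D.a_ne_one D.v_ne_one D.hv D.ha3 D.comm_a_v

theorem orderOf_abw : orderOf (D.a * D.b * D.w) = 6 :=
  D.orderOf_aux D.ab_ne_one D.w_ne_one D.hw (D.pow_three (mul_mem D.ha D.hb)) D.comm_ab_w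

theorem inverts_aux {h s : G} (hh : h * h = 1) (hs : s ∈ (D.P : Subgroup G))
    (hsh : (h * s) * (h * s) = 1) : h * s * h = s⁻¹ := by
  rw [eq_inv_iff_mul_eq_one]
  simpa only [mul_assoc] using hsh

theorem isConj_of_invol {i p h : G} (hp : p ∈ (D.P : Subgroup G)) (hh : h * h = 1)
    (hi : i = p * h) (hii : i * i = 1) : IsConj h i := by
  subst hi
  refine isConj_mul_of_inverts hh (D.pow_three hp) ?_
  rw [eq_inv_iff_mul_eq_one]
  have h' : p * h * p * h = 1 := by simpa only [mul_assoc] using hii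
  calc h * p * h * p = p⁻¹ * (p * h * p * h) * p := by group
    _ = 1 := by rw [h']; group

theorem v'_conj : IsConj D.v (D.w * D.v * D.w) :=
  isConj_iff.mpr ⟨D.w, by rw [D.w_inv]⟩

theorem cw_conj : IsConj D.w (D.c * D.w) :=
  isConj_iff.mpr ⟨D.v, by
    rw [D.v_inv, c]
    calc D.v * D.w * D.v = D.v * D.w * D.v * (D.w * D.w) := by rw [D.hw, mul_one]
      _ = _ := by group⟩

theorem conj_eq {i x : G} (hi : i * i = 1) (hj : (i * x) * (i * x) = 1) : i * x * i = x⁻¹ := by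
  rw [eq_inv_iff_mul_eq_one]
  simpa only [mul_assoc] using hj

/-- Involutions with product `a * v`. -/
theorem pair_av {i j : G} (hi : i * i = 1) (hj : j * j = 1) (hij : i * j = D.a * D.v) :
    (IsConj D.v i ∧ IsConj D.c j) ∨ (IsConj D.c i ∧ IsConj D.v j) := by
  obtain ⟨h4, h3, -, -⟩ := D.pow_four_aux D.hv D.ha3 D.comm_a_v
  have hii : i⁻¹ = i := inv_eq_of_mul_eq_one_right hi
  have hjz : j = i * (D.a * D.v) := by rw [← hij, ← mul_assoc, hi, one_mul]
  have hinv : i * (D.a * D.v) * i = (D.a * D.v)⁻¹ :=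
    D.conj_eq hi (by rw [← hjz]; exact hj)
  have hconj : ∀ k : ℕ, i * (D.a * D.v) ^ k * i = ((D.a * D.v) ^ k)⁻¹ := fun k => by
    have hc := conj_pow (i := k) (a := i) (b := D.a * D.v)
    rw [hii] at hc
    rw [← inv_pow, ← hinv, hc]
  have ha' : i * D.a * i = D.a⁻¹ := by have := hconj 4; rwa [h4] at this
  have hv' : i * D.v * i = D.v := by have := hconj 3; rwa [h3, D.v_inv] at this
  have hfix : (i * (D.w * D.v * D.w)) * D.a * (i * (D.w * D.v * D.w))⁻¹ = D.a := by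
    rw [mul_inv_rev, inv_eq_of_mul_eq_one_right D.v'_sq, hii]
    calc i * (D.w * D.v * D.w) * D.a * (D.w * D.v * D.w * i)
        = i * ((D.w * D.v * D.w) * D.φ (1, 0) * (D.w * D.v * D.w)) * i := by rw [D.φ_a]; group
      _ = D.a := by
          rw [D.conj_v', show ((-(1 : ZMod 3), (0 : ZMod 3))) = (2, 0) by decide, D.φ_a_inv]
          calc i * D.a⁻¹ * i = (i⁻¹ * D.a * i⁻¹)⁻¹ := by group
            _ = D.a := by rw [hii, ha', inv_inv]
  have hv'v : Commute (D.w * D.v * D.w) D.v := D.hcomm.symm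
  have hpv : ∀ p h, p ∈ (D.P : Subgroup G) → i = p * h → Commute h D.v → p ∈ zpowers D.a := by
    intro p h hp hip hch
    refine D.mem_zpowers_of_fix_v hp ((mul_left_inj h).mp ?_)
    calc D.v * p * D.v * h = D.v * (p * h) * D.v := by rw [mul_assoc _ D.v h, ← hch.eq]; group
      _ = p * h := by
          rw [← hip]
          calc D.v * i * D.v = i⁻¹ * (i * D.v * i) * D.v := by group
            _ = i := by rw [hv', mul_assoc, D.hv, mul_one, hii]
  have hav : Commute D.a D.v := D.comm_a_v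
  rcases D.cases_of_fix_a hfix with hP | ⟨p, hp, hip⟩
  · left
    obtain ⟨p, hp, hip⟩ := D.eq_mul_of_mem D.v'_sq hP
    refine ⟨D.v'_conj.trans (D.isConj_of_invol hp D.v'_sq hip hi), ?_⟩
    obtain ⟨u, hu⟩ := D.exists_φ D.ha
    refine D.isConj_of_invol (p := p * D.a⁻¹) (mul_mem hp (inv_mem D.ha)) D.c_sq ?_ hj
    have e : (D.w * D.v * D.w) * D.a = D.a⁻¹ * (D.w * D.v * D.w) := by
      have := D.conj_v' (1, 0)
      rw [D.φ_a, show ((-(1 : ZMod 3), (0 : ZMod 3))) = (2, 0) by decide, D.φ_a_inv] at this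
      conv_rhs => rw [← this]
      rw [mul_assoc _ _ (D.w * D.v * D.w), D.v'_sq, mul_one]
    rw [hjz, hip, mul_assoc, ← mul_assoc (D.w * D.v * D.w) D.a, e, mul_assoc, hv'v.eq]
    simp only [c, mul_assoc]
  · right
    have hip' : i = p * D.c := by
      calc i = i * ((D.w * D.v * D.w) * (D.w * D.v * D.w)) := by rw [D.v'_sq, mul_one]
        _ = p * D.c := by rw [← mul_assoc, hip, c, mul_assoc]
    refine ⟨D.isConj_of_invol hp D.c_sq hip' hi, D.v'_conj.trans
      (D.isConj_of_invol (p := p * D.a⁻¹) (mul_mem hp (inv_mem D.ha)) D.v'_sq ?_ hj)⟩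
    have e : D.c * D.a = D.a⁻¹ * D.c := by
      have := D.conj_c (1, 0)
      rw [D.φ_a, D.φ_neg, D.φ_a] at this
      conv_rhs => rw [← this]
      rw [mul_assoc _ _ D.c, D.c_sq, mul_one]
    rw [hjz, hip', mul_assoc, ← mul_assoc D.c D.a, e, mul_assoc, ← D.v_mul_c, c,
      ← mul_assoc D.v D.v, D.hv, one_mul, ← mul_assoc]

/-- Involutions with product `a * b * w`. -/
theorem pair_abw {i j : G} (hi : i * i = 1) (hj : j * j = 1) (hij : i * j = D.a * D.b * D.w) :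
    (IsConj D.w i ∧ IsConj D.c j) ∨ (IsConj D.c i ∧ IsConj D.w j) := by
  set s := D.a * D.b with hs_def
  have hsP : s ∈ (D.P : Subgroup G) := mul_mem D.ha D.hb
  obtain ⟨h4, h3, -, -⟩ := D.pow_four_aux D.hw (D.pow_three hsP) D.comm_ab_w
  have hii : i⁻¹ = i := inv_eq_of_mul_eq_one_right hi
  have hjz : j = i * (s * D.w) := by rw [← hij, ← mul_assoc, hi, one_mul]
  have hinv : i * (s * D.w) * i = (s * D.w)⁻¹ := D.conj_eq hi (by rw [← hjz]; exact hj)
  have hconj : ∀ k : ℕ, i * (s * D.w) ^ k * i = ((s * D.w) ^ k)⁻¹ := fun k => by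
    have hc := conj_pow (i := k) (a := i) (b := s * D.w)
    rw [hii] at hc
    rw [← inv_pow, ← hinv, hc]
  have hs' : i * s * i = s⁻¹ := by have := hconj 4; rwa [h4] at this
  have hcs : D.c * s * D.c = s⁻¹ := by
    rw [hs_def, ← D.φ_ab, ← D.φ_neg]; exact D.conj_c _
  have hfix : (i * D.c) * s * (i * D.c)⁻¹ = s := by
    rw [mul_inv_rev, inv_eq_of_mul_eq_one_right D.c_sq, hii]
    calc i * D.c * s * (D.c * i) = i * (D.c * s * D.c) * i := by group
      _ = (i⁻¹ * s * i⁻¹)⁻¹ := by rw [hcs]; group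
      _ = s := by rw [hii, hs', inv_inv]
  have ecs : D.c * s = s⁻¹ * D.c := by
    conv_rhs => rw [← hcs]
    rw [mul_assoc _ D.c D.c, D.c_sq, mul_one]
  rcases D.cases_of_fix_ab hfix with hP | ⟨p, hp, hip⟩
  · right
    obtain ⟨p, hp, hip⟩ := D.eq_mul_of_mem D.c_sq hP
    refine ⟨D.isConj_of_invol hp D.c_sq hip hi, D.cw_conj.trans
      (D.isConj_of_invol (p := p * s⁻¹) (mul_mem hp (inv_mem hsP)) ?_ ?_ hj)⟩
    · rw [mul_assoc, ← mul_assoc D.w D.c, D.w_mul_c, mul_assoc D.c D.w D.w, D.hw, mul_one, D.c_sq]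
    · rw [hjz, hip, mul_assoc, ← mul_assoc D.c s, ecs]; simp only [mul_assoc]
  · left
    have hip' : i = p * (D.c * D.w) := by
      calc i = i * (D.c * D.c) := by rw [D.c_sq, mul_one]
        _ = p * (D.c * D.w) := by rw [← mul_assoc, hip, mul_assoc, D.w_mul_c]
    have hcw : (D.c * D.w) * (D.c * D.w) = 1 := by
      rw [mul_assoc, ← mul_assoc D.w D.c, D.w_mul_c, mul_assoc D.c D.w D.w, D.hw, mul_one, D.c_sq]
    refine ⟨D.cw_conj.trans (D.isConj_of_invol hp hcw hip' hi),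
      D.isConj_of_invol (p := p * s⁻¹) (mul_mem hp (inv_mem hsP)) D.c_sq ?_ hj⟩
    rw [hjz, hip']
    calc p * (D.c * D.w) * (s * D.w) = p * (D.c * (D.w * s) * D.w) := by group
      _ = p * (D.c * (s * D.w) * D.w) := by rw [hs_def, D.comm_ab_w.eq]
      _ = p * (D.c * s * (D.w * D.w)) := by simp only [mul_assoc]
      _ = p * s⁻¹ * D.c := by rw [D.hw, mul_one, ecs, mul_assoc]

/-- The two classes of noncentral involutions are distinct. -/
theorem not_isConj_v_w : ¬ IsConj D.v D.w := by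
  haveI : Fact (Nat.Prime 3) := ⟨Nat.prime_three⟩
  intro h
  obtain ⟨g, hg⟩ := isConj_iff.mp h.symm
  set C := centralizer ({D.v} : Set G) with hC
  have haC : D.a ∈ C := mem_centralizer_singleton_iff.mpr D.comm_a_v.eq
  have hpa : IsPGroup 3 (zpowers (⟨D.a, haC⟩ : C)) :=
    IsPGroup.of_card (n := 1) (by
      rw [Nat.card_zpowers, Subgroup.orderOf_mk, orderOf_eq_prime D.ha3 D.a_ne_one, pow_one])
  obtain ⟨Q, hQ⟩ := hpa.exists_le_sylow
  have hQP : ∀ q : C, q ∈ (Q : Subgroup C) → (q : G) ∈ zpowers D.a := by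
    intro q hq
    obtain ⟨R, hR⟩ := (Q.isPGroup'.map C.subtype).exists_le_sylow
    have hRP : R = D.P := D.ti R D.ha
      (hR ⟨⟨D.a, haC⟩, hQ (mem_zpowers _), rfl⟩) D.a_ne_one
    refine D.mem_zpowers_of_fix_v (hRP ▸ hR ⟨q, hq, rfl⟩) ?_
    rw [← mem_centralizer_singleton_iff.mp q.2, mul_assoc, D.hv, mul_one]
  set x := g * (D.a * D.b) * g⁻¹ with hx
  have hxC : x ∈ C := by
    refine mem_centralizer_singleton_iff.mpr ?_
    rw [← hg, hx, show g * (D.a * D.b) * g⁻¹ * (g * D.w * g⁻¹) = g * (D.a * D.b * D.w) * g⁻¹ by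
      group, D.comm_ab_w.eq]
    group
  have hx1 : x ≠ 1 := fun h => D.ab_ne_one (conj_eq_one_iff.mp h)
  have hx3 : x ^ 3 = 1 := by rw [hx, conj_pow, D.pow_three (mul_mem D.ha D.hb)]; group
  have hpx : IsPGroup 3 (zpowers (⟨x, hxC⟩ : C)) :=
    IsPGroup.of_card (n := 1) (by
      rw [Nat.card_zpowers, Subgroup.orderOf_mk, orderOf_eq_prime hx3 hx1, pow_one])
  obtain ⟨Q', hQ'⟩ := hpx.exists_le_sylow
  obtain ⟨k, hk⟩ := MulAction.exists_smul_eq C Q' Q
  have hmem : k * ⟨x, hxC⟩ * k⁻¹ ∈ (Q : Subgroup C) := by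
    rw [← hk, Sylow.coe_subgroup_smul]
    exact Subgroup.smul_mem_pointwise_smul _ (MulAut.conj k) _ (hQ' (mem_zpowers _))
  have hy := hQP _ hmem
  have hab : IsConj (D.a * D.b) ((k * ⟨x, hxC⟩ * k⁻¹ : C) : G) :=
    (isConj_iff.mpr ⟨g, rfl⟩ : IsConj (D.a * D.b) x).trans (isConj_iff.mpr ⟨(k : G), by simp⟩)
  obtain ⟨n, hn⟩ := (Submonoid.mem_powers_iff _ _).mp (mem_powers_iff_mem_zpowers.mpr hy)
  rw [← hn, show D.a ^ n = D.φ (n • (1, 0)) by rw [← D.pow_φ, D.φ_a], D.isConj_iff_diag] at hab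
  exact hab.2 (by simp)

end Dih

end Cfsg.Agent.BC87.Sym6
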