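import Cfsg.Agent.BC87.Sym6.Dih
import Cfsg.Agent.BC87.Sym6.BaseChars
import Cfsg.Agent.BC87.Sym6.Classify

/-!
# The table of a group with dihedral action on its Sylow `3`-subgroup
-/

set_option autoImplicit false
set_option linter.unusedSectionVars false
set_option linter.style.haveILetI false

namespace Cfsg.Agent.BC87.Sym6

universe u

open Subgroup

variable {G : Type u} [Group G] [Finite G]

theorem sum_def_one {ι : Type*} [Fintype ι] (f L u₁ u₂ : ι → ℤ) (hf : ∀ i, f i ≠ 0)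
    (h : ∑ i, u₁ i * u₂ i = 0) :
    ∑ i, (((f i - L i) * u₁ i * u₂ i : ℤ) : ℚ) / f i =
      -∑ i, ((L i * u₁ i * u₂ i : ℤ) : ℚ) / f i := by
  have h' : (∑ i, ((u₁ i * u₂ i : ℤ) : ℚ)) = 0 := by exact_mod_cast h
  rw [eq_neg_iff_add_eq_zero, ← Finset.sum_add_distrib, ← h']
  refine Finset.sum_congr rfl fun i _ => ?_
  have : (f i : ℚ) ≠ 0 := by exact_mod_cast hf i
  field_simp
  push_cast
  ring

theorem sum_def_two {ι : Type*} [Fintype ι] (f L M u₁ : ι → ℤ) (hf : ∀ i, f i ≠ 0)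
    (h₁ : ∑ i, f i * u₁ i = 0) (h₂ : ∑ i, L i * u₁ i = 0) (h₃ : ∑ i, M i * u₁ i = 0) :
    ∑ i, (((f i - L i) * (f i - M i) * u₁ i : ℤ) : ℚ) / f i =
      ∑ i, ((L i * M i * u₁ i : ℤ) : ℚ) / f i := by
  have h₁' : (∑ i, ((f i * u₁ i : ℤ) : ℚ)) = 0 := by exact_mod_cast h₁
  have h₂' : (∑ i, ((L i * u₁ i : ℤ) : ℚ)) = 0 := by exact_mod_cast h₂
  have h₃' : (∑ i, ((M i * u₁ i : ℤ) : ℚ)) = 0 := by exact_mod_cast h₃
  calc ∑ i, (((f i - L i) * (f i - M i) * u₁ i : ℤ) : ℚ) / f i
      = ∑ i, (((f i * u₁ i : ℤ) : ℚ) - ((L i * u₁ i : ℤ) : ℚ) - ((M i * u₁ i : ℤ) : ℚ) +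
          ((L i * M i * u₁ i : ℤ) : ℚ) / f i) := Finset.sum_congr rfl fun i _ => by
        have : (f i : ℚ) ≠ 0 := by exact_mod_cast hf i
        field_simp
        push_cast
        ring
    _ = _ := by
        rw [Finset.sum_add_distrib, Finset.sum_sub_distrib, Finset.sum_sub_distrib, h₁', h₂', h₃']
        ring

theorem not_isConj_of_orderOf {g h : G} (hne : orderOf g ≠ orderOf h) : ¬ IsConj g h := by
  intro hc
  obtain ⟨c, rfl⟩ := isConj_iff.mp hc
  exact hne (MulEquiv.orderOf_eq (MulAut.conj c) g).symm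

namespace Dih

variable (D : Dih G)

theorem isInt_av : IsInt (D.a * D.v) := by
  refine isInt_of_real (by rw [D.orderOf_av]) (isConj_iff.mpr ⟨D.w * D.v * D.w, ?_⟩)
  rw [inv_eq_of_mul_eq_one_right D.v'_sq, mul_inv_rev, D.v_inv]
  have hv' : D.w * D.v * D.w * D.v = D.v * (D.w * D.v * D.w) := D.hcomm.eq.symm
  calc D.w * D.v * D.w * (D.a * D.v) * (D.w * D.v * D.w)
      = D.w * D.v * D.w * D.a * (D.v * (D.w * D.v * D.w)) := by group
    _ = D.w * D.v * D.w * D.φ (1, 0) * (D.w * D.v * D.w) * D.v := by rw [← hv', D.φ_a]; group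
    _ = D.a⁻¹ * D.v := by
        rw [D.conj_v', show ((-(1 : ZMod 3), (0 : ZMod 3))) = (2, 0) by decide, D.φ_a_inv]
    _ = D.v * D.a⁻¹ := (D.comm_a_v.inv_left).eq

theorem isInt_abw : IsInt (D.a * D.b * D.w) := by
  refine isInt_of_real (by rw [D.orderOf_abw]) (isConj_iff.mpr ⟨D.c, ?_⟩)
  rw [inv_eq_of_mul_eq_one_right D.c_sq, mul_inv_rev, D.w_inv]
  calc D.c * (D.a * D.b * D.w) * D.c = D.c * (D.a * D.b) * (D.w * D.c) := by group
    _ = D.c * D.φ (1, 1) * D.c * D.w := by rw [D.w_mul_c, D.φ_ab]; group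
    _ = (D.a * D.b)⁻¹ * D.w := by rw [D.conj_c, D.φ_neg, D.φ_ab]
    _ = D.w * (D.a * D.b)⁻¹ := (D.comm_ab_w.inv_left).eq

theorem orderOf_v : orderOf D.v = 2 := by
  haveI : Fact (Nat.Prime 2) := ⟨Nat.prime_two⟩
  exact orderOf_eq_prime (by rw [sq, D.hv]) D.v_ne_one

theorem orderOf_w : orderOf D.w = 2 := by
  haveI : Fact (Nat.Prime 2) := ⟨Nat.prime_two⟩
  exact orderOf_eq_prime (by rw [sq, D.hw]) D.w_ne_one

theorem mul_self_of_isConj {g i : G} (h : IsConj g i) (hg : g * g = 1) : i * i = 1 := by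
  obtain ⟨c, rfl⟩ := isConj_iff.mp h
  calc c * g * c⁻¹ * (c * g * c⁻¹) = c * (g * g) * c⁻¹ := by group
    _ = 1 := by rw [hg]; group

theorem not_isConj_av_abw : ¬ IsConj (D.a * D.v) (D.a * D.b * D.w) := by
  intro h
  obtain ⟨g, hg⟩ := isConj_iff.mp h
  refine D.not_isConj_v_w (isConj_iff.mpr ⟨g, ?_⟩)
  have h' := congrArg (· ^ 3) hg
  simp only [conj_pow] at h'
  rwa [(D.pow_four_aux D.hv D.ha3 D.comm_a_v).2.1,
    (D.pow_four_aux D.hw (D.pow_three (mul_mem D.ha D.hb)) D.comm_ab_w).2.1] at h'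

theorem card_centralizer_av : Nat.card (centralizer ({D.a * D.v} : Set G)) = 6 := by
  rw [D.centralizer_av, Nat.card_zpowers, D.orderOf_av]

theorem card_centralizer_abw : Nat.card (centralizer ({D.a * D.b * D.w} : Set G)) = 6 := by
  rw [D.centralizer_abw, Nat.card_zpowers, D.orderOf_abw]

theorem no_inv_pair {i j : G} (hi : IsConj D.w i) (hj : IsConj D.v j) (h3 : (i * j) ^ 3 = 1) :
    False := by
  have hii := mul_self_of_isConj hi D.hw
  have hjj := mul_self_of_isConj hj D.hv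
  have hs : i * (i * j)⁻¹ * i = ((i * j)⁻¹)⁻¹ := by
    rw [mul_inv_rev, inv_eq_of_mul_eq_one_right hii, inv_eq_of_mul_eq_one_right hjj, mul_inv_rev,
      inv_eq_of_mul_eq_one_right hii, inv_eq_of_mul_eq_one_right hjj, mul_assoc, mul_assoc, hii,
      mul_one]
  have hc := isConj_mul_of_inverts hii (by rw [inv_pow, h3, inv_one]) hs
  rw [mul_inv_rev, inv_eq_of_mul_eq_one_right hii, inv_eq_of_mul_eq_one_right hjj, mul_assoc, hii,
    mul_one] at hc
  exact D.not_isConj_v_w ((hi.trans hc).trans hj.symm).symm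

theorem normalizer_le_of_mem (K : Subgroup G) (hP : (D.P : Subgroup G) ≤ K) (hv : D.v ∈ K)
    (hw : D.w ∈ K) : normalizer ((D.P : Subgroup G) : Set G) ≤ K := by
  intro g hg
  obtain ⟨u, hu, he⟩ := D.conj_mem_axes hg (u := (1, 0)) (by decide)
  rw [D.φ_a] at he
  suffices h : ∃ k ∈ K, k * D.φ u * k⁻¹ = D.a by
    obtain ⟨k, hk, hka⟩ := h
    rw [← he] at hka
    have hkg : k * g * D.a * (k * g)⁻¹ = D.a := by
      conv_rhs => rw [← hka]
      group
    have : k * g ∈ K := by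
      rcases D.cases_of_fix_a hkg with h | ⟨p, hp, h⟩
      · exact hP h
      · rw [h]; exact mul_mem (hP hp) hv
    exact (mul_mem_cancel_left hk).mp this
  have hcases : u = (1, 0) ∨ u = (2, 0) ∨ u = (0, 1) ∨ u = (0, 2) := by
    clear he
    revert u
    decide
  rcases hcases with rfl | rfl | rfl | rfl
  · exact ⟨1, one_mem _, by rw [D.φ_a]; group⟩
  · refine ⟨D.w * D.v * D.w, mul_mem (mul_mem hw hv) hw, ?_⟩
    rw [inv_eq_of_mul_eq_one_right D.v'_sq, D.conj_v']
    exact D.φ_a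
  · refine ⟨D.w, hw, ?_⟩
    rw [D.w_inv, D.conj_w]
    exact D.φ_a
  · refine ⟨D.w * D.v, mul_mem hw hv, ?_⟩
    rw [mul_inv_rev, D.v_inv, D.w_inv]
    calc D.w * D.v * D.φ (0, 2) * (D.v * D.w) = D.w * (D.v * D.φ (0, 2) * D.v) * D.w := by group
      _ = D.a := by rw [D.conj_v, D.conj_w]; exact D.φ_a

theorem sup_normalizer (K : Subgroup G) [K.Normal] (hP : (D.P : Subgroup G) ≤ K) :
    normalizer ((D.P : Subgroup G) : Set G) ⊔ K = ⊤ := by
  haveI : Fact (Nat.Prime 3) := ⟨Nat.prime_three⟩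
  exact Sylow.normalizer_sup_eq_top' D.P hP

/-- If the central involution is not conjugate to `w`, there is a linear character with value
`-1` at both noncentral involutions. -/
theorem exists_linear (hcw : ¬ IsConj D.c D.w) :
    ∃ χ : Cfsg.IrrCharacter G, (χ : G → ℂ) 1 = 1 ∧ (χ : G → ℂ) D.a = 1 ∧
      (χ : G → ℂ) (D.a * D.b) = 1 ∧ (χ : G → ℂ) (D.a * D.v) = -1 ∧
      (χ : G → ℂ) (D.a * D.b * D.w) = -1 := by
  classical
  let _ := Fintype.ofFinite (Cfsg.IrrCharacter G)
  have ha := D.isInt_a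
  have hb := D.isInt_ab
  have hz := D.isInt_av
  have hw := D.isInt_abw
  have hV : IsInt D.v := isInt_of_order_two D.orderOf_v
  have hW : IsInt D.w := isInt_of_order_two D.orderOf_w
  have h1 : IsInt (1 : G) := isInt_one
  have o1 := orderOf_one (G := G)
  have oa := D.orderOf_a
  have ob := D.orderOf_ab
  have oz := D.orderOf_av
  have ow := D.orderOf_abw
  have oV := D.orderOf_v
  have oW := D.orderOf_w
  have O : ∀ {g h : G}, IsInt g → IsInt h → orderOf g ≠ orderOf h →
      ∑ χ : Cfsg.IrrCharacter G, val χ g * val χ h = 0 :=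
    fun hg hh hne => sum_val_mul_eq_zero hg hh (not_isConj_of_orderOf hne)
  have hf : ∀ χ : Cfsg.IrrCharacter G, val χ 1 ≠ 0 := fun χ => (val_one_pos χ).ne'
  have Oab := sum_val_mul_eq_zero ha hb D.not_isConj
  have Ozw := sum_val_mul_eq_zero hz hw D.not_isConj_av_abw
  have hdef : ∀ {L g : G}, IsInt L → IsInt g → orderOf g ≠ 1 → orderOf L ≠ orderOf g →
      ∑ χ : Cfsg.IrrCharacter G, (val χ 1 - val χ L) * val χ g = 0 := by
    intro L g hL hg hg1 hne
    simp only [sub_mul, Finset.sum_sub_distrib, O hL hg hne,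
      O h1 hg (by rw [o1]; exact fun h => hg1 h.symm), sub_zero]
  -- the pairs
  have P0 : ∀ {p q r : G}, IsInt p → IsInt q → IsInt r →
      (∀ x y, IsConj p x → IsConj q y → x * y = r → False) →
      ∑ χ : Cfsg.IrrCharacter G, ((val χ p * val χ q * val χ r : ℤ) : ℚ) / val χ 1 = 0 :=
    fun hp hq hr h => sum_eq_zero_of_no_pairs hp hq hr h
  have za := D.pow_four_aux D.hv D.ha3 D.comm_a_v
  have zb := D.pow_four_aux D.hw (D.pow_three (mul_mem D.ha D.hb)) D.comm_ab_w
  have Ewyz : ∑ χ : Cfsg.IrrCharacter G,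
      ((val χ (D.a * D.b) * val χ D.w * val χ (D.a * D.v) : ℤ) : ℚ) / val χ 1 = 0 := by
    refine P0 hb hW hz fun x t hx ht hxt => ?_
    rcases D.tri236 (D.pow_three_of_isConj (mul_mem D.ha D.hb) hx) (mul_self_of_isConj ht D.hw) hxt
      za.2.2.2 (by rw [za.2.2.1]; exact inv_mem D.ha) (by rw [za.2.2.1]; simpa using D.a_ne_one)
      with hxP | hxa
    · refine D.not_isConj_v_w (IsConj.trans ?_ ht.symm)
      exact D.isConj_of_invol (mul_mem (inv_mem hxP) D.ha) D.hv
        (by rw [mul_assoc, ← hxt, inv_mul_cancel_left]) (mul_self_of_isConj ht D.hw)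
    · rw [za.1] at hxa
      exact D.not_isConj (hx.trans hxa).symm
  have Evxw : ∑ χ : Cfsg.IrrCharacter G,
      ((val χ D.a * val χ D.v * val χ (D.a * D.b * D.w) : ℤ) : ℚ) / val χ 1 = 0 := by
    refine P0 ha hV hw fun x t hx ht hxt => ?_
    rcases D.tri236 (D.pow_three_of_isConj D.ha hx) (mul_self_of_isConj ht D.hv) hxt
      zb.2.2.2 (by rw [zb.2.2.1]; exact inv_mem (mul_mem D.ha D.hb))
      (by rw [zb.2.2.1]; exact fun h => D.ab_ne_one (inv_eq_one.mp h))
      with hxP | hxa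
    · refine D.not_isConj_v_w (ht.trans ?_)
      exact (D.isConj_of_invol (mul_mem (inv_mem hxP) (mul_mem D.ha D.hb)) D.hw
        (by rw [mul_assoc, ← hxt, inv_mul_cancel_left]) (mul_self_of_isConj ht D.hv)).symm
    · rw [zb.1] at hxa
      exact D.not_isConj (hx.trans hxa)
  have Nwxw : ∑ χ : Cfsg.IrrCharacter G,
      ((val χ D.a * val χ D.w * val χ (D.a * D.b * D.w) : ℤ) : ℚ) / val χ 1 ≠ 0 := by
    refine sum_ne_zero_of_pair ha hW hw (x := D.φ (0, 2)) (y := D.φ (1, 2) * D.w)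
      (D.conj_φ_axes (by decide)) ?_ ?_
    · exact isConj_mul_of_inverts D.hw (D.pow_three (D.φ_mem _))
        (by rw [D.conj_w, ← D.φ_neg]; congr 1)
    · rw [← mul_assoc, ← D.φ_add, show ((0, 2) : ZMod 3 × ZMod 3) + (1, 2) = (1, 1) by decide,
        D.φ_ab]
  have Nvyz : ∑ χ : Cfsg.IrrCharacter G,
      ((val χ (D.a * D.b) * val χ D.v * val χ (D.a * D.v) : ℤ) : ℚ) / val χ 1 ≠ 0 := by
    refine sum_ne_zero_of_pair hb hV hz (x := D.φ (1, 1)) (y := D.φ (0, 2) * D.v)
      (by rw [D.φ_ab]) ?_ ?_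
    · exact isConj_mul_of_inverts D.hv (D.pow_three (D.φ_mem _))
        (by rw [D.conj_v, ← D.φ_neg]; congr 1)
    · rw [← mul_assoc, ← D.φ_add, show ((1, 1) : ZMod 3 × ZMod 3) + (0, 2) = (1, 0) by decide,
        D.φ_a]
  have Ewvx := P0 hW hV ha fun i j hi hj h => D.no_inv_pair hi hj (by rw [h, D.ha3])
  have Ewvy := P0 hW hV hb fun i j hi hj h =>
    D.no_inv_pair hi hj (by rw [h, D.pow_three (mul_mem D.ha D.hb)])
  have Ewvz := P0 hW hV hz fun i j hi hj h => by
    rcases D.pair_av (mul_self_of_isConj hi D.hw) (mul_self_of_isConj hj D.hv) h with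
      ⟨h', -⟩ | ⟨h', -⟩
    · exact D.not_isConj_v_w (h'.trans hi.symm)
    · exact hcw (h'.trans hi.symm)
  have Ewwz := P0 hW hW hz fun i j hi hj h => by
    rcases D.pair_av (mul_self_of_isConj hi D.hw) (mul_self_of_isConj hj D.hw) h with
      ⟨h', -⟩ | ⟨-, h'⟩
    · exact D.not_isConj_v_w (h'.trans hi.symm)
    · exact D.not_isConj_v_w (h'.trans hj.symm)
  have Ewww := P0 hW hW hw fun i j hi hj h => by
    rcases D.pair_abw (mul_self_of_isConj hi D.hw) (mul_self_of_isConj hj D.hw) h with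
      ⟨-, h'⟩ | ⟨h', -⟩
    · exact hcw (h'.trans hj.symm)
    · exact hcw (h'.trans hi.symm)
  have Evvw := P0 hV hV hw fun i j hi hj h => by
    rcases D.pair_abw (mul_self_of_isConj hi D.hv) (mul_self_of_isConj hj D.hv) h with
      ⟨h', -⟩ | ⟨-, h'⟩
    · exact D.not_isConj_v_w (hi.trans h'.symm)
    · exact D.not_isConj_v_w (hj.trans h'.symm)
  -- the table
  let T : Table (Cfsg.IrrCharacter G) :=
    { one := BC87.triv G
      f := fun χ => val χ 1
      x := fun χ => val χ D.a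
      y := fun χ => val χ (D.a * D.b)
      z := fun χ => val χ (D.a * D.v)
      w := fun χ => val χ (D.a * D.b * D.w)
      D := fun χ => val χ 1 - val χ D.w
      E := fun χ => val χ 1 - val χ D.v
      pos := val_one_pos
      dvd_nine := D.nine_dvd
      dvd_three := fun χ => by
        have := three_dvd_val χ oa D.conj_a_inv
        have := three_dvd_val χ ob D.conj_ab_inv
        omega
      dvd_z := fun χ => by
        have := two_dvd_val_sub χ za.2.2.2 hz (by rw [za.1]; exact ha)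
        rwa [za.1] at this
      dvd_w := fun χ => by
        have := two_dvd_val_sub χ zb.2.2.2 hw (by rw [zb.1]; exact hb)
        rwa [zb.1] at this
      one_eq := by simp [val_triv]
      hxx := by rw [sum_val_mul_self ha, D.card_centralizer_a]; rfl
      hyy := by rw [sum_val_mul_self hb, D.card_centralizer_ab]; rfl
      hzz := by rw [sum_val_mul_self hz, D.card_centralizer_av]; rfl
      hww := by rw [sum_val_mul_self hw, D.card_centralizer_abw]; rfl
      hxy := Oab
      hxz := O ha hz (by omega)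
      hxw := O ha hw (by omega)
      hyz := O hb hz (by omega)
      hyw := O hb hw (by omega)
      hzw := Ozw
      hf := ⟨O h1 ha (by omega), O h1 hb (by omega), O h1 hz (by omega), O h1 hw (by omega)⟩
      hD := ⟨hdef hW ha (by omega) (by omega), hdef hW hb (by omega) (by omega),
        hdef hW hz (by omega) (by omega), hdef hW hw (by omega) (by omega)⟩
      hE := ⟨hdef hV ha (by omega) (by omega), hdef hV hb (by omega) (by omega),
        hdef hV hz (by omega) (by omega), hdef hV hw (by omega) (by omega)⟩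
      hne := by
        intro χ hne f1 x1 y1 z1 w1
        have e : ∀ {g : G}, IsInt g → val χ g = 1 → (χ : G → ℂ) g = 1 := fun hg h => by
          rw [← hg.coe_val, h]; simp
        have h1' := e h1 f1
        have hmul := BC87.apply_mul_of_degree_one h1'
        have hker : ∀ {g : G}, (χ : G → ℂ) g = 1 → g ∈ BC87.kerChar χ := fun hg => by
          rw [BC87.mem_kerChar, hg, h1']
        have hab' := e hb y1
        rw [hmul, e ha x1, one_mul] at hab'
        have hv' := e hz z1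
        rw [hmul, e ha x1, one_mul] at hv'
        have hw' := e hw w1
        rw [hmul, e hb y1, one_mul] at hw'
        have hP : (D.P : Subgroup G) ≤ BC87.kerChar χ := by
          intro p hp
          obtain ⟨u, rfl⟩ := D.exists_φ hp
          exact mul_mem (pow_mem (hker (e ha x1)) _) (pow_mem (hker hab') _)
        have htop := D.sup_normalizer _ hP
        rw [sup_eq_right.mpr (D.normalizer_le_of_mem _ hP (hker hv') (hker hw'))] at htop
        refine hne (Subtype.ext (funext fun g => ?_))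
        have hg : g ∈ BC87.kerChar χ := htop ▸ mem_top g
        rw [BC87.mem_kerChar.mp hg, h1']
        rfl
      hswap := by
        have e1 := card_pairs_eq ha ha hb
        have e2 := card_pairs_eq ha hb hb
        have hc : Nat.card {x : G // IsConj D.a x} = Nat.card {x : G // IsConj (D.a * D.b) x} := by
          have i1 := InvChar68.card_isConj_mul_card_centralizer D.a
          have i2 := InvChar68.card_isConj_mul_card_centralizer (D.a * D.b)
          rw [D.card_centralizer_a] at i1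
          rw [D.card_centralizer_ab] at i2
          omega
        rw [D.card_pairs_aab] at e1
        rw [D.card_pairs_abb, e1, ← hc] at e2
        have hc0 : (Nat.card {x : G // IsConj D.a x} : ℚ) ≠ 0 :=
          Nat.cast_ne_zero.mpr (card_class_pos D.a).ne'
        have e3 := mul_left_cancel₀ (mul_ne_zero hc0 hc0) e2
        rw [← sub_eq_zero, ← Finset.sum_sub_distrib] at e3
        rw [← e3]
        refine Finset.sum_congr rfl fun χ _ => ?_
        push_cast
        ring
      hDyz := by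
        rw [sum_def_one _ _ _ _ hf (O hb hz (by omega)), neg_eq_zero, ← Ewyz]
        exact Finset.sum_congr rfl fun χ _ => by push_cast; ring
      hDxw := by
        rw [sum_def_one _ _ _ _ hf (O ha hw (by omega)), neg_ne_zero]
        convert Nwxw using 1
        exact Finset.sum_congr rfl fun χ _ => by push_cast; ring
      hEyz := by
        rw [sum_def_one _ _ _ _ hf (O hb hz (by omega)), neg_ne_zero]
        convert Nvyz using 1
        exact Finset.sum_congr rfl fun χ _ => by push_cast; ring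
      hExw := by
        rw [sum_def_one _ _ _ _ hf (O ha hw (by omega)), neg_eq_zero, ← Evxw]
        exact Finset.sum_congr rfl fun χ _ => by push_cast; ring
      hDEx := by
        rw [sum_def_two _ _ _ _ hf (O h1 ha (by omega)) (O hW ha (by omega)) (O hV ha (by omega))]
        exact Ewvx
      hDEy := by
        rw [sum_def_two _ _ _ _ hf (O h1 hb (by omega)) (O hW hb (by omega)) (O hV hb (by omega))]
        exact Ewvy
      hDEz := by
        rw [sum_def_two _ _ _ _ hf (O h1 hz (by omega)) (O hW hz (by omega)) (O hV hz (by omega))]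
        exact Ewvz
      hDDz := by
        rw [sum_def_two _ _ _ _ hf (O h1 hz (by omega)) (O hW hz (by omega)) (O hW hz (by omega))]
        exact Ewwz
      hDDw := by
        rw [sum_def_two _ _ _ _ hf (O h1 hw (by omega)) (O hW hw (by omega)) (O hW hw (by omega))]
        exact Ewww
      hEEw := by
        rw [sum_def_two _ _ _ _ hf (O h1 hw (by omega)) (O hV hw (by omega)) (O hV hw (by omega))]
        exact Evvw }
  obtain ⟨χ, -, hf', hx', hy', hz', hw'⟩ := T.exists_linear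
  refine ⟨χ, ?_, ?_, ?_, ?_, ?_⟩
  · rw [← h1.coe_val, show val χ 1 = 1 from hf']; simp
  · rw [← ha.coe_val, show val χ D.a = 1 from hx']; simp
  · rw [← hb.coe_val, show val χ (D.a * D.b) = 1 from hy']; simp
  · rw [← hz.coe_val, show val χ (D.a * D.v) = -1 from hz']; simp
  · rw [← hw.coe_val, show val χ (D.a * D.b * D.w) = -1 from hw']; simp

/-- Interchange the two classes. -/
def mirror : Dih G where
  P := D.P
  a := D.a * D.b
  b := D.a * D.b⁻¹
  ha := mul_mem D.ha D.hb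
  hb := mul_mem D.ha (inv_mem D.hb)
  ha3 := D.pow_three (mul_mem D.ha D.hb)
  hb3 := D.pow_three (mul_mem D.ha (inv_mem D.hb))
  card := D.card
  gen := fun s hs => by
    obtain ⟨u, rfl⟩ := D.exists_φ hs
    have key : ∀ u : ZMod 3 × ZMod 3, ∃ i j : Fin 3,
        u = (i : ℕ) • ((1, 1) : ZMod 3 × ZMod 3) + (j : ℕ) • ((1, 2) : ZMod 3 × ZMod 3) := by decide
    obtain ⟨i, j, h⟩ := key u
    refine ⟨i, j, ?_⟩
    rw [h, D.φ_add, ← D.pow_φ, ← D.pow_φ, D.φ_ab,
      show ((1, 2) : ZMod 3 × ZMod 3) = (1, 0) + (0, 2) by decide, D.φ_add, D.φ_a, D.φ_b_inv]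
  cent := D.cent
  self_cent := D.self_cent
  mono := fun g hg t ht => by
    have e : D.φ (1, 2) = D.a * D.b⁻¹ := by
      rw [show ((1, 2) : ZMod 3 × ZMod 3) = (1, 0) + (0, 2) by decide, D.φ_add, D.φ_a, D.φ_b_inv]
    have hmem : ∀ u : ZMod 3 × ZMod 3, D.φ u ∈ ({D.a * D.b, (D.a * D.b)⁻¹, D.a * D.b⁻¹,
        (D.a * D.b⁻¹)⁻¹} : Set G) ↔ u.1 ≠ 0 ∧ u.2 ≠ 0 := by
      intro u
      rw [← e, ← D.φ_ab, ← D.φ_neg, ← D.φ_neg]
      simp only [Set.mem_insert_iff, Set.mem_singleton_iff, D.φ_injective.eq_iff]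
      revert u; decide
    have htP : t ∈ (D.P : Subgroup G) := by
      have ha := D.ha
      have hb := D.hb
      rcases ht with rfl | rfl | rfl | rfl
      exacts [mul_mem ha hb, inv_mem (mul_mem ha hb), mul_mem ha (inv_mem hb),
        inv_mem (mul_mem ha (inv_mem hb))]
    obtain ⟨u, rfl⟩ := D.exists_φ htP
    obtain ⟨u', hu'⟩ := D.exists_φ ((mem_normalizer_iff.mp hg (D.φ u)).mp htP)
    rw [← hu', hmem]
    refine D.isConj_iff_diag.mp ((D.conj_φ_diag ((hmem u).mp ht)).trans ?_)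
    exact isConj_iff.mpr ⟨g, hu'.symm⟩
  conj_a_inv := D.conj_ab_inv
  conj_a_b := D.conj_ab
  conj_ab := by
    have h1 : D.a * D.b * (D.a * D.b⁻¹) = D.a⁻¹ := by
      rw [← D.φ_a_inv, ← D.φ_b_inv, ← D.φ_a, ← D.φ_b, ← D.φ_add, ← D.φ_add, ← D.φ_add]; rfl
    have h2 : D.a * D.b * (D.a * D.b⁻¹)⁻¹ = D.b⁻¹ := by
      rw [← D.φ_b_inv, ← D.φ_a, ← D.φ_b, ← D.φ_add, ← D.φ_add, ← D.φ_neg, ← D.φ_add]; rfl
    rw [h1, h2, ← D.φ_a_inv, ← D.φ_b_inv]
    exact (D.conj_φ_axes (by decide)).symm.trans (D.conj_φ_axes (by decide))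
  conj_ab_inv := by
    have h1 : D.a * D.b * (D.a * D.b⁻¹) = D.a⁻¹ := by
      rw [← D.φ_a_inv, ← D.φ_b_inv, ← D.φ_a, ← D.φ_b, ← D.φ_add, ← D.φ_add, ← D.φ_add]; rfl
    rw [h1, inv_inv]
    exact D.conj_a_inv.symm
  v := D.w
  w := D.v
  hv := D.hw
  hw := D.hv
  hva := by rw [← D.φ_ab, D.conj_w]
  hvb := by
    rw [← D.φ_b_inv, ← D.φ_a, ← D.φ_add, D.conj_w, ← D.φ_neg]; rfl
  hwa := by rw [← D.φ_b_inv, ← D.φ_ab, ← D.φ_a, ← D.φ_add, D.conj_v]; rfl
  hcomm := by
    show D.w * (D.v * D.w * D.v) = D.v * D.w * D.v * D.w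
    calc D.w * (D.v * D.w * D.v) = D.w * D.v * D.w * D.v := by group
      _ = D.v * (D.w * D.v * D.w) := D.hcomm.eq.symm
      _ = D.v * D.w * D.v * D.w := by group

theorem mirror_c : D.mirror.c = D.c := by
  show D.w * (D.v * D.w * D.v) = D.v * (D.w * D.v * D.w)
  rw [D.hcomm.eq]
  group

theorem mirror_P : D.mirror.P = D.P := rfl

/-- A normal subgroup of index two meeting the normalizer in `P⟨v w⟩`. -/
theorem exists_index_two : ∃ M : Subgroup G, M.Normal ∧ M.index = 2 ∧
    (D.P : Subgroup G) ≤ M ∧ D.v ∉ M ∧ D.w ∉ M := by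
  suffices h : ∀ E : Dih G, ¬ IsConj E.c E.w → ∃ M : Subgroup G, M.Normal ∧ M.index = 2 ∧
      (E.P : Subgroup G) ≤ M ∧ E.v ∉ M ∧ E.w ∉ M by
    by_cases hcw : IsConj D.c D.w
    · obtain ⟨M, h1, h2, h3, h4, h5⟩ := h D.mirror (fun hc => D.not_isConj_v_w (by
        rw [D.mirror_c] at hc
        exact (hc.symm.trans hcw : IsConj D.v D.w)))
      exact ⟨M, h1, h2, h3, h5, h4⟩
    · exact h D hcw
  intro E hcw
  obtain ⟨χ, h1, hx, hy, hz, hw⟩ := E.exists_linear hcw
  have hmul := BC87.apply_mul_of_degree_one h1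
  have hb : (χ : G → ℂ) E.b = 1 := by
    have := hy
    rwa [hmul, hx, one_mul] at this
  rw [hmul, hx, one_mul] at hz
  rw [hmul, hy, one_mul] at hw
  set M := BC87.kerChar χ with hM
  have hker : ∀ {g : G}, g ∈ M ↔ (χ : G → ℂ) g = 1 := fun {g} => by
    rw [hM, BC87.mem_kerChar, h1]
  have hP : (E.P : Subgroup G) ≤ M := by
    intro p hp
    obtain ⟨u, rfl⟩ := E.exists_φ hp
    exact mul_mem (pow_mem (hker.mpr hx) _) (pow_mem (hker.mpr hb) _)
  let S : Subgroup G :=
    { carrier := {g | (χ : G → ℂ) g = 1 ∨ (χ : G → ℂ) g = -1}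
      one_mem' := Or.inl h1
      mul_mem' := by rintro a b (ha | ha) (hb | hb) <;> simp [hmul, ha, hb]
      inv_mem' := by
        rintro a (ha | ha) <;> simp [CharCore.irr_apply_inv, ha] }
  have htop : S = ⊤ := by
    refine top_le_iff.mp (le_of_eq_of_le (E.sup_normalizer M hP).symm (sup_le ?_ ?_))
    · exact E.normalizer_le_of_mem S (fun p hp => Or.inl (hker.mp (hP hp))) (Or.inr hz) (Or.inr hw)
    · exact fun g hg => Or.inl (hker.mp hg)
  have hne : (-1 : ℂ) ≠ 1 := by norm_num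
  refine ⟨M, inferInstance, ?_, hP, fun h => hne (hz.symm.trans (hker.mp h)),
    fun h => hne (hw.symm.trans (hker.mp h))⟩
  refine Subgroup.index_eq_two_iff.mpr ⟨E.v, fun g => ?_⟩
  have hg : g ∈ S := htop ▸ mem_top g
  rcases hg with hg | hg <;> simp [hker, hmul, hg, hz, hne, xor_def]

end Dih

end Cfsg.Agent.BC87.Sym6
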