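import Cfsg.Agent.InvChar68.S6Facts
import Cfsg.Agent.AutA6.SylowPairs
import Cfsg.Agent.AutA6.ThreeCycle
import Cfsg.Agent.S0497

/-!
# A criterion for `S₆`
-/

set_option autoImplicit false
set_option linter.style.haveILetI false

namespace Cfsg.Agent.BC87.Sym6

open Subgroup Equiv

/-- A group with a self-centralized subgroup of index two simple of order `360` and an outer
involution fixing an element of order three is `S₆`. -/
theorem equiv_perm_six_of {G : Type*} [Group G] [Finite G] (M : Subgroup G) (hM2 : M.index = 2)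
    (hsimp : IsSimpleGroup M) (h360 : Nat.card M = 360) {t h : G} (ht : t * t = 1) (htM : t ∉ M)
    (hhM : h ∈ M) (hh3 : orderOf h = 3) (hth : t * h = h * t)
    (hcent : ∀ g : G, (∀ m ∈ M, g * m = m * g) → g = 1) :
    Nonempty (G ≃* Equiv.Perm (Fin 6)) := by
  classical
  haveI := hsimp
  obtain ⟨eA⟩ := S0497.result (G := M) h360
  haveI hMn : M.Normal := normal_of_index_eq_two hM2
  let φ : G → MulAut (alternatingGroup (Fin 6)) := fun g =>
    eA.symm.trans ((MulAut.conjNormal g).trans eA)
  have hφ1 : ∀ g g', φ (g * g') = φ g * φ g' := by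
    intro g g'
    refine MulEquiv.ext fun y => ?_
    simp [φ, MulAut.mul_apply, map_mul]
  let conjA : Equiv.Perm (Fin 6) →* MulAut (alternatingGroup (Fin 6)) := MulAut.conjNormal
  have hinjA : Function.Injective conjA := by
    rw [← MonoidHom.ker_eq_bot_iff, eq_bot_iff]
    intro σ hσ
    rw [Subgroup.mem_bot]
    have key : ∀ c : Equiv.Perm (Fin 6), Equiv.Perm.sign c = 1 → σ * c = c * σ := by
      intro c hc
      have h1 := congrArg Subtype.val (MulEquiv.congr_fun (MonoidHom.mem_ker.mp hσ)
        (⟨c, Equiv.Perm.mem_alternatingGroup.mpr hc⟩ : alternatingGroup (Fin 6)))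
      simp only [conjA, MulAut.conjNormal_apply, MulAut.one_apply] at h1
      exact mul_inv_eq_iff_eq_mul.mp h1
    exact InvChar68.SymSix.cent_perm_six σ (key _ (by decide)) (key _ (by decide)) (key _ (by decide))
      (key _ (by decide))
  have hσM : ∀ n : M, conjA ((eA n : alternatingGroup (Fin 6)) : Equiv.Perm (Fin 6)) = φ n := by
    intro n
    refine MulEquiv.ext fun y => Subtype.ext ?_
    simp only [conjA, MulAut.conjNormal_apply, φ, MulEquiv.trans_apply]
    have hn : MulAut.conjNormal (n : G) (eA.symm y) = n * eA.symm y * n⁻¹ := by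
      apply Subtype.ext; simp
    rw [hn, map_mul, map_mul, map_inv, eA.apply_symm_apply]
    rfl
  set h' := eA ⟨h, hhM⟩ with hh'
  have hfix : φ t h' = h' := by
    simp only [φ, hh', MulEquiv.trans_apply, eA.symm_apply_apply]
    congr 1
    apply Subtype.ext
    simp only [MulAut.conjNormal_apply]
    rw [hth, mul_inv_cancel_right]
  have ho' : orderOf h' = 3 := by rw [hh', MulEquiv.orderOf_eq, Subgroup.orderOf_mk, hh3]
  have hne : (Multiset.replicate 1 3 : Multiset ℕ) ≠ Multiset.replicate 2 3 := by decide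
  have hpres : ∀ x : alternatingGroup (Fin 6), Equiv.Perm.IsThreeCycle (x : Equiv.Perm (Fin 6)) →
      Equiv.Perm.IsThreeCycle ((φ t x : alternatingGroup (Fin 6)) : Equiv.Perm (Fin 6)) := by
    intro x hx
    have hx' : orderOf x = 3 := by rw [← Subgroup.orderOf_coe, hx.orderOf]
    have hx1 : (x : Equiv.Perm (Fin 6)).cycleType = Multiset.replicate 1 3 := hx
    rcases AutA6.cycleType_three h' ho' with hc | hc
    · have := AutA6.map_three_class (φ t) hx1 hc (Or.inl rfl)
      rw [hfix] at this
      exact this.trans hc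
    · rcases AutA6.cycleType_three (φ t x) (by rw [MulEquiv.orderOf_eq, hx']) with h5 | h5
      · exact h5
      exfalso
      have := AutA6.map_three_class (φ t).symm h5 hc (Or.inr rfl)
      rw [MulEquiv.symm_apply_apply, show (φ t).symm h' = h' from
        (φ t).symm_apply_eq.mpr hfix.symm, hx1, hc] at this
      exact hne this
  obtain ⟨σt, hσt⟩ := AutA6.exists_perm_of_map_three (by norm_num) (φ t) hpres
  have hex : ∀ g : G, ∃ σ, conjA σ = φ g := by
    intro g
    by_cases hg : g ∈ M
    · exact ⟨_, hσM ⟨g, hg⟩⟩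
    · have hgt : g * t ∈ M := (Subgroup.mul_mem_iff_of_index_two hM2).mpr (iff_of_false hg htM)
      refine ⟨((eA ⟨g * t, hgt⟩ : alternatingGroup (Fin 6)) : Equiv.Perm (Fin 6)) * σt, ?_⟩
      rw [map_mul, hσM, show conjA σt = φ t from hσt, ← hφ1]
      congr 1
      show g * t * t = g
      rw [mul_assoc, ht, mul_one]
  choose ψ hψ using hex
  let Ψ : G →* Equiv.Perm (Fin 6) := MonoidHom.mk' ψ (fun g g' => hinjA (by
    rw [map_mul, hψ, hψ, hψ, hφ1]))
  have hΨ : Function.Injective Ψ := by
    rw [← MonoidHom.ker_eq_bot_iff, eq_bot_iff]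
    intro g hg
    rw [Subgroup.mem_bot]
    have hφg : φ g = 1 := by
      rw [← hψ g, show ψ g = 1 from MonoidHom.mem_ker.mp hg, map_one]
    refine hcent g fun m hm => ?_
    have h1 := MulEquiv.congr_fun hφg (eA ⟨m, hm⟩)
    simp only [φ, MulEquiv.trans_apply, eA.symm_apply_apply, MulAut.one_apply] at h1
    exact mul_inv_eq_iff_eq_mul.mp (congrArg Subtype.val (eA.injective h1))
  refine ⟨MulEquiv.ofBijective Ψ ((Nat.bijective_iff_injective_and_card Ψ).mpr ⟨hΨ, ?_⟩)⟩
  rw [← M.index_mul_card, hM2, h360, Nat.card_perm, Nat.card_fin]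
  rfl

end Cfsg.Agent.BC87.Sym6
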