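import Cfsg.Agent.BC87.Sym6.Base
import Mathlib.GroupTheory.Transfer
import Mathlib.GroupTheory.Subgroup.Simple
import Mathlib.Tactic.IntervalCases

/-!
# Simplicity of the group of order `360`
-/

set_option autoImplicit false
set_option linter.unusedSectionVars false
set_option linter.style.haveILetI false

namespace Cfsg.Agent.BC87.Sym6

universe u

open Subgroup

variable {G : Type u} [Group G] [Finite G]

theorem index_dvd_card_normalizer {p : ℕ} [Fact p.Prime] (K : Subgroup G) [K.Normal]
    (Q : Sylow p G) (h : (Q : Subgroup G) ≤ K) :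
    K.index ∣ Nat.card (normalizer ((Q : Subgroup G) : Set G)) := by
  have h1 := Subgroup.relIndex_sup_right (normalizer ((Q : Subgroup G) : Set G)) K
  rw [show normalizer ((Q : Subgroup G) : Set G) ⊔ K = ⊤ from Sylow.normalizer_sup_eq_top' Q h,
    relIndex_top_right] at h1
  rw [h1]
  exact relIndex_dvd_card (H := K) (K := normalizer ((Q : Subgroup G) : Set G))

theorem sylow_le_of_not_dvd_index {p : ℕ} [hp : Fact p.Prime] (K : Subgroup G) [K.Normal]
    (Q : Sylow p G) (h : ¬ p ∣ K.index) : (Q : Subgroup G) ≤ K := by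
  rw [← relIndex_eq_one]
  obtain ⟨k, hk⟩ := IsPGroup.iff_card.mp Q.isPGroup'
  obtain ⟨j, -, hj⟩ := (Nat.dvd_prime_pow hp.out).mp
    (hk ▸ relIndex_dvd_card (H := K) (K := (Q : Subgroup G)))
  rcases j with _ | j
  · simpa using hj
  · exact absurd ((dvd_pow_self p (Nat.succ_ne_zero j)).trans
      (hj ▸ relIndex_dvd_index_of_normal K (Q : Subgroup G))) h

namespace Base

variable (B : Base G)

include B

/-- Elements of order `5` are not normalized by elements of order `3`. -/
theorem no_three_five (hC : ∀ s ∈ (B.P : Subgroup G), s ≠ 1 →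
      centralizer ({s} : Set G) ≤ (B.P : Subgroup G)) (R : Subgroup G) (hR : Nat.card R = 5) :
    ¬ 3 ∣ Nat.card (normalizer (R : Set G)) := by
  haveI : Fact (Nat.Prime 3) := ⟨Nat.prime_three⟩
  haveI : Fact (Nat.Prime 5) := ⟨Nat.prime_five⟩
  intro h
  obtain ⟨⟨x, hxN⟩, hx⟩ := exists_prime_orderOf_dvd_card' 3 h
  rw [Subgroup.orderOf_mk] at hx
  have : Nontrivial R := Finite.one_lt_card_iff_nontrivial.mp (by omega)
  obtain ⟨⟨r, hr⟩, hr1⟩ := exists_ne (1 : R)
  have hr1' : r ≠ 1 := fun h => hr1 (Subtype.ext h)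
  have hord : orderOf r = 5 := by
    have : orderOf r ∣ 5 := hR ▸ Subgroup.orderOf_dvd_natCard _ hr
    rcases (Nat.dvd_prime Nat.prime_five).mp this with h | h
    · exact absurd (orderOf_eq_one_iff.mp h) hr1'
    · exact h
  have hgen : zpowers r = R :=
    Subgroup.eq_of_le_of_card_ge (zpowers_le.mpr hr) (by rw [Nat.card_zpowers, hord, hR])
  have hxr : x * r * x⁻¹ ∈ R := (mem_normalizer_iff.mp hxN r).mp hr
  rw [← hgen] at hxr
  obtain ⟨k, hk⟩ := mem_powers_iff_mem_zpowers.mpr hxr
  simp only at hk
  have h2 : x * (x * r * x⁻¹) * x⁻¹ = r ^ (k * k) := by rw [← hk, ← conj_pow, ← hk, ← pow_mul]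
  have h3 : r ^ (k * k * k) = r ^ 1 := by
    rw [pow_one, mul_comm (k * k) k, pow_mul, hk, conj_pow, ← h2]
    calc x * (x * (x * r * x⁻¹) * x⁻¹) * x⁻¹ = x ^ 3 * r * (x ^ 3)⁻¹ := by
          simp [pow_succ, mul_assoc]
      _ = r := by rw [← hx, pow_orderOf_eq_one]; group
  rw [pow_eq_pow_iff_modEq, hord] at h3
  have hk1 : k % 5 = 1 := by
    unfold Nat.ModEq at h3
    rw [Nat.mul_mod, Nat.mul_mod k k] at h3
    have : k % 5 < 5 := Nat.mod_lt _ (by norm_num)
    interval_cases h : k % 5 <;> simp_all
  have hcomm : x * r * x⁻¹ = r := by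
    rw [← hk, ← pow_mod_orderOf, hord, hk1, pow_one]
  have hx1 : x ≠ 1 := fun h => by rw [h, orderOf_one] at hx; norm_num at hx
  obtain ⟨Q, hQ⟩ := (IsPGroup.of_card (p := 3) (n := 1) (G := zpowers x)
    (by rw [Nat.card_zpowers, hx, pow_one])).exists_le_sylow
  obtain ⟨g, hg⟩ := B.sylow_eq_conj Q
  have hxP := (hg x).mp (hQ (mem_zpowers x))
  have hrP : g * r * g⁻¹ ∈ (B.P : Subgroup G) :=
    hC _ hxP (fun h => hx1 (conj_eq_one_iff.mp h)) (mem_centralizer_singleton_iff.mpr (by
      rw [show g * r * g⁻¹ * (g * x * g⁻¹) = g * (r * x) * g⁻¹ by group,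
        ← mul_inv_eq_iff_eq_mul.mp hcomm]
      group))
  have := orderOf_dvd_of_pow_eq_one (B.pow_three hrP)
  rw [show orderOf (g * r * g⁻¹) = orderOf r from MulEquiv.orderOf_eq (MulAut.conj g) r, hord] at this
  norm_num at this

/-- The group of order `360` with ten Sylow `3`-subgroups is simple. -/
theorem isSimpleGroup_360 (hC : ∀ s ∈ (B.P : Subgroup G), s ≠ 1 →
      centralizer ({s} : Set G) ≤ (B.P : Subgroup G)) (hG : Nat.card G = 360)
    (h10 : Nat.card (Sylow 3 G) = 10) (u : G) (hua : u * B.a * u⁻¹ = B.b⁻¹)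
    (hub : u * B.b * u⁻¹ = B.a) : IsSimpleGroup G := by
  haveI : Fact (Nat.Prime 3) := ⟨Nat.prime_three⟩
  haveI : Fact (Nat.Prime 5) := ⟨Nat.prime_five⟩
  have : Nontrivial G := Finite.one_lt_card_iff_nontrivial.mp (by omega)
  obtain ⟨R⟩ : Nonempty (Sylow 5 G) := inferInstance
  have hR : Nat.card (R : Subgroup G) = 5 := by
    rw [R.card_eq_multiplicity, hG, show (360 : ℕ) = 5 * 72 from rfl,
      Nat.factorization_mul (by norm_num) (by norm_num), Finsupp.add_apply,
      Nat.Prime.factorization_self Nat.prime_five,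
      Nat.factorization_eq_zero_of_not_dvd (by norm_num : ¬ 5 ∣ 72)]
    norm_num
  have hNR : Nat.card (normalizer ((R : Subgroup G) : Set G)) = 10 := by
    have h1 := card_sylow_modEq_one 5 G
    have h2 := R.card_dvd_index
    have h3 : (R : Subgroup G).index = 72 := by
      have := (R : Subgroup G).index_mul_card
      rw [hR, hG] at this
      omega
    rw [h3] at h2
    have h4 := (normalizer ((R : Subgroup G) : Set G)).index_mul_card
    rw [← show Nat.card (Sylow 5 G) = (normalizer ((R : Subgroup G) : Set G)).index from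
      Sylow.card_eq_index_normalizer R, hG] at h4
    have hno := B.no_three_five hC _ hR
    have : Nat.card (Sylow 5 G) ≤ 72 := Nat.le_of_dvd (by norm_num) h2
    unfold Nat.ModEq at h1
    interval_cases h : Nat.card (Sylow 5 G) <;> omega
  have hN36 : Nat.card (normalizer ((B.P : Subgroup G) : Set G)) = 36 := by
    have h4 := (normalizer ((B.P : Subgroup G) : Set G)).index_mul_card
    rw [← show Nat.card (Sylow 3 G) = (normalizer ((B.P : Subgroup G) : Set G)).index from
      Sylow.card_eq_index_normalizer B.P, hG, h10] at h4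
    omega
  refine ⟨fun K hK => ?_⟩
  by_contra hne
  push Not at hne
  obtain ⟨hbot, htop⟩ := hne
  have hcardK := K.index_mul_card
  rw [hG] at hcardK
  have hKpos : 1 < Nat.card K := by
    rcases Nat.eq_or_lt_of_le (Nat.one_le_iff_ne_zero.mpr (Nat.card_pos (α := K)).ne') with h | h
    · exact absurd (Subgroup.eq_bot_of_card_eq K h.symm) hbot
    · exact h
  have hidx : K.index ≠ 1 := fun h => htop (index_eq_one.mp h)
  have h5 : 5 ∣ Nat.card K → (R : Subgroup G) ≤ K ∧ K.index ∣ 10 := by
    intro h
    have hR' : (R : Subgroup G) ≤ K := by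
      refine sylow_le_of_not_dvd_index K R ?_
      rintro ⟨m, hm⟩
      obtain ⟨l, hl⟩ := h
      rw [hm, hl, mul_mul_mul_comm] at hcardK
      omega
    exact ⟨hR', hNR ▸ index_dvd_card_normalizer K R hR'⟩
  by_cases hKP : ∃ s ∈ (B.P : Subgroup G), s ∈ K ∧ s ≠ 1
  · obtain ⟨s, hs, hsK, hs1⟩ := hKP
    have hPK : (B.P : Subgroup G) ≤ K := by
      obtain ⟨q, rfl⟩ := B.exists_φ hs
      have hq : q ≠ 0 := fun h => hs1 (by rw [h, B.φ_zero])
      have hrot : B.φ (q.2, -q.1) ∈ K := by
        have h := hK.conj_mem _ hsK u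
        have e : u * B.φ q * u⁻¹ = B.φ (q.2, -q.1) := by
          rw [show B.φ q = B.a ^ q.1.val * B.b ^ q.2.val from rfl,
            show u * (B.a ^ q.1.val * B.b ^ q.2.val) * u⁻¹ =
              (u * B.a ^ q.1.val * u⁻¹) * (u * B.b ^ q.2.val * u⁻¹) by group,
            ← conj_pow, ← conj_pow, hua, hub, ← B.φ_b_inv, ← B.φ_a]
          have hp : ∀ (k : ℕ) (w : ZMod 3 × ZMod 3), B.φ w ^ k = B.φ (k • w) := fun k w => by
            induction k with
            | zero => simp [B.φ_zero]
            | succ k ih => rw [pow_succ, ih, succ_nsmul, B.φ_add]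
          rw [hp, hp, ← B.φ_add]
          congr 1
          clear h hsK hs hs1
          revert hq q
          decide
        rwa [e] at h
      have hp : ∀ (k : ℕ) (w : ZMod 3 × ZMod 3), B.φ w ∈ K → B.φ (k • w) ∈ K := fun k w hw => by
        induction k with
        | zero => simp [B.φ_zero]
        | succ k ih => rw [succ_nsmul, B.φ_add]; exact mul_mem ih hw
      have key : ∀ q t : ZMod 3 × ZMod 3, q ≠ 0 →
          ∃ m n : Fin 3, (m : ℕ) • q + (n : ℕ) • (q.2, -q.1) = t := by decide
      intro y hy
      obtain ⟨t, rfl⟩ := B.exists_φ hy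
      obtain ⟨m, n, h⟩ := key q t hq
      rw [← h, B.φ_add]
      exact mul_mem (hp _ _ hsK) (hp _ _ hrot)
    have hd36 : K.index ∣ 36 := hN36 ▸ index_dvd_card_normalizer K B.P hPK
    have h5K : 5 ∣ Nat.card K := by
      have : (5 : ℕ) ∣ K.index * Nat.card K := by rw [hcardK]; norm_num
      rcases (Nat.prime_five.dvd_mul).mp this with h | h
      · exact absurd (h.trans hd36) (by norm_num)
      · exact h
    obtain ⟨hRK, hd10⟩ := h5 h5K
    have hi2 : K.index = 2 := by
      have : K.index ∣ Nat.gcd 36 10 := Nat.dvd_gcd hd36 hd10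
      rcases (Nat.dvd_prime Nat.prime_two).mp (by simpa using this) with h | h
      · exact absurd h hidx
      · exact h
    -- inside `K`
    let RK : Sylow 5 K := R.subtype hRK
    let PK : Sylow 3 K := B.P.subtype hPK
    have hmapR : (RK : Subgroup K).map K.subtype = R := by
      rw [Sylow.coe_subtype, subgroupOf_map_subtype, inf_of_le_left hRK]
    have hmapP : (PK : Subgroup K).map K.subtype = B.P := by
      rw [Sylow.coe_subtype, subgroupOf_map_subtype, inf_of_le_left hPK]
    have hcardRK : Nat.card (RK : Subgroup K) = 5 := by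
      exact (Subgroup.card_map_of_injective (f := K.subtype) K.subtype_injective).symm.trans
        ((congrArg (fun H : Subgroup G => Nat.card H) hmapR).trans hR)
    have hNKR : Nat.card (normalizer ((RK : Subgroup K) : Set K)) ∣ 5 := by
      have h1 : Nat.card (K ⊓ normalizer ((R : Subgroup G) : Set G) : Subgroup G) = 5 := by
        have h2 := Subgroup.relIndex_mul_relIndex ⊥ (K ⊓ normalizer ((R : Subgroup G) : Set G))
          (normalizer ((R : Subgroup G) : Set G)) bot_le inf_le_right
        rw [relIndex_bot_left, relIndex_bot_left, inf_relIndex_right, hNR] at h2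
        have h3 := Subgroup.relIndex_sup_right (normalizer ((R : Subgroup G) : Set G)) K
        rw [show normalizer ((R : Subgroup G) : Set G) ⊔ K = ⊤ from
          Sylow.normalizer_sup_eq_top' R hRK, relIndex_top_right, hi2] at h3
        rw [← h3] at h2
        omega
      rw [← Subgroup.card_map_of_injective (K := normalizer ((RK : Subgroup K) : Set K))
        (f := K.subtype) K.subtype_injective]
      refine (Subgroup.card_dvd_of_le (le_inf (map_subtype_le _) ?_)).trans (dvd_of_eq h1)
      refine le_trans (le_normalizer_map _) ?_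
      rw [hmapR]
    have hNeq : normalizer ((RK : Subgroup K) : Set K) = (RK : Subgroup K) :=
      (Subgroup.eq_of_le_of_card_ge le_normalizer
        (by rw [hcardRK]; exact Nat.le_of_dvd (by norm_num) hNKR)).symm
    have hP' : normalizer ((RK : Subgroup K) : Set K) ≤ centralizer ((RK : Subgroup K) : Set K) := by
      rw [hNeq]
      have : IsCyclic (RK : Subgroup K) := isCyclic_of_prime_card hcardRK
      intro x hx
      refine mem_centralizer_iff.mpr fun y hy => ?_
      exact congrArg Subtype.val
        (Std.Commutative.comm (op := fun a b : (RK : Subgroup K) => a * b) ⟨y, hy⟩ ⟨x, hx⟩)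
    set L := (MonoidHom.transferSylow RK hP').ker with hL
    have hLidx : L.index = 5 := by
      rw [← hcardRK]
      exact (MonoidHom.ker_transferSylow_isComplement' RK hP').symm.index_eq_card
    have hPL : (PK : Subgroup K) ≤ L := sylow_le_of_not_dvd_index L PK (by rw [hLidx]; norm_num)
    have hd := index_dvd_card_normalizer L PK hPL
    rw [hLidx] at hd
    have : (5 : ℕ) ∣ 36 := by
      refine hd.trans ?_
      rw [← Subgroup.card_map_of_injective (K := normalizer ((PK : Subgroup K) : Set K))
        (f := K.subtype) K.subtype_injective]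
      refine (Subgroup.card_dvd_of_le ((le_normalizer_map _).trans ?_)).trans (dvd_of_eq hN36)
      rw [hmapP]
    norm_num at this
  · push Not at hKP
    have hinf : K ⊓ (B.P : Subgroup G) = ⊥ :=
      eq_bot_iff.mpr fun y hy => mem_bot.mpr (hKP y hy.2 hy.1)
    have h9 : 9 ∣ K.index := by
      have h := relIndex_dvd_index_of_normal K (B.P : Subgroup G)
      rwa [← inf_relIndex_right, hinf, relIndex_bot_left, B.card] at h
    have h8 : Nat.card K ∣ 8 := by
      have h40 : Nat.card K ∣ 40 := by
        obtain ⟨m, hm⟩ := h9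
        exact ⟨m, by rw [hm] at hcardK; linarith⟩
      have hn5 : ¬ 5 ∣ Nat.card K := fun h => by
        have := (h9.trans (h5 h).2)
        norm_num at this
      exact (Nat.Coprime.dvd_of_dvd_mul_right
        (((Nat.prime_five.coprime_iff_not_dvd.mpr hn5)).symm) (by rw [show 8 * 5 = 40 from rfl]; exact h40))
    have : Nontrivial K := Finite.one_lt_card_iff_nontrivial.mp hKpos
    obtain ⟨⟨k, hk⟩, hk1⟩ := exists_ne (1 : K)
    have hk1' : k ≠ 1 := fun h => hk1 (Subtype.ext h)
    have hinj : Function.Injective fun p : (B.P : Subgroup G) =>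
        (⟨(p : G) * k * (p : G)⁻¹, hK.conj_mem k hk p⟩ : K) := by
      intro p q hpq
      have h := congrArg Subtype.val hpq
      simp only at h
      by_contra hne'
      have hs1 : (q : G)⁻¹ * p ≠ 1 := fun h => hne' (Subtype.ext (inv_mul_eq_one.mp h).symm)
      have hkP := hC _ (mul_mem (inv_mem q.2) p.2) hs1 (mem_centralizer_singleton_iff.mpr (by
        calc k * ((q : G)⁻¹ * p) = (q : G)⁻¹ * ((q : G) * k * (q : G)⁻¹) * p := by group
          _ = (q : G)⁻¹ * p * k := by rw [← h]; group))
      exact hk1' (hKP k hkP hk)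
    have h := Nat.card_le_card_of_injective _ hinj
    rw [B.card] at h
    have := Nat.le_of_dvd (by norm_num) h8
    omega

end Base

end Cfsg.Agent.BC87.Sym6
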