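import Cfsg.Agent.BC87.Sym6.Setup
import Cfsg.Agent.BC87.Sym6.DihTable
import Cfsg.Agent.BC87.Sym6.Cyc4
import Cfsg.Agent.BC87.Sym6.Simple360
import Cfsg.Agent.BC87.Sym6.PermSix

/-!
# Dihedral normalizer of a self-centralizing Sylow `3`-subgroup of order `9`
-/

set_option autoImplicit false
set_option linter.unusedSectionVars false
set_option linter.style.haveILetI false

namespace Cfsg.Agent.BC87.Sym6

universe u

open Subgroup

variable {G : Type u} [Group G] [Finite G]

theorem rot_fixed : ∀ q : ZMod 3 × ZMod 3, (q.2, -q.1) = q → q = 0 := by decide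

namespace Dih

variable (D : Dih G)

include D

/-- An element of a suitable subgroup centralizing a nontrivial element of `P` is in `P`. -/
theorem mem_P_of_fix (M : Subgroup G) [hM : M.Normal] (hPM : (D.P : Subgroup G) ≤ M)
    (hvM : D.v ∉ M) (hwM : D.w ∉ M) {g s : G} (hg : g ∈ M) (hs : s ∈ (D.P : Subgroup G))
    (hs1 : s ≠ 1) (hfix : g * s * g⁻¹ = s) : g ∈ (D.P : Subgroup G) := by
  have ka : ∀ {g : G}, g ∈ M → g * D.a * g⁻¹ = D.a → g ∈ (D.P : Subgroup G) := fun {g} hg h => by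
    rcases D.cases_of_fix_a h with h | ⟨p, hp, rfl⟩
    · exact h
    · exact absurd ((mul_mem_cancel_left (hPM hp)).mp hg) hvM
  have kb : ∀ {g : G}, g ∈ M → g * (D.a * D.b) * g⁻¹ = D.a * D.b → g ∈ (D.P : Subgroup G) :=
    fun {g} hg h => by
      rcases D.cases_of_fix_ab h with h | ⟨p, hp, rfl⟩
      · exact h
      · exact absurd ((mul_mem_cancel_left (hPM hp)).mp hg) hwM
  have move : ∀ {k g s t : G}, k * k = 1 → k ∈ normalizer ((D.P : Subgroup G) : Set G) →
      k * s * k = t → g * s * g⁻¹ = s → ((k * g * k) * t * (k * g * k)⁻¹ = t ∧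
      (k * g * k ∈ (D.P : Subgroup G) → g ∈ (D.P : Subgroup G))) := by
    intro k g s t hk hkN hst h
    have hki : k⁻¹ = k := inv_eq_of_mul_eq_one_right hk
    refine ⟨?_, fun hm => ?_⟩
    · rw [← hst]
      calc k * g * k * (k * s * k) * (k * g * k)⁻¹
          = k * g * (k * k) * s * (k * k⁻¹) * g⁻¹ * k⁻¹ := by group
        _ = k * (g * s * g⁻¹) * k := by rw [hk, mul_inv_cancel, hki]; group
        _ = k * s * k := by rw [h]
    · refine (mem_normalizer_iff.mp hkN g).mpr ?_
      rwa [hki]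
  have inv : ∀ {g s : G}, g * s⁻¹ * g⁻¹ = s⁻¹ → g * s * g⁻¹ = s := fun {g s} h => by
    have := congrArg (·⁻¹) h
    simpa [mul_inv_rev, mul_assoc] using this
  obtain ⟨u, rfl⟩ := D.exists_φ hs
  have hu : u = (1, 0) ∨ u = -(1, 0) ∨ u = (0, 1) ∨ u = -(0, 1) ∨ u = (1, 1) ∨ u = -(1, 1) ∨
      u = (1, 2) ∨ u = -(1, 2) := by
    have h0 : u ≠ 0 := fun h => hs1 (by rw [h, D.φ_zero])
    clear hfix hs hs1
    revert h0 u
    decide
  have gw : D.w * g * D.w ∈ M := by
    have := hM.conj_mem g hg D.w; rwa [D.w_inv] at this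
  have gv : D.v * g * D.v ∈ M := by
    have := hM.conj_mem g hg D.v; rwa [D.v_inv] at this
  have hb' : g * D.φ (0, 1) * g⁻¹ = D.φ (0, 1) → g ∈ (D.P : Subgroup G) := fun h => by
    obtain ⟨h1, h2⟩ := move (t := D.a) D.hw D.w_mem (by rw [D.φ_b]; exact D.hwb) h
    exact h2 (ka gw h1)
  have hd' : g * D.φ (1, 2) * g⁻¹ = D.φ (1, 2) → g ∈ (D.P : Subgroup G) := fun h => by
    obtain ⟨h1, h2⟩ := move (t := D.a * D.b) D.hv D.v_mem (by rw [D.conj_v, ← D.φ_ab]; rfl) h
    exact h2 (kb gv h1)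
  rcases hu with rfl | rfl | rfl | rfl | rfl | rfl | rfl | rfl
  · exact ka hg (by rwa [D.φ_a] at hfix)
  · exact ka hg (inv (by rwa [D.φ_neg, D.φ_a] at hfix))
  · exact hb' hfix
  · exact hb' (inv (by rwa [D.φ_neg] at hfix))
  · exact kb hg (by rwa [D.φ_ab] at hfix)
  · exact kb hg (inv (by rwa [D.φ_neg, D.φ_ab] at hfix))
  · exact hd' hfix
  · exact hd' (inv (by rwa [D.φ_neg] at hfix))

/-- The main theorem about a dihedral normalizer. -/
theorem normal_or_perm_six
    (hN : Nat.card (normalizer ((D.P : Subgroup G) : Set G)) = 72) :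
    (D.P : Subgroup G).Normal ∨ Nonempty (G ≃* Equiv.Perm (Fin 6)) := by
  classical
  haveI : Fact (Nat.Prime 3) := ⟨Nat.prime_three⟩
  obtain ⟨M, hMn, hM2, hPM, hvM, hwM⟩ := D.exists_index_two
  haveI := hMn
  have hv'M : D.w * D.v * D.w ∉ M := fun h => hvM (by
    have := hMn.conj_mem _ h D.w
    rwa [D.w_inv, show D.w * (D.w * D.v * D.w) * D.w = D.w * D.w * D.v * (D.w * D.w) by group,
      D.hw, one_mul, mul_one] at this)
  have hcM : D.c ∈ M := (Subgroup.mul_mem_iff_of_index_two hM2).mpr (iff_of_false hvM hv'M)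
  have huM : D.v * D.w ∈ M := (Subgroup.mul_mem_iff_of_index_two hM2).mpr (iff_of_false hvM hwM)
  have hwvM : D.w * D.v ∈ M := (Subgroup.mul_mem_iff_of_index_two hM2).mpr (iff_of_false hwM hvM)
  let PM : Sylow 3 M := D.P.subtype hPM
  have hPMcoe : (PM : Subgroup M) = (D.P : Subgroup G).subgroupOf M := Sylow.coe_subtype _ hPM
  have hnorm : ∀ g : M, g ∈ normalizer ((PM : Subgroup M) : Set M) ↔
      (g : G) ∈ normalizer ((D.P : Subgroup G) : Set G) := by
    intro g
    simp only [mem_normalizer_iff, hPMcoe, mem_subgroupOf, Subgroup.coe_mul, Subgroup.coe_inv,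
      SetLike.mem_coe]
    refine ⟨fun h x => ?_, fun h x => h x⟩
    by_cases hx : x ∈ M
    · exact h ⟨x, hx⟩
    · refine iff_of_false (fun h' => hx (hPM h')) (fun h' => hx ?_)
      have := hMn.conj_mem _ (hPM h') (g : G)⁻¹
      simpa [mul_assoc] using this
  have hconjM : ∀ (k : M) (s t : M), (k : G) * s * (k : G)⁻¹ = t → IsConj s t := fun k s t h =>
    isConj_iff.mpr ⟨k, Subtype.ext (by simpa using h)⟩
  let B : Base M :=
    { P := PM
      a := ⟨D.a, hPM D.ha⟩
      b := ⟨D.b, hPM D.hb⟩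
      ha := by rw [hPMcoe]; exact D.ha
      hb := by rw [hPMcoe]; exact D.hb
      ha3 := Subtype.ext D.ha3
      hb3 := Subtype.ext D.hb3
      card := by
        rw [hPMcoe, Nat.card_congr (subgroupOfEquivOfLe hPM).toEquiv, D.card]
      gen := fun s hs => by
        rw [hPMcoe] at hs
        obtain ⟨i, j, h⟩ := D.gen (s : G) hs
        exact ⟨i, j, Subtype.ext (by simpa using h)⟩
      cent := fun s hs hs1 g hg => (hnorm g).mpr (by
        rw [hPMcoe] at hs
        exact D.cent (s : G) hs (fun h => hs1 (Subtype.ext h)) (mem_centralizer_singleton_iff.mpr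
          (congrArg Subtype.val (mem_centralizer_singleton_iff.mp hg))))
      self_cent := fun g hg => by
        rw [hPMcoe]
        refine D.self_cent (mem_centralizer_iff.mpr fun s hs => ?_)
        exact congrArg Subtype.val
          (mem_centralizer_iff.mp hg ⟨s, hPM hs⟩ (by rw [hPMcoe]; exact hs))
      mono := fun g hg t ht => by
        have h := D.mono (g : G) ((hnorm g).mp hg) (t : G) (by
          rcases ht with rfl | rfl | rfl | rfl <;> simp)
        simp only [Set.mem_insert_iff, Set.mem_singleton_iff] at h ⊢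
        simp only [Subtype.ext_iff, Subgroup.coe_mul, Subgroup.coe_inv]
        exact h
      conj_a_inv := hconjM ⟨D.c, hcM⟩ _ _ (by
        show D.c * D.a * D.c⁻¹ = D.a⁻¹
        rw [inv_eq_of_mul_eq_one_right D.c_sq, ← D.φ_a, D.conj_c, D.φ_neg])
      conj_a_b := hconjM ⟨D.w * D.v, hwvM⟩ _ _ (by
        show D.w * D.v * D.a * (D.w * D.v)⁻¹ = D.b
        rw [mul_inv_rev, D.v_inv, D.w_inv,
          show D.w * D.v * D.a * (D.v * D.w) = D.w * (D.v * D.a * D.v) * D.w by group, D.hva, D.hwa])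
      conj_ab := hconjM (⟨D.c, hcM⟩ * ⟨D.w * D.v, hwvM⟩) _ _ (by
        show D.c * (D.w * D.v) * (D.a * D.b) * (D.c * (D.w * D.v))⁻¹ = D.a * D.b⁻¹
        rw [mul_inv_rev, mul_inv_rev, inv_eq_of_mul_eq_one_right D.c_sq, D.v_inv, D.w_inv,
          show D.c * (D.w * D.v) * (D.a * D.b) * (D.v * D.w * D.c) =
            D.c * (D.w * (D.v * (D.a * D.b) * D.v) * D.w) * D.c by group,
          ← D.φ_ab, D.conj_v, D.conj_w, D.conj_c, ← D.φ_a, ← D.φ_b, ← D.φ_neg, ← D.φ_add]
        congr 1)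
      conj_ab_inv := hconjM ⟨D.c, hcM⟩ _ _ (by
        show D.c * (D.a * D.b) * D.c⁻¹ = (D.a * D.b)⁻¹
        rw [inv_eq_of_mul_eq_one_right D.c_sq, ← D.φ_ab, D.conj_c, D.φ_neg]) }
  have hC : ∀ s ∈ (B.P : Subgroup M), s ≠ 1 →
      centralizer ({s} : Set M) ≤ (B.P : Subgroup M) := by
    intro s hs hs1 g hg
    have hs' : (s : G) ∈ (D.P : Subgroup G) := by
      have h := hs
      rwa [show (B.P : Subgroup M) = (D.P : Subgroup G).subgroupOf M from hPMcoe, mem_subgroupOf] at h
    rw [show (B.P : Subgroup M) = (D.P : Subgroup G).subgroupOf M from hPMcoe, mem_subgroupOf]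
    refine D.mem_P_of_fix M hPM hvM hwM g.2 hs' (fun h => hs1 (Subtype.ext h)) ?_
    have hgs : (g : G) * (s : G) = (s : G) * (g : G) :=
      congrArg Subtype.val (mem_centralizer_singleton_iff.mp hg)
    rw [hgs]; group
  have hNM : Nat.card (normalizer ((B.P : Subgroup M) : Set M)) = 36 := by
    have heq : normalizer ((B.P : Subgroup M) : Set M) =
        (normalizer ((D.P : Subgroup G) : Set G)).subgroupOf M := by
      ext g; rw [mem_subgroupOf]; exact hnorm g
    rw [heq, ← inf_subgroupOf_right, Nat.card_congr (subgroupOfEquivOfLe inf_le_right).toEquiv]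
    have h2 := Subgroup.relIndex_mul_relIndex ⊥ (normalizer ((D.P : Subgroup G) : Set G) ⊓ M)
      (normalizer ((D.P : Subgroup G) : Set G)) bot_le inf_le_left
    rw [relIndex_bot_left, relIndex_bot_left, inf_relIndex_left, hN] at h2
    have h3 := Subgroup.relIndex_sup_right (normalizer ((D.P : Subgroup G) : Set G)) M
    rw [D.sup_normalizer M hPM, relIndex_top_right, hM2] at h3
    rw [← h3] at h2
    omega
  rcases B.cyc4 hC hNM with hnormal | ⟨hM360, hM10⟩
  · left
    have htop : normalizer ((D.P : Subgroup G) : Set G) = ⊤ := by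
      refine top_le_iff.mp ((D.sup_normalizer M hPM).ge.trans (sup_le le_rfl fun g hg => ?_))
      refine (hnorm ⟨g, hg⟩).mp ?_
      rw [show normalizer (((PM : Subgroup M)) : Set M) = ⊤ from
        normalizer_eq_top_iff.mpr hnormal]
      exact mem_top _
    exact normalizer_eq_top_iff.mp htop
  · right
    have hua : (⟨D.v * D.w, huM⟩ : M) * B.a * (⟨D.v * D.w, huM⟩ : M)⁻¹ = B.b⁻¹ := by
      refine Subtype.ext ?_
      show D.v * D.w * D.a * (D.v * D.w)⁻¹ = D.b⁻¹
      rw [mul_inv_rev, D.v_inv, D.w_inv,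
        show D.v * D.w * D.a * (D.w * D.v) = D.v * (D.w * D.a * D.w) * D.v by group, D.hwa, D.hvb]
    have hub : (⟨D.v * D.w, huM⟩ : M) * B.b * (⟨D.v * D.w, huM⟩ : M)⁻¹ = B.a := by
      refine Subtype.ext ?_
      show D.v * D.w * D.b * (D.v * D.w)⁻¹ = D.a
      rw [mul_inv_rev, D.v_inv, D.w_inv,
        show D.v * D.w * D.b * (D.w * D.v) = D.v * (D.w * D.b * D.w) * D.v by group, D.hwb, D.hva]
    have hsimp := B.isSimpleGroup_360 hC hM360 hM10 _ hua hub
    refine equiv_perm_six_of M hM2 hsimp hM360 (t := D.v) (h := D.a) D.hv hvM (hPM D.ha)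
      D.orderOf_a D.comm_a_v.eq.symm fun g hg => ?_
    have hgP : g ∈ (D.P : Subgroup G) :=
      D.self_cent (mem_centralizer_iff.mpr fun s hs => (hg s (hPM hs)).symm)
    obtain ⟨q, rfl⟩ := D.exists_φ hgP
    have e : D.v * (D.w * D.φ q * D.w) * D.v = D.φ q := by
      calc D.v * (D.w * D.φ q * D.w) * D.v = D.v * D.w * D.φ q * (D.w * D.v) := by group
        _ = D.φ q * (D.v * D.w) * (D.w * D.v) := by rw [← hg _ huM]
        _ = D.φ q * (D.v * (D.w * D.w) * D.v) := by group
        _ = D.φ q := by rw [D.hw, mul_one, D.hv, mul_one]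
    rw [D.conj_w, D.conj_v] at e
    have e' := D.φ_injective e
    rw [rot_fixed q e', D.φ_zero]

end Dih

end Cfsg.Agent.BC87.Sym6
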