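import Mathlib.Algebra.BigOperators.Group.List.Basic
import Mathlib.Algebra.Order.Group.Abs
import Mathlib.Data.List.Perm.Basic
import Mathlib.Tactic.Linarith
import Mathlib.Tactic.NormNum

/-!
# A verified search for decompositions of a Gram matrix into sign vectors
-/

set_option autoImplicit false

namespace Cfsg.Agent.BC87.Sym6

/-- A vector with four entries. -/
abbrev Vec := ℤ × ℤ × ℤ × ℤ

/-- A symmetric `4 × 4` matrix. -/
structure Gram where
  aa : ℤ
  bb : ℤ
  pp : ℤ
  qq : ℤ
  ab : ℤ
  ap : ℤ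
  aq : ℤ
  bp : ℤ
  bq : ℤ
  pq : ℤ
  deriving DecidableEq

/-- Subtract the contribution of one vector. -/
def Gram.sub : Gram → Vec → Gram
  | ⟨aa, bb, pp, qq, ab, ap, aq, bp, bq, pq⟩, (a, b, p, q) =>
    ⟨aa - a * a, bb - b * b, pp - p * p, qq - q * q, ab - a * b, ap - a * p, aq - a * q,
      bp - b * p, bq - b * q, pq - p * q⟩

/-- `|x| ≤ y`. -/
def absLe (x y : ℤ) : Bool := decide (x ≤ y) && decide (-x ≤ y)

theorem absLe_iff (x y : ℤ) : absLe x y = true ↔ x ≤ y ∧ -x ≤ y := by
  unfold absLe
  rw [Bool.and_eq_true]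
  exact and_congr ⟨of_decide_eq_true, decide_eq_true⟩ ⟨of_decide_eq_true, decide_eq_true⟩

/-- Necessary conditions for being a sum of contributions of sign vectors. -/
def Gram.feasible : Gram → Bool
  | ⟨aa, bb, pp, qq, ab, ap, aq, bp, bq, pq⟩ =>
    absLe ab aa && absLe ab bb && absLe ap aa && absLe ap pp && absLe aq aa && absLe aq qq &&
      absLe bp bb && absLe bp pp && absLe bq bb && absLe bq qq && absLe pq pp && absLe pq qq

/-- The four diagonal entries vanish. -/
def Gram.done : Gram → Bool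
  | ⟨aa, bb, pp, qq, _, _, _, _, _, _⟩ =>
    decide (aa = 0) && decide (bb = 0) && decide (pp = 0) && decide (qq = 0)

/-- Take between `0` and `k` copies of `v`, checking `f` on what remains. -/
def takeUpTo (f : Gram → List Vec → Bool) (v : Vec) : ℕ → Gram → List Vec → Bool
  | 0, R, acc => f R acc
  | k + 1, R, acc => f R acc && (!(R.sub v).feasible || takeUpTo f v k (R.sub v) (v :: acc))

/-- Every decomposition along `vs` ends in `ok`. -/
def search (ok : List Vec → Bool) : List Vec → Gram → List Vec → Bool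
  | [], R, acc => !R.done || ok acc
  | v :: vs, R, acc =>
    if R.done then ok acc else takeUpTo (fun R' acc' => search ok vs R' acc') v 14 R acc

/-- The vectors with first nonzero entry positive, those of large support first. -/
def vecs : List Vec :=
  [(1,1,1,1), (1,1,1,-1), (1,1,-1,1), (1,1,-1,-1), (1,-1,1,1), (1,-1,1,-1), (1,-1,-1,1),
   (1,-1,-1,-1), (1,1,1,0), (1,1,-1,0), (1,-1,1,0), (1,-1,-1,0), (1,1,0,1), (1,1,0,-1),
   (1,-1,0,1), (1,-1,0,-1), (1,1,0,0), (1,-1,0,0), (1,0,1,1), (1,0,1,-1), (1,0,-1,1), (1,0,-1,-1),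
   (1,0,1,0), (1,0,-1,0), (1,0,0,1), (1,0,0,-1), (1,0,0,0), (0,1,1,1), (0,1,1,-1), (0,1,-1,1),
   (0,1,-1,-1), (0,1,1,0), (0,1,-1,0), (0,1,0,1), (0,1,0,-1), (0,1,0,0), (0,0,1,1), (0,0,1,-1),
   (0,0,1,0), (0,0,0,1)]

/-- The six decompositions. -/
def sols : List (List Vec) :=
  [[(1,0,1,1), (1,1,0,1), (0,1,0,1), (0,1,1,0), (0,1,1,0), (0,0,0,1), (1,0,0,0)],
   [(0,1,1,1), (1,1,1,0), (0,1,0,1), (1,0,0,1), (1,0,0,1), (0,0,1,0), (0,1,0,0)],
   [(0,1,1,1), (1,1,0,1), (0,1,1,0), (1,0,0,1), (1,0,1,0), (0,0,0,1), (0,1,0,0)],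
   [(1,1,1,1), (0,1,0,1), (0,1,1,0), (1,0,0,1), (0,0,0,1), (0,0,1,0), (0,1,0,0), (1,0,0,0)],
   [(1,1,1,1), (1,1,0,1), (0,1,1,0), (1,-1,0,0), (0,0,0,1), (0,0,0,1), (0,0,1,0)],
   [(1,1,1,1), (0,1,1,1), (0,0,1,-1), (1,0,0,1), (0,1,0,0), (0,1,0,0), (1,0,0,0)]]

theorem search_target :
    search (fun l => sols.any fun s => l.isPerm s) vecs ⟨3, 4, 3, 4, 1, 1, 2, 2, 2, 1⟩ [] = true := by
  decide +kernel

theorem sub_comm (R : Gram) (u v : Vec) : (R.sub u).sub v = (R.sub v).sub u := by
  obtain ⟨a, b, p, q⟩ := u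
  obtain ⟨a', b', p', q'⟩ := v
  simp only [Gram.sub, Gram.mk.injEq]
  omega

instance : RightCommutative Gram.sub := ⟨sub_comm⟩

/-- A vector of signs, not all zero. -/
def Small : Vec → Prop
  | (a, b, p, q) => (-1 ≤ a ∧ a ≤ 1) ∧ (-1 ≤ b ∧ b ≤ 1) ∧ (-1 ≤ p ∧ p ≤ 1) ∧ (-1 ≤ q ∧ q ≤ 1) ∧
      1 ≤ a * a + b * b + p * p + q * q

/-- The trace. -/
def Gram.trace (R : Gram) : ℤ := R.aa + R.bb + R.pp + R.qq

theorem abs_mul_le {a b : ℤ} (hb : -1 ≤ b ∧ b ≤ 1) : a * b ≤ a * a ∧ -(a * b) ≤ a * a := by
  obtain ⟨h1, h2⟩ := hb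
  obtain rfl | rfl | rfl : b = -1 ∨ b = 0 ∨ b = 1 := by omega
  all_goals constructor <;> rcases le_or_gt a 0 with h | h <;> nlinarith

theorem feasible_of_sub {R : Gram} {v : Vec} (hv : Small v) (h : (R.sub v).feasible = true) :
    R.feasible = true := by
  obtain ⟨a, b, p, q⟩ := v
  obtain ⟨aa, bb, pp, qq, ab, ap, aq, bp, bq, pq⟩ := R
  obtain ⟨ha, hb, hp, hq, -⟩ := hv
  simp only [Gram.sub, Gram.feasible, Bool.and_eq_true, absLe_iff] at h ⊢
  have := abs_mul_le (a := a) hb; have := abs_mul_le (a := a) hp; have := abs_mul_le (a := a) hq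
  have := abs_mul_le (a := b) hp; have := abs_mul_le (a := b) hq; have := abs_mul_le (a := p) hq
  have := abs_mul_le (a := b) ha; have := abs_mul_le (a := p) ha; have := abs_mul_le (a := q) ha
  have := abs_mul_le (a := p) hb; have := abs_mul_le (a := q) hb; have := abs_mul_le (a := q) hp
  simp only [mul_comm b a, mul_comm p a, mul_comm q a, mul_comm p b, mul_comm q b, mul_comm q p] at *
  omega

theorem feasible_of_foldl : ∀ (l : List Vec) (R : Gram), (∀ v ∈ l, Small v) →
    (l.foldl Gram.sub R).feasible = true → R.feasible = true := by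
  intro l
  induction l with
  | nil => intro R _ h; exact h
  | cons v l ih =>
    intro R hl h
    exact feasible_of_sub (hl v (by simp)) (ih _ (fun u hu => hl u (by simp [hu])) h)

theorem trace_foldl : ∀ (l : List Vec) (R : Gram), (∀ v ∈ l, Small v) →
    (l.foldl Gram.sub R).trace + l.length ≤ R.trace := by
  intro l
  induction l with
  | nil => intro R _; simp
  | cons v l ih =>
    intro R hl
    have h := ih (R.sub v) (fun u hu => hl u (by simp [hu]))
    have hv := hl v (by simp)
    obtain ⟨a, b, p, q⟩ := v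
    obtain ⟨-, -, -, -, hpos⟩ := hv
    simp only [List.foldl_cons, List.length_cons] at h ⊢
    push_cast
    simp only [Gram.trace, Gram.sub] at h ⊢
    omega

theorem takeUpTo_sound (f : Gram → List Vec → Bool) (v : Vec) : ∀ (k : ℕ) (R : Gram)
    (acc : List Vec), takeUpTo f v k R acc = true → ∀ m ≤ k,
    (∀ j, 0 < j → j ≤ m → ((List.replicate j v).foldl Gram.sub R).feasible = true) →
    f ((List.replicate m v).foldl Gram.sub R) (List.replicate m v ++ acc) = true := by
  intro k
  induction k with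
  | zero => intro R acc h m hm _; obtain rfl := Nat.le_zero.mp hm; exact h
  | succ k ih =>
    intro R acc h m hm hf
    simp only [takeUpTo, Bool.and_eq_true, Bool.or_eq_true] at h
    match m with
    | 0 => exact h.1
    | m + 1 =>
      rcases h.2 with h' | h'
      · have h1 := hf 1 Nat.one_pos (Nat.le_add_left 1 m)
        simp only [List.replicate_one, List.foldl_cons, List.foldl_nil] at h1
        rw [h1] at h'; simp at h'
      · have h2 := ih (R.sub v) (v :: acc) h' m (Nat.le_of_succ_le_succ hm) fun j hj hjm => by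
          have h3 := hf (j + 1) (Nat.succ_pos j) (Nat.succ_le_succ hjm)
          rwa [List.replicate_succ, List.foldl_cons] at h3
        rw [List.replicate_succ, List.foldl_cons]
        refine Eq.trans ?_ h2
        congr 1
        rw [← List.replicate_succ, List.replicate_succ', List.append_assoc, List.singleton_append]

theorem search_sound (ok : List Vec → Bool) (hok : ∀ l₁ l₂ : List Vec, l₁.Perm l₂ → ok l₁ = ok l₂) :
    ∀ (vs : List Vec) (R : Gram) (acc : List Vec), search ok vs R acc = true → R.trace ≤ 14 →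
    ∀ l : List Vec, (∀ v ∈ l, v ∈ vs) → (∀ v ∈ l, Small v) →
    l.foldl Gram.sub R = ⟨0, 0, 0, 0, 0, 0, 0, 0, 0, 0⟩ → ok (l ++ acc) = true := by
  intro vs
  induction vs with
  | nil =>
    intro R acc h _ l hl _ h0
    obtain rfl : l = [] := List.eq_nil_iff_forall_not_mem.mpr fun v hv => by simpa using hl v hv
    simp only [List.foldl_nil] at h0
    subst h0
    simpa [search, Gram.done] using h
  | cons v vs ih =>
    intro R acc h hR l hl hs h0
    have ht := trace_foldl l R hs
    rw [h0] at ht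
    simp only [search] at h
    split at h
    · next hd =>
      obtain rfl : l = [] := by
        obtain ⟨aa, bb, pp, qq, ab, ap, aq, bp, bq, pq⟩ := R
        simp only [Gram.done, Bool.and_eq_true, decide_eq_true_iff] at hd
        simp only [Gram.trace] at ht
        exact List.length_eq_zero_iff.mp (by omega)
      simpa using h
    · set rest := l.filter (fun u => !decide (u = v)) with hrest
      set m := (l.filter (fun u => decide (u = v))).length with hm
      have hrep : l.filter (fun u => decide (u = v)) = List.replicate m v :=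
        List.eq_replicate_iff.mpr ⟨rfl, fun u hu => by simpa using (List.mem_filter.mp hu).2⟩
      have hperm : (List.replicate m v ++ rest).Perm l := by
        rw [← hrep]; exact List.filter_append_perm _ l
      have h1 : rest.foldl Gram.sub ((List.replicate m v).foldl Gram.sub R) =
          ⟨0, 0, 0, 0, 0, 0, 0, 0, 0, 0⟩ := by
        rw [← List.foldl_append, hperm.foldl_eq, h0]
      have hlen : m ≤ 14 := by
        have := hperm.length_eq
        simp only [List.length_append, List.length_replicate] at this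
        simp only [Gram.trace] at ht hR
        omega
      have hsr : ∀ u ∈ rest, Small u := fun u hu => hs u (List.mem_filter.mp hu).1
      have h2 := takeUpTo_sound _ v 14 R acc h m hlen fun j hj hjm => by
        refine feasible_of_foldl (List.replicate (m - j) v ++ rest) _ (fun u hu => ?_) ?_
        · rcases List.mem_append.mp hu with hu | hu
          · obtain rfl := (List.mem_replicate.mp hu).2
            exact hs u (hperm.subset (List.mem_append_left _
              (List.mem_replicate.mpr ⟨by omega, rfl⟩)))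
          · exact hsr u hu
        · rw [List.foldl_append, ← List.foldl_append (l := List.replicate j v), ← List.replicate_add,
            show j + (m - j) = m by omega, h1]
          rfl
      have htr : ((List.replicate m v).foldl Gram.sub R).trace ≤ 14 := by
        have := trace_foldl (List.replicate m v) R fun u hu => hs u
          (hperm.subset (List.mem_append_left _ hu))
        omega
      have h3 := ih _ _ h2 htr rest (fun u hu => ?_) hsr h1
      · rw [← h3]
        refine hok _ _ ?_
        rw [← List.append_assoc]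
        exact List.Perm.append_right acc (hperm.symm.trans List.perm_append_comm)
      · obtain ⟨hu1, hu2⟩ := List.mem_filter.mp hu
        rcases List.mem_cons.mp (hl u hu1) with h' | h'
        · simp [h'] at hu2
        · exact h'

theorem small_iff (v : Vec) : Small v ↔ v ∈ vecs ∨ (-v.1, -v.2.1, -v.2.2.1, -v.2.2.2) ∈ vecs := by
  obtain ⟨a, b, p, q⟩ := v
  constructor
  · rintro ⟨ha, hb, hp, hq, h⟩
    obtain rfl | rfl | rfl : a = -1 ∨ a = 0 ∨ a = 1 := by omega
    all_goals obtain rfl | rfl | rfl : b = -1 ∨ b = 0 ∨ b = 1 := by omega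
    all_goals obtain rfl | rfl | rfl : p = -1 ∨ p = 0 ∨ p = 1 := by omega
    all_goals obtain rfl | rfl | rfl : q = -1 ∨ q = 0 ∨ q = 1 := by omega
    all_goals first | omega | decide
  · intro h
    have key : ∀ u ∈ vecs, (let (a, b, p, q) := u
        (-1 ≤ a ∧ a ≤ 1) ∧ (-1 ≤ b ∧ b ≤ 1) ∧ (-1 ≤ p ∧ p ≤ 1) ∧ (-1 ≤ q ∧ q ≤ 1) ∧
          1 ≤ a * a + b * b + p * p + q * q) := by
      decide +kernel
    have key' : ∀ u ∈ vecs, Small u ∧ Small (-u.1, -u.2.1, -u.2.2.1, -u.2.2.2) := by
      rintro ⟨x, y, z, w⟩ hu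
      have h := key _ hu
      simp only at h
      refine ⟨h, ?_⟩
      simp only [Small, neg_mul_neg]
      omega
    rcases h with h | h
    · exact (key' _ h).1
    · simpa using (key' _ h).2

/-- Classification of the decompositions of the target matrix. -/
theorem perm_sols (l : List Vec) (hl : ∀ v ∈ l, v ∈ vecs)
    (h : l.foldl Gram.sub ⟨3, 4, 3, 4, 1, 1, 2, 2, 2, 1⟩ = ⟨0, 0, 0, 0, 0, 0, 0, 0, 0, 0⟩) :
    ∃ s ∈ sols, l.Perm s := by
  have h1 := search_sound _ (fun l₁ l₂ h12 => by
    rw [Bool.eq_iff_iff]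
    simp only [List.any_eq_true, List.isPerm_iff]
    exact ⟨fun ⟨s, hs, hp⟩ => ⟨s, hs, h12.symm.trans hp⟩, fun ⟨s, hs, hp⟩ => ⟨s, hs, h12.trans hp⟩⟩)
    vecs _ [] search_target (by decide) l hl (fun v hv => (small_iff v).mpr (Or.inl (hl v hv))) h
  simpa [List.any_eq_true, List.isPerm_iff] using h1

end Cfsg.Agent.BC87.Sym6
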