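import Cfsg.Agent.BC87.Sym6.Dih
import Mathlib.GroupTheory.SpecificGroups.Dihedral

/-!
# From a dihedral quotient of order eight to generators
-/

set_option autoImplicit false
set_option linter.unusedSectionVars false
set_option linter.style.haveILetI false

namespace Cfsg.Agent.BC87.Sym6

universe u

open Subgroup DihedralGroup

variable {G : Type u} [Group G] [Finite G]

/-- The linear map with columns `α`, `β`. -/
abbrev lin (α β u : ZMod 3 × ZMod 3) : ZMod 3 × ZMod 3 := u.1.val • α + u.2.val • β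

/-- The reflection fixing the first axis. -/
abbrev refl₂ (u : ZMod 3 × ZMod 3) : ZMod 3 × ZMod 3 := (u.1, -u.2)

set_option synthInstance.maxSize 2000 in
/-- Matrices of two noncommuting involutions whose conjugate commutes. -/
theorem matrix_cases : ∀ α β : ZMod 3 × ZMod 3,
    lin α β (lin α β (1, 0)) = (1, 0) → lin α β (lin α β (0, 1)) = (0, 1) →
    (α.2 ≠ 0 ∨ β.1 ≠ 0) →
    refl₂ (lin α β (refl₂ (lin α β (1, 0)))) = lin α β (refl₂ (lin α β (refl₂ (1, 0)))) →
    refl₂ (lin α β (refl₂ (lin α β (0, 1)))) = lin α β (refl₂ (lin α β (refl₂ (0, 1)))) →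
    α.1 = 0 ∧ β.2 = 0 := by decide +kernel

/-- A complement to the Sylow subgroup in its normalizer. -/
theorem exists_complement (S : Subgroup G) (hcard : Nat.card S = 9)
    (eN : normalizer (S : Set G) ⧸ S.subgroupOf (normalizer (S : Set G)) ≃* DihedralGroup 4) :
    Nat.card (normalizer (S : Set G)) = 72 ∧
      ∃ E : DihedralGroup 4 →* G, (∀ d, E d ∈ normalizer (S : Set G)) ∧
        (∀ d, E d ∈ S → d = 1) ∧
        ∀ g ∈ normalizer (S : Set G), ∃ d, g * (E d)⁻¹ ∈ S := by
  classical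
  haveI : Fact (Nat.Prime 2) := ⟨Nat.prime_two⟩
  set N := normalizer (S : Set G) with hN
  set K := S.subgroupOf N with hK
  have hidx : K.index = 8 := by
    rw [Subgroup.index, Nat.card_congr eN.toEquiv, DihedralGroup.nat_card]
  have hKc : Nat.card K = 9 := by
    rw [hK, Nat.card_congr (subgroupOfEquivOfLe le_normalizer).toEquiv, hcard]
  have hN72 : Nat.card N = 72 := by rw [← K.index_mul_card, hidx, hKc]
  obtain ⟨H⟩ : Nonempty (Sylow 2 N) := inferInstance
  have hH : Nat.card (H : Subgroup N) = 8 := by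
    rw [H.card_eq_multiplicity, hN72, show (72 : ℕ) = 2 ^ 3 * 9 from rfl,
      Nat.factorization_mul (by norm_num) (by norm_num), Finsupp.add_apply,
      Nat.Prime.factorization_pow Nat.prime_two, Finsupp.single_eq_same,
      Nat.factorization_eq_zero_of_not_dvd (by norm_num : ¬ 2 ∣ 9)]
    norm_num
  let q : (H : Subgroup N) →* N ⧸ K := (QuotientGroup.mk' K).comp (H : Subgroup N).subtype
  have hqinj : Function.Injective q := by
    rw [← MonoidHom.ker_eq_bot_iff, eq_bot_iff]
    intro x hx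
    have hxK : (x : N) ∈ K := (QuotientGroup.eq_one_iff (x : N)).mp (MonoidHom.mem_ker.mp hx)
    have h8 : orderOf (x : N) ∣ 8 := hH ▸ Subgroup.orderOf_dvd_natCard _ x.2
    have h9 : orderOf (x : N) ∣ 9 := hKc ▸ Subgroup.orderOf_dvd_natCard _ hxK
    have : orderOf (x : N) = 1 := Nat.dvd_one.mp ((by norm_num : Nat.gcd 8 9 = 1) ▸ Nat.dvd_gcd h8 h9)
    exact mem_bot.mpr (Subtype.ext (orderOf_eq_one_iff.mp this))
  have hqbij : Function.Bijective q := by
    refine (Nat.bijective_iff_injective_and_card q).mpr ⟨hqinj, ?_⟩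
    rw [hH]; exact hidx.symm
  let qe := MulEquiv.ofBijective q hqbij
  let E : DihedralGroup 4 →* G :=
    (N.subtype.comp (H : Subgroup N).subtype).comp (qe.symm.toMonoidHom.comp eN.symm.toMonoidHom)
  refine ⟨hN72, E, fun d => (((qe.symm (eN.symm d) : (H : Subgroup N)) : N)).2, fun d hd => ?_,
    fun g hg => ?_⟩
  · have h1 : q (qe.symm (eN.symm d)) = eN.symm d := qe.apply_symm_apply _
    have h2 : q (qe.symm (eN.symm d)) = 1 :=
      (QuotientGroup.eq_one_iff ((qe.symm (eN.symm d) : (H : Subgroup N)) : N)).mpr hd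
    exact eN.symm.map_eq_one_iff.mp (h1.symm.trans h2)
  · refine ⟨eN (QuotientGroup.mk ⟨g, hg⟩), ?_⟩
    set x : (H : Subgroup N) := qe.symm (eN.symm (eN (QuotientGroup.mk ⟨g, hg⟩))) with hx
    have h1 : q x = QuotientGroup.mk ⟨g, hg⟩ := by
      rw [hx, eN.symm_apply_apply]; exact qe.apply_symm_apply _
    have h2 : (QuotientGroup.mk ((⟨g, hg⟩ : N) * (x : N)⁻¹) : N ⧸ K) = 1 := by
      rw [QuotientGroup.mk_mul, QuotientGroup.mk_inv]
      show _ * (q x)⁻¹ = 1
      rw [h1, mul_inv_cancel]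
    exact (QuotientGroup.eq_one_iff ((⟨g, hg⟩ : N) * (x : N)⁻¹)).mp h2

/-- The configuration of `S3333` gives a dihedral action. -/
theorem exists_dih (P : Sylow 3 G) (S : Subgroup G) (hSP : S = (P : Subgroup G))
    (hcard : Nat.card S = 9) (hC : centralizer (S : Set G) = S)
    (eN : normalizer (S : Set G) ⧸ S.subgroupOf (normalizer (S : Set G)) ≃* DihedralGroup 4)
    (hcent : ∀ x ∈ S, x ≠ 1 → centralizer ({x} : Set G) ≤ normalizer (S : Set G)) :
    ∃ D : Dih G, (D.P : Subgroup G) = S ∧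
      Nat.card (normalizer (S : Set G)) = 72 := by
  classical
  haveI : Fact (Nat.Prime 3) := ⟨Nat.prime_three⟩
  obtain ⟨hN72, E, hEN, hE1, hEg⟩ := exists_complement S hcard eN
  have hcomm : ∀ s ∈ S, ∀ t ∈ S, s * t = t * s := fun s hs t ht =>
    (mem_centralizer_iff.mp (hC.ge ht)) s hs
  have hfaith : ∀ d, (∀ s ∈ S, E d * s = s * E d) → d = 1 := fun d hd =>
    hE1 d (hC.le (mem_centralizer_iff.mpr fun s hs => (hd s hs).symm))
  have hconjS : ∀ d, ∀ s ∈ S, E d * s * (E d)⁻¹ ∈ S := fun d s hs =>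
    (mem_normalizer_iff.mp (hEN d) s).mp hs
  set v := E (sr 0) with hv_def
  set w := E (sr 1) with hw_def
  have hv : v * v = 1 := by
    rw [hv_def, ← map_mul, show (sr 0 : DihedralGroup 4) * sr 0 = 1 by decide, map_one]
  have hw : w * w = 1 := by
    rw [hw_def, ← map_mul, show (sr 1 : DihedralGroup 4) * sr 1 = 1 by decide, map_one]
  have hvi : v⁻¹ = v := inv_eq_of_mul_eq_one_right hv
  have hwi : w⁻¹ = w := inv_eq_of_mul_eq_one_right hw
  have hvS : ∀ s ∈ S, v * s * v ∈ S := fun s hs => by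
    have := hconjS (sr 0) s hs; rwa [← hv_def, hvi] at this
  have hwS : ∀ s ∈ S, w * s * w ∈ S := fun s hs => by
    have := hconjS (sr 1) s hs; rwa [← hw_def, hwi] at this
  have hvv : ∀ x, v * (v * x * v) * v = x := fun x => by
    calc v * (v * x * v) * v = v * v * x * (v * v) := by group
      _ = x := by rw [hv]; group
  have h3 : ∀ s ∈ S, orderOf s ∣ 9 := fun s hs => hcard ▸ Subgroup.orderOf_dvd_natCard _ hs
  -- a fixed and an inverted element
  obtain ⟨a, haS, ha1, hva⟩ : ∃ a ∈ S, a ≠ 1 ∧ v * a * v = a := by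
    by_contra hno
    push Not at hno
    have hinv : ∀ s ∈ S, v * s * v = s⁻¹ := fun s hs => by
      rw [eq_inv_iff_mul_eq_one]
      by_contra h
      refine hno _ (mul_mem (hvS s hs) hs) h ?_
      calc v * (v * s * v * s) * v = v * (v * s * v) * v * (v * s * v) := by
            simp only [mul_assoc]
            simp only [← mul_assoc v v, hv, one_mul]
        _ = v * s * v * s := by rw [hvv, hcomm _ hs _ (hvS s hs)]
    have key : ∀ d, sr 0 * d * sr 0 * d⁻¹ = 1 := fun d => by
      refine hfaith _ fun s hs => ?_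
      have h1 : (E d)⁻¹ * s * E d ∈ S := by
        have := hconjS d⁻¹ s hs
        rwa [map_inv, inv_inv] at this
      have e : E (sr 0 * d * sr 0 * d⁻¹) * s * (E (sr 0 * d * sr 0 * d⁻¹))⁻¹ = s := by
        calc _ = v * (E d * (v * ((E d)⁻¹ * s * E d) * v) * (E d)⁻¹) * v := by
              simp only [map_mul, map_inv, mul_inv_rev, inv_inv, ← hv_def, hvi]; group
          _ = v * (E d * ((E d)⁻¹ * s * E d)⁻¹ * (E d)⁻¹) * v := by rw [hinv _ h1]
          _ = v * s⁻¹ * v := by group
          _ = s := by rw [hinv _ (inv_mem hs), inv_inv]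
      exact mul_inv_eq_iff_eq_mul.mp e
    exact absurd (key (sr 1)) (by decide)
  obtain ⟨b₀, hb₀S, hb₀1, hvb₀⟩ : ∃ b ∈ S, b ≠ 1 ∧ v * b * v = b⁻¹ := by
    by_contra hno
    push Not at hno
    have hfix : ∀ s ∈ S, v * s * v = s := fun s hs => by
      by_contra h
      refine hno _ (mul_mem (hvS s hs) (inv_mem hs)) (fun h' => h (mul_inv_eq_one.mp h')) ?_
      calc v * (v * s * v * s⁻¹) * v = v * (v * s * v) * v * (v * s * v)⁻¹ := by
            simp only [mul_assoc, mul_inv_rev, hvi]
            simp only [← mul_assoc v v, hv, one_mul]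
        _ = (v * s * v * s⁻¹)⁻¹ := by
            rw [hvv]
            simp only [mul_inv_rev, inv_inv, mul_assoc]
    have := hfaith (sr 0) fun s hs => by
      rw [← hv_def]
      conv_rhs => rw [← hfix s hs]
      rw [mul_assoc _ v v, hv, mul_one]
    exact absurd this (by decide)
  -- exponent three
  have hexp : ∀ s ∈ S, s ≠ 1 → (∀ t ∈ S, ∃ n : ℕ, t = s ^ n) → False := by
    intro s hs hs1 hall
    obtain ⟨i, hi⟩ := hall a haS
    obtain ⟨j, hj⟩ := hall b₀ hb₀S
    obtain ⟨k, hk⟩ := hall _ (hvS s hs)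
    have ea : a ^ k = a := by
      conv_rhs => rw [← hva]
      have hp : v * s ^ i * v = (v * s * v) ^ i := by
        have h := conj_pow (i := i) (a := v) (b := s)
        rw [hvi] at h
        exact h.symm
      rw [hi, hp, hk, ← pow_mul, ← pow_mul, mul_comm]
    have eb : b₀ ^ k = b₀⁻¹ := by
      rw [← hvb₀]
      have hp : v * s ^ j * v = (v * s * v) ^ j := by
        have h := conj_pow (i := j) (a := v) (b := s)
        rw [hvi] at h
        exact h.symm
      rw [hj, hp, hk, ← pow_mul, ← pow_mul, mul_comm]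
    have h3a : ∀ t ∈ S, t ≠ 1 → 3 ∣ orderOf t := by
      intro t ht ht1
      obtain ⟨n, -, hn⟩ := (Nat.dvd_prime_pow Nat.prime_three).mp (show orderOf t ∣ 3 ^ 2 from h3 t ht)
      rcases n with _ | n
      · exact absurd (orderOf_eq_one_iff.mp (by simpa using hn)) ht1
      · exact hn ▸ dvd_pow_self 3 (Nat.succ_ne_zero n)
    have h5 : b₀ ^ (k + 1) = 1 := by rw [pow_succ, eb, inv_mul_cancel]
    have h6 : (3 : ℕ) ∣ k + 1 := (h3a b₀ hb₀S hb₀1).trans (orderOf_dvd_of_pow_eq_one h5)
    have h7 : 3 ∣ k - 1 ∧ 0 < k := by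
      rcases Nat.eq_zero_or_pos k with rfl | hk0
      · rw [pow_zero] at ea; exact absurd ea.symm ha1
      refine ⟨(h3a a haS ha1).trans (orderOf_dvd_of_pow_eq_one ?_), hk0⟩
      apply mul_right_cancel (b := a)
      rw [← pow_succ, Nat.sub_add_cancel hk0, ea, one_mul]
    omega
  have hcube : ∀ s ∈ S, s ^ 3 = 1 := by
    intro s hs
    by_contra h
    have h9 : orderOf s = 9 := by
      obtain ⟨n, hn2, hn⟩ := (Nat.dvd_prime_pow Nat.prime_three).mp (show orderOf s ∣ 3 ^ 2 from h3 s hs)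
      interval_cases n
      · exact absurd (by rw [show s = 1 from orderOf_eq_one_iff.mp (by simpa using hn)]; simp) h
      · exact absurd (by rw [show 3 = orderOf s by simpa using hn.symm]; exact pow_orderOf_eq_one s) h
      · simpa using hn
    have hgen : zpowers s = S :=
      Subgroup.eq_of_le_of_card_ge (zpowers_le.mpr hs) (by rw [Nat.card_zpowers, h9, hcard])
    refine hexp s hs (fun h' => h (by rw [h', one_pow])) fun t ht => ?_
    obtain ⟨n, hn⟩ := mem_powers_iff_mem_zpowers.mpr (hgen.ge ht)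
    exact ⟨n, hn.symm⟩
  -- coordinates
  let ψ : ZMod 3 × ZMod 3 → G := fun u => a ^ u.1.val * b₀ ^ u.2.val
  have hψS : ∀ u, ψ u ∈ S := fun u => mul_mem (pow_mem haS _) (pow_mem hb₀S _)
  have hψadd : ∀ u t, ψ (u + t) = ψ u * ψ t := by
    intro u t
    have hk : ∀ (g : G) (i j : ZMod 3), g ∈ S → g ^ (i + j).val = g ^ i.val * g ^ j.val := by
      intro g i j hg
      rw [ZMod.val_add, ← pow_add, pow_eq_pow_mod (i.val + j.val) (hcube g hg)]
    simp only [ψ, Prod.fst_add, Prod.snd_add, hk _ _ _ haS, hk _ _ _ hb₀S]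
    rw [mul_assoc, ← mul_assoc (a ^ t.1.val), hcomm _ (pow_mem haS _) _ (pow_mem hb₀S _)]
    simp only [mul_assoc]
  have hψa : ψ (1, 0) = a := by simp [ψ, ZMod.val_one]
  have hψb : ψ (0, 1) = b₀ := by simp [ψ, ZMod.val_one]
  have hψ0 : ψ 0 = 1 := by simp [ψ]
  have hψneg : ∀ u, ψ (-u) = (ψ u)⁻¹ := fun u =>
    eq_inv_of_mul_eq_one_left (by rw [← hψadd, neg_add_cancel, hψ0])
  have hψpow : ∀ (k : ℕ) u, ψ u ^ k = ψ (k • u) := fun k u => by
    induction k with
    | zero => simp [hψ0]
    | succ k ih => rw [pow_succ, ih, succ_nsmul, hψadd]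
  have hlin : ∀ (g : G) (α β : ZMod 3 × ZMod 3), g * g = 1 → g * a * g = ψ α → g * b₀ * g = ψ β →
      ∀ u, g * ψ u * g = ψ (u.1.val • α + u.2.val • β) := by
    intro g α β hg ha' hb' u
    have hgi : g⁻¹ = g := inv_eq_of_mul_eq_one_right hg
    rw [hψadd, ← hψpow, ← hψpow, ← ha', ← hb']
    nth_rewrite 2 [← hgi]
    nth_rewrite 4 [← hgi]
    nth_rewrite 6 [← hgi]
    rw [conj_pow, conj_pow]
    show g * (a ^ u.1.val * b₀ ^ u.2.val) * g⁻¹ = _
    group
  have hvψ : ∀ u, v * ψ u * v = ψ (u.1, -u.2) := fun u => by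
    rw [hlin v (1, 0) (0, 2) hv (by rw [hψa, hva])
      (by rw [show ((0, 2) : ZMod 3 × ZMod 3) = -(0, 1) by decide, hψneg, hψb, hvb₀]) u]
    congr 1
    revert u; decide
  have hψinj0 : ∀ u, ψ u = 1 → u = 0 := by
    rintro ⟨i, j⟩ h
    have h1 : ψ ((i, j) + -(i, -j)) = 1 := by
      rw [hψadd, hψneg, h, ← hvψ (i, j), h, mul_one, hv]; simp
    have hcases : ∀ x : ZMod 3, x = 0 ∨ x = 1 ∨ x = 2 := by decide
    rcases hcases j with rfl | rfl | rfl
    · rcases hcases i with rfl | rfl | rfl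
      · rfl
      · exact absurd (hψa.symm.trans h) ha1
      · rw [show ((2, 0) : ZMod 3 × ZMod 3) = -(1, 0) by decide, hψneg, hψa, inv_eq_one] at h
        exact absurd h ha1
    · rw [show (i, (1 : ZMod 3)) + -(i, -1) = -(0, 1) by clear h h1; revert i; decide, hψneg, hψb,
        inv_eq_one] at h1
      exact absurd h1 hb₀1
    · rw [show (i, (2 : ZMod 3)) + -(i, -2) = (0, 1) by clear h h1; revert i; decide, hψb] at h1
      exact absurd h1 hb₀1
  have hψinj : Function.Injective ψ := fun u t h => by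
    have : ψ (u + -t) = 1 := by rw [hψadd, hψneg, h, mul_inv_cancel]
    have := hψinj0 _ this
    rwa [← sub_eq_add_neg, sub_eq_zero] at this
  have hψsurj : ∀ s ∈ S, ∃ u, ψ u = s := by
    intro s hs
    have hinj : Function.Injective (fun u => (⟨ψ u, hψS u⟩ : S)) := fun u t h =>
      hψinj (congrArg Subtype.val h)
    obtain ⟨u, hu⟩ := (hinj.bijective_of_nat_card_le (by
      rw [hcard, Nat.card_prod, Nat.card_zmod])).2 ⟨s, hs⟩
    exact ⟨u, congrArg Subtype.val hu⟩
  obtain ⟨α, hα⟩ := hψsurj _ (hwS a haS)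
  obtain ⟨β, hβ⟩ := hψsurj _ (hwS b₀ hb₀S)
  have hwψ := hlin w α β hw hα.symm hβ.symm
  have hmat : α.1 = 0 ∧ β.2 = 0 := by
    have hw2 : ∀ u, w * (w * ψ u * w) * w = ψ u := fun u => by
      calc w * (w * ψ u * w) * w = w * w * ψ u * (w * w) := by group
        _ = ψ u := by rw [hw]; group
    have e1 := hw2 (1, 0)
    rw [hwψ, hwψ] at e1
    have e1 := hψinj e1
    have e2 := hw2 (0, 1)
    rw [hwψ, hwψ] at e2
    have e2 := hψinj e2
    have hne : α.2 ≠ 0 ∨ β.1 ≠ 0 := by
      by_contra h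
      push Not at h
      have key : sr 0 * sr 1 * sr 0 * sr 1 = (1 : DihedralGroup 4) := by
        refine hfaith _ fun s hs => ?_
        obtain ⟨u, rfl⟩ := hψsurj s hs
        have e : E (sr 0 * sr 1 * sr 0 * sr 1) * ψ u * (E (sr 0 * sr 1 * sr 0 * sr 1))⁻¹ = ψ u := by
          calc _ = v * (w * (v * (w * ψ u * w) * v) * w) * v := by
                simp only [map_mul, mul_inv_rev, ← hv_def, ← hw_def, hvi, hwi]; group
            _ = ψ u := by
                rw [hwψ, hvψ, hwψ, hvψ]
                congr 1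
                obtain ⟨h1, h2⟩ := h
                obtain ⟨i, j⟩ := α
                obtain ⟨k, l⟩ := β
                simp only at h1 h2
                subst h1 h2
                clear * - e1 e2
                revert e1 e2 i l u
                decide
        exact mul_inv_eq_iff_eq_mul.mp e
      exact absurd key (by decide)
    have hcv : ∀ u, v * (w * v * w) * ψ u * (v * (w * v * w))⁻¹ =
        (w * v * w) * v * ψ u * ((w * v * w) * v)⁻¹ := fun u => by
      have : v * (w * v * w) = (w * v * w) * v := by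
        rw [hv_def, hw_def, ← map_mul, ← map_mul, ← map_mul, ← map_mul]
        exact congrArg E (by decide)
      rw [this]
    have e3 : ∀ u, v * (w * (v * (w * ψ u * w) * v) * w) * v =
        w * (v * (w * (v * ψ u * v) * w) * v) * w := fun u => by
      have h := hcv u
      simp only [mul_inv_rev, hvi, hwi, mul_assoc] at h ⊢
      exact h
    have e4 := e3 (1, 0)
    have e5 := e3 (0, 1)
    simp only [hwψ, hvψ] at e4 e5
    have e4 := hψinj e4
    have e5 := hψinj e5
    exact matrix_cases α β e1 e2 hne e4 e5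
  -- the generators
  set b := w * a * w with hb_def
  have hbS : b ∈ S := hwS a haS
  have hα' : α = (0, α.2) ∧ α.2 ≠ 0 := by
    refine ⟨Prod.ext hmat.1 rfl, fun h => ha1 ?_⟩
    have : α = 0 := Prod.ext hmat.1 h
    rw [this, hψ0] at hα
    exact conj_eq_one_iff.mp (show w * a * w⁻¹ = 1 by rw [hwi]; exact hα.symm)
  have hvb : v * b * v = b⁻¹ := by
    rw [← hα, hvψ, ← hψneg]
    congr 1
    rw [hα'.1]; simp
  have hgen : ∀ s ∈ S, ∃ i j : Fin 3, s = a ^ (i : ℕ) * b ^ (j : ℕ) := by
    intro s hs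
    obtain ⟨u, rfl⟩ := hψsurj s hs
    obtain ⟨i, j, h⟩ : ∃ i j : Fin 3, u = (i : ℕ) • ((1, 0) : ZMod 3 × ZMod 3) + (j : ℕ) • α := by
      rw [hα'.1]
      have key : ∀ (u : ZMod 3 × ZMod 3) (t : ZMod 3), t ≠ 0 → ∃ i j : Fin 3,
          u = (i : ℕ) • ((1, 0) : ZMod 3 × ZMod 3) + (j : ℕ) • ((0, t) : ZMod 3 × ZMod 3) := by decide
      exact key u _ hα'.2
    exact ⟨i, j, by rw [h, hψadd, ← hψpow, ← hψpow, hψa, hα]⟩
  have hwb : w * b * w = a := by
    rw [hb_def]
    calc w * (w * a * w) * w = w * w * a * (w * w) := by group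
      _ = a := by rw [hw]; group
  have hvw : Commute v (w * v * w) := by
    show v * (w * v * w) = (w * v * w) * v
    rw [hv_def, hw_def, ← map_mul, ← map_mul, ← map_mul, ← map_mul]
    exact congrArg E (by decide)
  have hT : ∀ d, ∀ t ∈ ({a, a⁻¹, b, b⁻¹} : Set G), E d * t * (E d)⁻¹ ∈ ({a, a⁻¹, b, b⁻¹} : Set G) := by
    have hv0 : ∀ t ∈ ({a, a⁻¹, b, b⁻¹} : Set G), v * t * v⁻¹ ∈ ({a, a⁻¹, b, b⁻¹} : Set G) := by
      intro t ht
      rcases ht with rfl | rfl | rfl | rfl
      · rw [hvi, hva]; simp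
      · rw [← conj_inv, hvi, hva]; simp
      · rw [hvi, hvb]; simp
      · rw [← conj_inv, hvi, hvb]; simp
    have hw0 : ∀ t ∈ ({a, a⁻¹, b, b⁻¹} : Set G), w * t * w⁻¹ ∈ ({a, a⁻¹, b, b⁻¹} : Set G) := by
      intro t ht
      rcases ht with rfl | rfl | rfl | rfl
      · rw [hwi, ← hb_def]; simp
      · rw [← conj_inv, hwi, ← hb_def]; simp
      · rw [hwi, hwb]; simp
      · rw [← conj_inv, hwi, hwb]; simp
    have hwords : ∀ d : DihedralGroup 4, ∃ l ∈ ([[], [sr 0], [sr 1], [sr 0, sr 1], [sr 1, sr 0],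
        [sr 0, sr 1, sr 0], [sr 1, sr 0, sr 1], [sr 0, sr 1, sr 0, sr 1]] :
          List (List (DihedralGroup 4))), l.prod = d := by decide
    intro d
    obtain ⟨l, hl, rfl⟩ := hwords d
    have hl' : ∀ x ∈ l, x = sr 0 ∨ x = sr 1 := by revert l; decide
    clear hl
    induction l with
    | nil => simp
    | cons x l ih =>
      intro t ht
      have h1 := ih (fun y hy => hl' y (List.mem_cons_of_mem x hy)) t ht
      rw [List.prod_cons, map_mul,
        show E x * E l.prod * t * (E x * E l.prod)⁻¹ =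
          E x * (E l.prod * t * (E l.prod)⁻¹) * (E x)⁻¹ by group]
      rcases hl' x List.mem_cons_self with rfl | rfl
      · exact hv0 _ h1
      · exact hw0 _ h1
  have hcomm' : ∀ s ∈ S, ∀ t ∈ S, s * t * s⁻¹ = t := fun s hs t ht => by
    rw [hcomm s hs t ht]; group
  let D : Dih G :=
    { P := P
      a := a
      b := b
      ha := hSP ▸ haS
      hb := hSP ▸ hbS
      ha3 := hcube a haS
      hb3 := hcube b hbS
      card := by rw [← hSP]; exact hcard
      gen := fun s hs => hgen s (hSP ▸ hs)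
      cent := by
        intro s hs hs1
        rw [← hSP] at hs ⊢
        exact hcent s hs hs1
      self_cent := by rw [← hSP, hC]
      mono := by
        intro g hg t ht
        rw [← hSP] at hg
        obtain ⟨d, hd⟩ := hEg g hg
        have htS : E d * t * (E d)⁻¹ ∈ S := by
          refine hconjS d t ?_
          rcases ht with rfl | rfl | rfl | rfl
          exacts [haS, inv_mem haS, hbS, inv_mem hbS]
        have e : g * t * g⁻¹ = E d * t * (E d)⁻¹ := by
          conv_rhs => rw [← hcomm' _ hd _ htS]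
          group
        rw [e]
        exact hT d t ht
      conj_a_inv := isConj_iff.mpr ⟨w * v * w, by
        rw [inv_eq_of_mul_eq_one_right (show (w * v * w) * (w * v * w) = 1 by
          rw [show w * v * w * (w * v * w) = w * v * (w * w) * v * w by group, hw, mul_one,
            mul_assoc w, hv, mul_one, hw])]
        calc w * v * w * a * (w * v * w) = w * (v * (w * a * w) * v) * w := by group
          _ = w * b⁻¹ * w := by rw [← hb_def, hvb]
          _ = a⁻¹ := by rw [show w * b⁻¹ * w = (w⁻¹ * b * w⁻¹)⁻¹ by group, hwi, hwb]⟩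
      conj_a_b := isConj_iff.mpr ⟨w, by rw [hwi]⟩
      conj_ab := isConj_iff.mpr ⟨v, by
        rw [hvi, show v * (a * b) * v = v * a * (v * v) * b * v by rw [hv]; group,
          show v * a * (v * v) * b * v = v * a * v * (v * b * v) by group, hva, hvb]⟩
      conj_ab_inv := isConj_iff.mpr ⟨v * (w * v * w), by
        have h1 : (w * v * w) * (a * b) * (w * v * w)⁻¹ = a⁻¹ * b := by
          rw [mul_inv_rev, mul_inv_rev, hvi, hwi]
          calc w * v * w * (a * b) * (w * (v * w))
              = w * (v * (w * a * w) * v * (v * (w * b * w) * v)) * w := by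
                simp only [mul_assoc]; rw [← mul_assoc v v, hv, one_mul, ← mul_assoc w w, hw, one_mul]
            _ = w * (b⁻¹ * a) * w := by rw [← hb_def, hvb, hwb, hva]
            _ = a⁻¹ * b := by
                rw [show w * (b⁻¹ * a) * w = (w⁻¹ * b * w⁻¹)⁻¹ * (w⁻¹ * a * w) by group, hwi, hwb,
                  ← hb_def]
        rw [show v * (w * v * w) * (a * b) * (v * (w * v * w))⁻¹ =
          v * ((w * v * w) * (a * b) * (w * v * w)⁻¹) * v⁻¹ by group, h1, hvi,
          show v * (a⁻¹ * b) * v = v * a⁻¹ * v * (v * b * v) by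
            simp only [mul_assoc]; rw [← mul_assoc v v, hv, one_mul],
          hvb, show v * a⁻¹ * v = (v⁻¹ * a * v⁻¹)⁻¹ by group, hvi, hva, mul_inv_rev]
        rw [← mul_inv_rev, ← mul_inv_rev, hcomm _ haS _ hbS]⟩
      v := v
      w := w
      hv := hv
      hw := hw
      hva := hva
      hvb := hvb
      hwa := hb_def.symm
      hcomm := hvw }
  exact ⟨D, hSP.symm, hN72⟩

end Cfsg.Agent.BC87.Sym6
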